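import Cfsg.Agent.Techniques.Basic
import Cfsg.Agent.Lib.CharP.Basic

/-!
Existence of critical subgroups of finite p-groups (Thompson).
-/

set_option autoImplicit false

namespace Cfsg.Agent.Techniques.Critical

open Subgroup
open scoped commutatorElement

variable {P : Type*} [Group P]

/-- Characteristic, commutators with the group central in it, and all `p`-th powers central in it. -/
def Good (p : ℕ) (H : Subgroup P) : Prop :=
  H.Characteristic ∧ ⁅H, (⊤ : Subgroup P)⁆ ≤ H ⊓ centralizer (H : Set P) ∧
    ∀ x ∈ H, x ^ p ∈ centralizer (H : Set P)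

/-- Centralising elements which modulo `H` are central of exponent `p`. -/
def ext (p : ℕ) (H : Subgroup P) [H.Normal] : Subgroup P where
  carrier := {x | x ∈ centralizer (H : Set P) ∧ x ^ p ∈ H ∧ ∀ g : P, ⁅x, g⁆ ∈ H}
  one_mem' := ⟨one_mem _, by rw [one_pow]; exact one_mem _,
    fun g => by rw [commutatorElement_one_left]; exact one_mem _⟩
  mul_mem' := by
    rintro x y ⟨hx1, hx2, hx3⟩ ⟨hy1, hy2, hy3⟩
    refine ⟨mul_mem hx1 hy1, ?_, fun g => ?_⟩
    · rw [← QuotientGroup.eq_one_iff, QuotientGroup.mk_pow, QuotientGroup.mk_mul]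
      have hc : Commute (x : P ⧸ H) (y : P ⧸ H) := by
        rw [← commutatorElement_eq_one_iff_commute, ← QuotientGroup.mk'_apply,
          ← QuotientGroup.mk'_apply, ← map_commutatorElement, QuotientGroup.mk'_apply,
          QuotientGroup.eq_one_iff]
        exact hx3 y
      rw [hc.mul_pow, ← QuotientGroup.mk_pow, ← QuotientGroup.mk_pow,
        (QuotientGroup.eq_one_iff _).mpr hx2, (QuotientGroup.eq_one_iff _).mpr hy2, mul_one]
    · have e : ⁅x * y, g⁆ = x * ⁅y, g⁆ * x⁻¹ * ⁅x, g⁆ := by
        simp only [commutatorElement_def]; group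
      rw [e]
      exact mul_mem (Normal.conj_mem inferInstance _ (hy3 g) x) (hx3 g)
  inv_mem' := by
    rintro x ⟨hx1, hx2, hx3⟩
    refine ⟨inv_mem hx1, by rw [inv_pow]; exact inv_mem hx2, fun g => ?_⟩
    have e : ⁅x⁻¹, g⁆ = x⁻¹ * ⁅x, g⁆⁻¹ * (x⁻¹)⁻¹ := by
      simp only [commutatorElement_def]; group
    rw [e]
    exact Normal.conj_mem inferInstance _ (inv_mem (hx3 g)) x⁻¹

theorem mem_ext {p : ℕ} {H : Subgroup P} [H.Normal] {x : P} :
    x ∈ ext p H ↔ x ∈ centralizer (H : Set P) ∧ x ^ p ∈ H ∧ ∀ g : P, ⁅x, g⁆ ∈ H :=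
  Iff.rfl

theorem ext_characteristic {p : ℕ} {H : Subgroup P} [H.Characteristic] :
    (ext p H).Characteristic := by
  refine characteristic_iff_map_le.mpr fun φ => map_le_iff_le_comap.mpr fun x hx => ?_
  rw [mem_ext] at hx
  obtain ⟨hx1, hx2, hx3⟩ := hx
  have hH : ∀ z ∈ H, φ z ∈ H := fun z hz =>
    characteristic_iff_map_le.mp (inferInstance : H.Characteristic) φ (mem_map_of_mem _ hz)
  refine mem_ext.mpr ⟨?_, ?_, fun g => ?_⟩
  · exact characteristic_iff_map_le.mp (inferInstance : (centralizer (H : Set P)).Characteristic) φ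
      (mem_map_of_mem _ hx1)
  · show φ x ^ p ∈ H
    rw [← map_pow]
    exact hH _ hx2
  · show ⁅φ x, g⁆ ∈ H
    rw [← φ.apply_symm_apply g, ← map_commutatorElement]
    exact hH _ (hx3 _)

theorem good_bot (p : ℕ) : Good p (⊥ : Subgroup P) := by
  refine ⟨inferInstance, ?_, fun x hx => ?_⟩
  · rw [commutator_bot_left]; exact bot_le
  · rw [mem_bot.mp hx, one_pow]; exact one_mem _

/-- Existence of a critical subgroup. -/
theorem exists_critical [Finite P] {p : ℕ} [hp : Fact p.Prime] (hP : IsPGroup p P) :
    ∃ H : Subgroup P, H.Characteristic ∧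
      (frattini H).map H.subtype ≤ centralizer (H : Set P) ∧
      ⁅H, (⊤ : Subgroup P)⁆ ≤ H ⊓ centralizer (H : Set P) ∧
      centralizer (H : Set P) ≤ H := by
  obtain ⟨H, -, hH⟩ :=
    (Set.toFinite {K : Subgroup P | Good p K}).exists_le_maximal (good_bot p : (⊥ : Subgroup P) ∈ _)
  obtain ⟨hchar, hcom, hpow⟩ := hH.1
  have := hchar
  refine ⟨H, hchar, ?_, hcom, ?_⟩
  · let f := (QuotientGroup.mk' ((centralizer (H : Set P)).subgroupOf H))
    have hker : f.ker = (centralizer (H : Set P)).subgroupOf H := QuotientGroup.ker_mk' _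
    have h1 : frattini H ≤ f.ker := by
      refine CharP.frattini_le_ker f (p := p) (fun a b => ?_) fun a => ?_
      · rw [← commutatorElement_eq_one_iff_commute, ← map_commutatorElement, ← MonoidHom.mem_ker,
          hker, mem_subgroupOf]
        exact (hcom (commutator_mem_commutator a.2 (mem_top (b : P)))).2
      · rw [← map_pow, ← MonoidHom.mem_ker, hker, mem_subgroupOf, SubmonoidClass.coe_pow]
        exact hpow _ a.2
    rw [hker] at h1
    rw [map_le_iff_le_comap]
    exact h1
  · by_contra hC
    -- a central element of order `p` in the image of the centralizer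
    let π := QuotientGroup.mk' H
    have hN : (centralizer (H : Set P)).map π ≠ ⊥ := by
      rwa [Ne, Subgroup.map_eq_bot_iff, QuotientGroup.ker_mk']
    have : ((centralizer (H : Set P)).map π).Normal :=
      Normal.map inferInstance _ (QuotientGroup.mk'_surjective H)
    obtain ⟨b, hb, hb1, hbc⟩ := exists_center_mem (hP.to_quotient H) hN
    obtain ⟨k, hk⟩ := IsPGroup.iff_orderOf.mp (hP.to_quotient H) b
    cases k with
    | zero => exact hb1 (orderOf_eq_one_iff.mp (by simpa using hk))
    | succ k =>
      have hz : b ^ p ^ k ≠ 1 := fun h => by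
        have h2 := Nat.le_of_dvd (pow_pos hp.out.pos k) (orderOf_dvd_of_pow_eq_one h)
        rw [hk] at h2
        exact absurd h2 (not_le.mpr (Nat.pow_lt_pow_right hp.out.one_lt (Nat.lt_succ_self k)))
      obtain ⟨x, hx, hxb⟩ := mem_map.mp (pow_mem hb (p ^ k))
      have hxX : x ∈ ext p H := by
        refine mem_ext.mpr ⟨hx, ?_, fun g => ?_⟩
        · rw [← QuotientGroup.eq_one_iff, ← QuotientGroup.mk'_apply, map_pow, hxb, ← pow_mul,
            ← pow_succ, ← hk, pow_orderOf_eq_one]
        · rw [← QuotientGroup.eq_one_iff, ← QuotientGroup.mk'_apply, map_commutatorElement, hxb,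
            commutatorElement_eq_one_iff_commute]
          exact (mem_center_iff.mp (pow_mem hbc (p ^ k)) _).symm
      have hxH : x ∉ H := fun h => hz (by
        rw [← hxb]; exact (QuotientGroup.eq_one_iff x).mpr h)
      have : (ext p H).Characteristic := ext_characteristic
      -- elements central in `H` are central in the extension
      have hZ : H ⊓ centralizer (H : Set P) ≤ centralizer ((H ⊔ ext p H : Subgroup P) : Set P) := by
        rw [le_centralizer_iff]
        refine sup_le (le_centralizer_iff.mpr inf_le_right) ?_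
        intro y hy
        exact centralizer_le (SetLike.coe_subset_coe.mpr inf_le_left) hy.1
      have hdec : ∀ y ∈ H ⊔ ext p H, ∃ h ∈ H, ∃ w ∈ ext p H, h * w = y := fun y hy =>
        mem_sup_of_normal_left.mp hy
      have hgood : Good p (H ⊔ ext p H) := by
        refine ⟨inferInstance, commutator_le.mpr fun y hy g _ => ?_, fun y hy => ?_⟩
        · obtain ⟨h, hh, w, hw, rfl⟩ := hdec y hy
          have hmem : ⁅h * w, g⁆ ∈ H ⊓ centralizer (H : Set P) := by
            have e : ⁅h * w, g⁆ = h * ⁅w, g⁆ * h⁻¹ * ⁅h, g⁆ := by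
              simp only [commutatorElement_def]; group
            rw [e]
            refine mul_mem (Normal.conj_mem (H := H ⊓ centralizer (H : Set P)) inferInstance _
              (mem_inf.mpr ⟨hw.2.2 g, ?_⟩) h) (hcom (commutator_mem_commutator hh (mem_top g)))
            have e2 : ⁅w, g⁆ = w * (g * w⁻¹ * g⁻¹) := by
              simp only [commutatorElement_def]; group
            rw [e2]
            exact mul_mem hw.1 (Normal.conj_mem inferInstance _ (inv_mem hw.1) g)
          exact ⟨le_sup_left (b := ext p H) hmem.1, hZ hmem⟩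
        · obtain ⟨h, hh, w, hw, rfl⟩ := hdec y hy
          rw [Commute.mul_pow (mem_centralizer_iff.mp hw.1 h hh)]
          exact mul_mem (hZ ⟨pow_mem hh p, hpow h hh⟩) (hZ ⟨hw.2.1, pow_mem hw.1 p⟩)
      exact hxH (hH.2 hgood le_sup_left (le_sup_right (a := H) hxX))

end Cfsg.Agent.Techniques.Critical
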