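import Cfsg.Agent.Techniques.Basic

/-!
Sylow subgroups of subgroups, in terms of relative indices.
-/

set_option autoImplicit false

namespace Cfsg.Agent.Techniques

variable {G : Type*} [Group G]

/-- A `p`-subgroup of index prime to `p` in `N` absorbs every `p`-subgroup of `N` up to `N`-conjugation. -/
theorem exists_conj_le_of_not_dvd_relIndex [Finite G] {p : ℕ} [Fact p.Prime] {Q N R : Subgroup G}
    (hQN : Q ≤ N) (hQ : IsPGroup p Q) (hdvd : ¬ p ∣ Q.relIndex N) (hR : IsPGroup p R)
    (hRN : R ≤ N) : ∃ c ∈ N, ∀ r ∈ R, c * r * c⁻¹ ∈ Q := by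
  let S : Sylow p N := (hQ.comap_subtype (K := N)).toSylow hdvd
  obtain ⟨x, hx⟩ := exists_conj_le_sylow (hR.comap_subtype (K := N)) S
  exact ⟨x, x.2, fun r hr => hx ⟨r, hRN hr⟩ hr⟩

theorem map_conj_inf (g : G) (H K : Subgroup G) :
    (H ⊓ K).map (MulAut.conj g).toMonoidHom =
      H.map (MulAut.conj g).toMonoidHom ⊓ K.map (MulAut.conj g).toMonoidHom :=
  Subgroup.map_inf _ _ _ (MulAut.conj g).injective

theorem map_conj_centralizer (g : G) (s : Set G) :
    (Subgroup.centralizer s).map (MulAut.conj g).toMonoidHom =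
      Subgroup.centralizer ((fun x => g * x * g⁻¹) '' s) := by
  ext x
  simp only [mem_map_conj, Subgroup.mem_centralizer_iff, Set.forall_mem_image]
  refine forall₂_congr fun y _ => ⟨fun h => ?_, fun h => ?_⟩
  · have h2 := congrArg (fun t => g * t * g⁻¹) h
    simpa [mul_assoc] using h2
  · have h2 := congrArg (fun t => g⁻¹ * t * g) h
    simpa [mul_assoc] using h2

theorem map_conj_normalizer (g : G) (H : Subgroup G) :
    (Subgroup.normalizer (H : Set G)).map (MulAut.conj g).toMonoidHom =
      Subgroup.normalizer ((H.map (MulAut.conj g).toMonoidHom : Subgroup G) : Set G) := by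
  ext x
  rw [mem_map_conj, Subgroup.mem_normalizer_iff, Subgroup.mem_normalizer_iff]
  constructor
  · intro h y
    rw [mem_map_conj, mem_map_conj, h]
    simp [mul_assoc]
  · intro h y
    have := h (g * y * g⁻¹)
    rw [mem_map_conj, mem_map_conj] at this
    simpa [mul_assoc] using this

theorem relIndex_map_conj (g : G) (H K : Subgroup G) :
    (H.map (MulAut.conj g).toMonoidHom).relIndex (K.map (MulAut.conj g).toMonoidHom) = H.relIndex K :=
  Subgroup.relIndex_map_map_of_injective _ _ (MulAut.conj g).injective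

theorem isPGroup_inf {p : ℕ} (S : Sylow p G) (N : Subgroup G) : IsPGroup p ↥((S : Subgroup G) ⊓ N) :=
  IsPGroup.to_le S.2 inf_le_left

/-- A Sylow subgroup meets a normal subgroup in a subgroup of index prime to `p`. -/
theorem exists_sylow_of_not_dvd_relIndex [Finite G] {p : ℕ} [Fact p.Prime] {Q N : Subgroup G}
    (hQ : IsPGroup p Q) (hdvd : ¬ p ∣ Q.relIndex N) (hQN : Q ≤ N) :
    ∃ S : Sylow p N, (S : Subgroup N).map N.subtype = Q :=
  ⟨(hQ.comap_subtype (K := N)).toSylow hdvd, Subgroup.map_subgroupOf_eq_of_le hQN⟩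

/-- A Sylow subgroup meets a normal subgroup in index prime to `p`. -/
theorem not_dvd_relIndex_of_normal [Finite G] {p : ℕ} [Fact p.Prime] (P : Sylow p G) (N : Subgroup G)
    [N.Normal] : ¬ p ∣ ((P : Subgroup G) ⊓ N).relIndex N := by
  intro h
  have e1 := Subgroup.relIndex_mul_index (inf_le_left : (P : Subgroup G) ⊓ N ≤ P)
  have e2 := Subgroup.relIndex_mul_index (inf_le_right : (P : Subgroup G) ⊓ N ≤ N)
  rw [Subgroup.inf_relIndex_left] at e1
  obtain ⟨t, ht⟩ := Subgroup.relIndex_dvd_index_of_normal N (P : Subgroup G)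
  rw [← e1, ht, ← mul_assoc, mul_comm _ (N.relIndex (P : Subgroup G)), mul_assoc] at e2
  have h3 : N.relIndex (P : Subgroup G) ≠ 0 := Subgroup.index_ne_zero_of_finite
  exact P.not_dvd_index (Nat.eq_of_mul_eq_mul_left (Nat.pos_of_ne_zero h3) e2 ▸ h.mul_right t)

end Cfsg.Agent.Techniques
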