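import Cfsg.Agent.Lib.Golay.Small
import Cfsg.Agent.Lib.Involutions.ThompsonTransfer
import Cfsg.Agent.InvChar.GL23
import Cfsg.Agent.Lib.Classical.Linear
import Cfsg.Prelude.Def_Spor_Mathieu
import Cfsg.Prelude.Def_ClassificationStages

/-!
Simple groups with Sylow 2-subgroups of order 16 and an involution centralizer `GL(2,3)`: one class of
involutions; the involution centralizer of `M11`.
-/

set_option autoImplicit false
set_option maxRecDepth 20000

namespace Cfsg.Agent.Techniques.InvolutionPatternM11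

open Subgroup
open scoped Pointwise

local notation "Q₃" => GL (Fin 2) (ZMod 3)

/-! ### The abstract part -/

theorem gl_central : ∀ M : Matrix (Fin 2) (Fin 2) (ZMod 3), M * M = 1 → M ≠ 1 →
    M * !![1, 1; 0, 1] = !![1, 1; 0, 1] * M → M = -1 := by decide +kernel

theorem gl_det_one : ∀ M : Matrix (Fin 2) (Fin 2) (ZMod 3), M * M = 1 → M ≠ 1 → M.det = 1 → M = -1 := by
  decide +kernel

theorem eq_negOne {x : Q₃} (h2 : x * x = 1) (h1 : x ≠ 1)
    (h : (Commute x InvChar.GL23.X) ∨ Matrix.GeneralLinearGroup.det x = 1) :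
    (x : Matrix (Fin 2) (Fin 2) (ZMod 3)) = -1 := by
  have e2 : (x : Matrix (Fin 2) (Fin 2) (ZMod 3)) * x = 1 := congrArg Units.val h2
  have e1 : (x : Matrix (Fin 2) (Fin 2) (ZMod 3)) ≠ 1 := fun e => h1 (Units.ext e)
  rcases h with h | h
  · exact gl_central _ e2 e1 (congrArg Units.val h.eq)
  · exact gl_det_one _ e2 e1 (congrArg Units.val h)

/-- `G` is simple with Sylow 2-subgroups of order 16 and some involution centralizer `GL(2,3)`. -/
structure Datum (G : Type*) [Group G] where
  simple : IsSimpleGroup G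
  t : G
  ht : orderOf t = 2
  e : ↥(centralizer ({t} : Set G)) ≃* Q₃
  card : ∃ m, Odd m ∧ Nat.card G = 16 * m

namespace Datum

variable {G : Type*} [Group G] [Finite G] (D : Datum G)

/-- The embedding of `GL(2,3)`. -/
def f : Q₃ →* G := (centralizer ({D.t} : Set G)).subtype.comp D.e.symm.toMonoidHom

omit [Finite G] in
theorem f_injective : Function.Injective D.f :=
  (subtype_injective _).comp D.e.symm.injective

omit [Finite G] in
theorem e_t : ((D.e ⟨D.t, mem_centralizer_singleton_iff.mpr rfl⟩ : Q₃) :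
    Matrix (Fin 2) (Fin 2) (ZMod 3)) = -1 := by
  set u : ↥(centralizer ({D.t} : Set G)) := ⟨D.t, mem_centralizer_singleton_iff.mpr rfl⟩
  refine eq_negOne (x := D.e u) ?_ ?_ (Or.inl ?_)
  · rw [← map_mul, show u * u = 1 from Subtype.ext (Involutions.Basic.inv_sq_one D.ht), map_one]
  · intro h
    have : u = 1 := D.e.injective (h.trans (map_one _).symm)
    have h1 : D.t = 1 := congrArg Subtype.val this
    simpa [h1] using D.ht
  · have hc : Commute u (D.e.symm InvChar.GL23.X) :=
      Subtype.ext (mem_centralizer_singleton_iff.mp (D.e.symm InvChar.GL23.X).2).symm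
    simpa using hc.map D.e.toMonoidHom

theorem exists_sylow_map (P : Sylow 2 Q₃) :
    ∃ S : Sylow 2 G, (S : Subgroup G) = (P : Subgroup Q₃).map D.f := by
  haveI : Fact (Nat.Prime 2) := ⟨Nat.prime_two⟩
  obtain ⟨m, hm, hcard⟩ := D.card
  have hP : Nat.card (P : Subgroup Q₃) = 16 := by
    rw [P.card_eq_multiplicity, InvChar.GL23.card_GL]
    have : (48 : ℕ).factorization 2 = 4 := by
      rw [show (48 : ℕ) = 2 ^ 4 * 3 by norm_num, Nat.factorization_mul (by norm_num) (by norm_num),
        Nat.Prime.factorization_pow Nat.prime_two, Nat.Prime.factorization Nat.prime_three]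
      simp
    rw [this]
    norm_num
  refine ⟨Sylow.ofCard ((P : Subgroup Q₃).map D.f) ?_, rfl⟩
  rw [card_map_of_injective D.f_injective, hP, hcard, show (16 : ℕ) = 2 ^ 4 by norm_num,
    Nat.factorization_mul (by norm_num) hm.pos.ne', Nat.Prime.factorization_pow Nat.prime_two]
  simp [Nat.factorization_eq_zero_of_not_dvd (Nat.two_dvd_ne_zero.mpr (Nat.odd_iff.mp hm))]

theorem isConj_t {u : G} (hu : orderOf u = 2) : IsConj u D.t := by
  haveI : Fact (Nat.Prime 2) := ⟨Nat.prime_two⟩
  haveI := D.simple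
  obtain ⟨P⟩ : Nonempty (Sylow 2 Q₃) := inferInstance
  obtain ⟨S, hS⟩ := D.exists_sylow_map P
  set K := (Matrix.GeneralLinearGroup.det : Q₃ →* (ZMod 3)ˣ).ker
  have hK : K.index = 2 := by
    rw [Subgroup.index_ker, MonoidHom.range_eq_top.mpr Classical.Linear.det_surjective_of_nonempty,
      Subgroup.card_top]
    rw [Nat.card_eq_fintype_card, ZMod.card_units]
  have hrel : K.relIndex (P : Subgroup Q₃) = 2 := by
    have h0 := relIndex_dvd_index_of_normal K (P : Subgroup Q₃)
    rw [hK] at h0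
    refine ((Nat.dvd_prime Nat.prime_two).mp h0).resolve_left ?_
    intro h
    have h1 := index_dvd_of_le (relIndex_eq_one.mp h)
    rw [hK] at h1
    exact P.not_dvd_index h1
  have hno : ∀ H : Subgroup G, H.index ≠ 2 := fun H hH => by
    rcases (normal_of_index_eq_two hH).eq_bot_or_eq_top with h | h
    · rw [h, index_bot] at hH
      obtain ⟨m, hm, hcard⟩ := D.card
      have := hm.pos
      omega
    · rw [h, index_top] at hH
      omega
  set M := ((P : Subgroup Q₃) ⊓ K).map D.f with hM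
  obtain ⟨g, x, ⟨hxP, hxK⟩, hx⟩ := Involutions.ThompsonTransfer.exists_conj_mem hno S M
    (by rw [hM, hS]; exact map_mono inf_le_left)
    (by rw [hM, hS, relIndex_map_map_of_injective _ _ D.f_injective, inf_comm, inf_relIndex_right, hrel])
    u hu
  refine isConj_iff.mpr ⟨g, hx.symm.trans ?_⟩
  have ho : orderOf (g * u * g⁻¹) = 2 := by rw [← MulAut.conj_apply, MulEquiv.orderOf_eq, hu]
  rw [← hx, orderOf_injective D.f D.f_injective] at ho
  have hxm := eq_negOne (Involutions.Basic.inv_sq_one ho) (fun e => by simp [e] at ho) (Or.inr hxK)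
  have : x = D.e ⟨D.t, mem_centralizer_singleton_iff.mpr rfl⟩ := Units.ext (hxm.trans D.e_t.symm)
  rw [this]
  simp [f]

include D in
theorem nonempty_centralizer {u : G} (hu : orderOf u = 2) :
    Nonempty (↥(centralizer ({u} : Set G)) ≃* Q₃) := by
  obtain ⟨g, hg⟩ := isConj_iff.mp (D.isConj_t hu)
  refine ⟨((MulAut.conj g).subgroupMap _).trans ((MulEquiv.subgroupCongr ?_).trans D.e)⟩
  ext y
  rw [Subgroup.mem_map, mem_centralizer_singleton_iff, ← hg]
  constructor
  · rintro ⟨x, hx, rfl⟩
    exact ((Commute.conj_iff g).mpr (mem_centralizer_singleton_iff.mp hx)).eq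
  · intro hy
    refine ⟨g⁻¹ * y * g, mem_centralizer_singleton_iff.mpr ?_, by simp [mul_assoc]⟩
    have : Commute (g * (g⁻¹ * y * g) * g⁻¹) (g * u * g⁻¹) := by
      rw [commute_iff_eq]
      simpa [mul_assoc] using hy
    exact ((Commute.conj_iff g).mp this).eq

end Datum

theorem pattern {G H : Type*} [Group G] [Finite G] [Group H] [Finite H] (D : Datum G) (E : Datum H) :
    Cfsg.SameCentralizerInvolutionPattern G H := by
  obtain ⟨P⟩ : Nonempty (Sylow 2 Q₃) := inferInstance
  obtain ⟨S, hS⟩ := D.exists_sylow_map P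
  obtain ⟨T, hT⟩ := E.exists_sylow_map P
  let φ : ↥(S : Subgroup G) ≃* ↥(T : Subgroup H) :=
    (MulEquiv.subgroupCongr hS).trans
      ((((P : Subgroup Q₃).equivMapOfInjective D.f D.f_injective).symm.trans
        ((P : Subgroup Q₃).equivMapOfInjective E.f E.f_injective)).trans (MulEquiv.subgroupCongr hT.symm))
  have ho : ∀ a : ↥(S : Subgroup G), orderOf a = 2 → orderOf (a : G) = 2 ∧ orderOf ((φ a : _) : H) = 2 :=
    fun a ha => ⟨by rw [orderOf_coe, ha], by rw [orderOf_coe, MulEquiv.orderOf_eq, ha]⟩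
  refine ⟨S, T, φ, fun a b ha hb => ?_, fun a ha => ?_⟩
  · exact ⟨fun _ => (E.isConj_t (ho a ha).2).trans (E.isConj_t (ho b hb).2).symm,
      fun _ => (D.isConj_t (ho a ha).1).trans (D.isConj_t (ho b hb).1).symm⟩
  · obtain ⟨e₁⟩ := D.nonempty_centralizer (ho a ha).1
    obtain ⟨e₂⟩ := E.nonempty_centralizer (ho a ha).2
    exact ⟨e₁.trans e₂.symm⟩

/-! ### `M11` -/

open Cfsg.Agent.Golay.Basic Cfsg.Agent.Golay.Perm Cfsg.Agent.Golay.M24 Cfsg.Agent.Golay.Cert
  Cfsg.Agent.Golay.Small Cfsg.Agent.Golay.SmallData Cfsg.Agent.Golay.Trans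

/-- Two words act alike. -/
def sameW (v w : List ℕ) : Bool := (List.range 24).all fun i => runT m11Tabs v i == runT m11Tabs w i

noncomputable def ev (w : List ℕ) : ↥M11K := ⟨evalT m11Tabs w, m11_eq ▸ evalT_mem w⟩

theorem ev_append : ∀ v w : List ℕ, ev (v ++ w) = ev v * ev w
  | [], w => Subtype.ext (by simp [ev, evalT])
  | k :: v, w => Subtype.ext (by
      have := congrArg Subtype.val (ev_append v w)
      simp only [ev, Subgroup.coe_mul] at this ⊢
      rw [List.cons_append, evalT, evalT, this, mul_assoc])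

theorem ev_nil : ev [] = 1 := rfl

theorem ev_eq {v w : List ℕ} (h : sameW v w = true) : ev v = ev w := by
  simp only [sameW, List.all_eq_true, List.mem_range, beq_iff_eq] at h
  refine Subtype.ext (Equiv.ext fun p => ix_injective ?_)
  show ix (evalT m11Tabs v p) = ix (evalT m11Tabs w p)
  rw [ix_evalT m11Tabs_ok, ix_evalT m11Tabs_ok, h _ (ix_lt p)]

/-- The table of a word. -/
def sig (w : List ℕ) : List ℕ := (List.range 24).map (runT m11Tabs w)

theorem sig_eq {v w : List ℕ} (h : ev v = ev w) : sig v = sig w := by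
  refine List.map_congr_left fun i hi => ?_
  rw [List.mem_range] at hi
  rw [← ix_pt hi, ← ix_evalT m11Tabs_ok, ← ix_evalT m11Tabs_ok]
  exact congrArg (fun g : ↥M11K => ix ((g : Equiv.Perm Cfsg.GolayPt) (pt i))) h

def wi : List ℕ := [0, 1, 2, 3, 0, 1, 2, 3, 0]
def wj : List ℕ := [2, 3]
def wx : List ℕ := [2, 2, 1, 2, 1]
def wt : List ℕ := [3, 3, 2, 1, 0, 0, 3, 0]

theorem rel : InvChar.GL23.Rel (ev wi) (ev wj) (ev wx) (ev wt) := by
  have c : ∀ {v w : List ℕ}, sameW v w = true → ev v = ev w := ev_eq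
  have hx2 : (ev wx)⁻¹ = ev (wx ++ wx) := inv_eq_of_mul_eq_one_right (by
    rw [← ev_append, ← ev_nil]; exact c (by decide +kernel))
  have hi2 : (ev wi)⁻¹ = ev (wi ++ wi ++ wi) := inv_eq_of_mul_eq_one_right (by
    rw [← ev_append, ← ev_nil]; exact c (by decide +kernel))
  constructor
  · simp only [pow_succ, pow_zero, one_mul, ← ev_append]; rw [← ev_nil]; exact c (by decide +kernel)
  · simp only [← ev_append]; exact c (by decide +kernel)
  · simp only [pow_succ, pow_zero, one_mul, ← ev_append]; exact c (by decide +kernel)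
  · simp only [pow_succ, pow_zero, one_mul, ← ev_append]; rw [← ev_nil]; exact c (by decide +kernel)
  · rw [mul_inv_eq_iff_eq_mul]; simp only [← ev_append]; exact c (by decide +kernel)
  · rw [mul_inv_eq_iff_eq_mul]; simp only [← ev_append]; exact c (by decide +kernel)
  · simp only [← ev_append]; rw [← ev_nil]; exact c (by decide +kernel)
  · rw [mul_inv_eq_iff_eq_mul, hi2]; simp only [← ev_append]; exact c (by decide +kernel)
  · rw [mul_inv_eq_iff_eq_mul, hx2]; simp only [← ev_append]; exact c (by decide +kernel)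

/-- The inverse word. -/
def invW (w : List ℕ) : List ℕ := w.reverse.map fun k => (k + 2) % 4

/-- The central involution. -/
def wz : List ℕ := wi ++ wi

/-- Words giving 56 distinct conjugates of the involution. -/
def conjWords : List (List ℕ) :=
  [[], [0], [1], [2], [0, 0], [3, 0], [0, 1], [1, 1], [2, 1], [1, 2], [2, 2], [3, 2], [0, 0, 0], [1,
  0, 0], [2, 3, 0], [3, 3, 0], [0, 0, 1], [1, 0, 1], [3, 0, 1], [0, 1, 1], [1, 1, 1], [2, 1, 1], [2,
  2, 1], [3, 2, 1], [0, 1, 2], [1, 1, 2], [1, 2, 2], [2, 2, 2], [3, 2, 2], [0, 3, 2], [2, 3, 2], [3,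
  3, 2], [0, 0, 0, 0], [1, 0, 0, 0], [0, 1, 0, 0], [1, 1, 0, 0], [2, 1, 0, 0], [1, 2, 3, 0], [2, 2, 3,
  0], [3, 2, 3, 0], [0, 3, 3, 0], [2, 3, 3, 0], [3, 3, 3, 0], [0, 0, 0, 1], [1, 0, 0, 1], [3, 0, 0,
  1], [0, 1, 0, 1], [1, 1, 0, 1], [2, 1, 0, 1], [0, 3, 0, 1], [2, 3, 0, 1], [3, 3, 0, 1], [0, 0, 1,
  1], [1, 0, 1, 1], [0, 1, 1, 1], [1, 1, 1, 1]]

def formWord (p : Fin 4 × Fin 2 × Fin 3 × Fin 2) : List ℕ :=
  (List.replicate p.1.val wi).flatten ++ (List.replicate p.2.1.val wj).flatten ++
    (List.replicate p.2.2.1.val wx).flatten ++ (List.replicate p.2.2.2.val wt).flatten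

theorem ev_replicate (w : List ℕ) : ∀ n : ℕ, ev (List.replicate n w).flatten = ev w ^ n
  | 0 => by simp [ev_nil]
  | n + 1 => by rw [List.replicate_succ, List.flatten_cons, ev_append, ev_replicate w n, pow_succ']

theorem formWord_injective : ∀ p q, sig (formWord p) = sig (formWord q) → p = q := by decide +kernel

theorem conj_distinct : (conjWords.map fun w => sig (w ++ (wz ++ invW w))).Nodup := by decide +kernel

theorem conj_inv : (conjWords.all fun w => sameW (w ++ invW w) []) = true := by decide +kernel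

theorem nonempty_datum_M11K : Nonempty (Datum ↥M11K) := by
  classical
  set z := ev wz with hz
  set K := Subgroup.closure ({ev wi, ev wj, ev wx, ev wt} : Set ↥M11K) with hK
  have hcz : ∀ {v : List ℕ}, sameW (v ++ wz) (wz ++ v) = true → ev v ∈ centralizer ({z} : Set ↥M11K) :=
    fun h => mem_centralizer_singleton_iff.mpr (by rw [hz, ← ev_append, ← ev_append]; exact ev_eq h)
  have hKC : K ≤ centralizer ({z} : Set ↥M11K) := by
    rw [hK, Subgroup.closure_le]
    rintro u (rfl | rfl | rfl | rfl) <;> exact hcz (by decide +kernel)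
  have hK48 : Nat.card K = 48 := by
    refine le_antisymm (InvChar.GL23.card_closure_le rel) ?_
    have hmem : ∀ p, ev (formWord p) ∈ K := fun p => by
      rw [formWord, ev_append, ev_append, ev_append, ev_replicate, ev_replicate, ev_replicate, ev_replicate]
      exact K.mul_mem (K.mul_mem (K.mul_mem (K.pow_mem (Subgroup.subset_closure (by simp)) _)
        (K.pow_mem (Subgroup.subset_closure (by simp)) _))
        (K.pow_mem (Subgroup.subset_closure (by simp)) _)) (K.pow_mem (Subgroup.subset_closure (by simp)) _)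
    have h := Nat.card_le_card_of_injective (fun p => (⟨ev (formWord p), hmem p⟩ : K))
      fun p q h => formWord_injective p q (sig_eq (congrArg Subtype.val h))
    simpa using h
  set C := centralizer ({z} : Set ↥M11K) with hC
  have h56 : 56 ≤ C.index := by
    let f : Fin conjWords.length → ↥M11K ⧸ C := fun i => QuotientGroup.mk (ev (conjWords.get i))
    have hf : Function.Injective f := by
      intro i j hij
      have h1 := QuotientGroup.eq.mp hij
      rw [hC, mem_centralizer_singleton_iff] at h1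
      have hinv : ∀ i, (ev (conjWords.get i))⁻¹ = ev (invW (conjWords.get i)) := fun i =>
        inv_eq_of_mul_eq_one_right (by
          rw [← ev_append, ← ev_nil]
          exact ev_eq (List.all_eq_true.mp conj_inv _ (List.get_mem _ _)))
      have h2 : ev (conjWords.get i ++ (wz ++ invW (conjWords.get i))) =
          ev (conjWords.get j ++ (wz ++ invW (conjWords.get j))) := by
        rw [ev_append, ev_append, ev_append, ev_append, ← hinv, ← hinv, ← hz]
        set a := ev (conjWords.get i)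
        set b := ev (conjWords.get j)
        calc a * (z * a⁻¹) = a * (z * (a⁻¹ * b)) * b⁻¹ := by group
          _ = a * ((a⁻¹ * b) * z) * b⁻¹ := by rw [h1]
          _ = b * (z * b⁻¹) := by group
      have h3 := sig_eq h2
      have hnd := List.nodup_iff_injective_get.mp conj_distinct
      have := @hnd ⟨i, by simp⟩ ⟨j, by simp⟩ (by simpa using h3)
      simpa [Fin.ext_iff] using this
    have := Nat.card_le_card_of_injective f hf
    rw [Nat.card_fin, show conjWords.length = 56 from rfl] at this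
    exact this
  have hC48 : Nat.card C = 48 := by
    obtain ⟨m, hm⟩ := card_dvd_of_le hKC
    rw [hK48] at hm
    have h := C.card_mul_index
    rw [card_M11K, hm, mul_assoc, show (7920 : ℕ) = 48 * 165 by norm_num] at h
    have h1 : m * C.index = 165 := Nat.eq_of_mul_eq_mul_left (by norm_num) h
    have h2 : m ≤ 2 := by nlinarith
    interval_cases m <;> omega
  have hKeq : K = C := eq_of_le_of_card_ge hKC (by rw [hK48, hC48])
  have hgen : ∀ v, ev v ∈ ({ev wi, ev wj, ev wx, ev wt} : Set ↥M11K) → ev v ∈ C := fun v hv =>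
    hKC (Subgroup.subset_closure hv)
  let i' : C := ⟨ev wi, hgen _ (by simp)⟩
  let j' : C := ⟨ev wj, hgen _ (by simp)⟩
  let x' : C := ⟨ev wx, hgen _ (by simp)⟩
  let t' : C := ⟨ev wt, hgen _ (by simp)⟩
  have hrel : InvChar.GL23.Rel i' j' x' t' :=
    ⟨Subtype.ext rel.i4, Subtype.ext rel.jj, Subtype.ext rel.ji, Subtype.ext rel.x3, Subtype.ext rel.xi,
      Subtype.ext rel.xj, Subtype.ext rel.tt, Subtype.ext rel.ti, Subtype.ext rel.tx⟩
  have htop : Subgroup.closure ({i', j', x', t'} : Set C) = ⊤ := by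
    apply map_injective (subtype_injective C)
    rw [MonoidHom.map_closure, ← MonoidHom.range_eq_map, range_subtype]
    simp only [Set.image_insert_eq, Set.image_singleton]
    exact hKeq
  obtain ⟨e⟩ := InvChar.GL23.nonempty_equiv hC48 hrel htop
  haveI : Fact (Nat.Prime 2) := ⟨Nat.prime_two⟩
  refine ⟨⟨isSimple_M11K, z, ?_, e, 495, by decide, card_M11K⟩⟩
  refine orderOf_eq_prime ?_ ?_
  · rw [pow_two, hz, ← ev_append, ← ev_nil]
    exact ev_eq (by decide +kernel)
  · rw [hz, ← ev_nil]
    intro h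
    have := sig_eq h
    revert this
    decide +kernel

theorem nonempty_equiv_M11K : Nonempty (↥Cfsg.Spor.M11 ≃* ↥M11K) := by
  obtain ⟨a, ha, had, hap⟩ := exists_conj_dodecad_point
    (mem_dodecads_iff.2 (by decide +kernel) : Cfsg.Spor.squareDodecad ∈ Cfsg.dodecads)
    (show (some 0 : Cfsg.GolayPt) ∈ Cfsg.Spor.squareDodecad by decide +kernel)
  refine ⟨((MulAut.conj a).subgroupMap Cfsg.Spor.M11).trans (MulEquiv.subgroupCongr ?_)⟩
  ext y
  constructor
  · rintro ⟨x, ⟨⟨hx1, hx2⟩, hx3⟩, rfl⟩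
    exact (mem_M11K_conj ha had hap ⟨x, hx1⟩).1 ⟨hx2, hx3⟩
  · intro hy
    refine ⟨a⁻¹ * y * a, ?_, by simp [mul_assoc]⟩
    have hM : a⁻¹ * y * a ∈ Cfsg.M24 :=
      Cfsg.M24.mul_mem (Cfsg.M24.mul_mem (Cfsg.M24.inv_mem ha) (M11K_le hy)) ha
    have := (mem_M11K_conj ha had hap ⟨_, hM⟩).2 (by simpa [mul_assoc] using hy)
    exact ⟨⟨hM, this.1⟩, this.2⟩

theorem nonempty_datum_M11 : Nonempty (Datum ↥Cfsg.Spor.M11) := by
  obtain ⟨D⟩ := nonempty_datum_M11K
  obtain ⟨e⟩ := nonempty_equiv_M11K
  haveI := D.simple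
  refine ⟨⟨e.isSimpleGroup_congr.mpr D.simple, e.symm D.t, by rw [MulEquiv.orderOf_eq, D.ht], ?_,
    by rw [Nat.card_congr e.toEquiv]; exact D.card⟩⟩
  refine ((e.subgroupMap _).trans (MulEquiv.subgroupCongr ?_)).trans D.e
  ext y
  rw [Subgroup.mem_map, mem_centralizer_singleton_iff]
  constructor
  · rintro ⟨x, hx, rfl⟩
    have := congrArg e (mem_centralizer_singleton_iff.mp hx)
    simpa using this
  · intro hy
    refine ⟨e.symm y, mem_centralizer_singleton_iff.mpr ?_, by simp⟩
    rw [← map_mul, hy, map_mul]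

end Cfsg.Agent.Techniques.InvolutionPatternM11
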