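import Cfsg.Prelude.Def_EvenTechniques
import Cfsg.Agent.Lib.Components.MaximalPair
import Cfsg.Agent.Lib.Coprime.PGroup
import Cfsg.Agent.Lib.Transfer.NormalPComplement
import Cfsg.Agent.Lib.PLocal.Cores

/-!
Bender's theorem on maximal subgroups with `M ⇝ N`.
-/

set_option autoImplicit false

namespace Cfsg.Agent.Techniques.Bender

open Subgroup
open Cfsg.Agent.Components Cfsg.Agent.Components.Basic Cfsg.Agent.Components.Fitting
open Cfsg.Agent.Components.MaximalPair

variable {G : Type*} [Group G] [Finite G]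

/-- `F(M)` in the ambient group. -/
abbrev fit (M : Subgroup G) : Subgroup G := (Cfsg.fittingSubgroup ↥M).map M.subtype

/-- `E(M)` in the ambient group. -/
abbrev lay (M : Subgroup G) : Subgroup G := (Cfsg.layer ↥M).map M.subtype

/-- `F*(M)` in the ambient group. -/
abbrev gfit (M : Subgroup G) : Subgroup G := (Cfsg.generalizedFittingSubgroup ↥M).map M.subtype

theorem lay_le_gfit (M : Subgroup G) : lay M ≤ gfit M := map_mono layer_le_genFitting

theorem fit_le_gfit (M : Subgroup G) : fit M ≤ gfit M := map_mono fitting_le_genFitting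

theorem gfit_eq (M : Subgroup G) : gfit M = lay M ⊔ fit M := Subgroup.map_sup _ _ _

theorem le_centralizer_fit {M A : Subgroup G}
    (h : ∀ r : ℕ, r.Prime → A ≤ centralizer (core r M : Set G)) : A ≤ centralizer (fit M : Set G) := by
  rw [le_centralizer_iff, fit, fitting_eq_coreJoin, coreJoin, Subgroup.map_iSup]
  exact iSup_le fun r => le_centralizer_iff.mp (h r r.2)

theorem lay_le_centralizer_fit (M : Subgroup G) : lay M ≤ centralizer (fit M : Set G) := by
  rintro _ ⟨x, hx, rfl⟩
  refine mem_centralizer_iff.mpr ?_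
  rintro _ ⟨y, hy, rfl⟩
  exact congrArg Subtype.val (mem_centralizer_iff.mp (layer_le_centralizer_fitting hx) y hy)

theorem commute_of_disjoint {X Y : Subgroup G} (h : X ⊓ Y = ⊥) {x y : G} (hx : x ∈ X) (hy : y ∈ Y)
    (hxn : x ∈ normalizer (Y : Set G)) (hyn : y ∈ normalizer (X : Set G)) : y * x = x * y := by
  have hm : x * y * x⁻¹ * y⁻¹ ∈ X ⊓ Y := by
    refine ⟨?_, Y.mul_mem ((mem_normalizer_iff.mp hxn y).mp hy) (Y.inv_mem hy)⟩
    rw [show x * y * x⁻¹ * y⁻¹ = x * (y * x⁻¹ * y⁻¹) by group]
    exact X.mul_mem hx ((mem_normalizer_iff.mp hyn _).mp (X.inv_mem hx))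
  rw [h, mem_bot, mul_inv_eq_one, mul_inv_eq_iff_eq_mul] at hm
  exact hm.symm

theorem inf_core_eq_bot {q r : ℕ} [hq : Fact q.Prime] [hr : Fact r.Prime] (hne : q ≠ r) (M N : Subgroup G) :
    core q M ⊓ core r N = ⊥ := by
  refine disjoint_of_isPGroup (p := q) (core_isPGroup q M) ?_
  obtain ⟨k, hk⟩ := IsPGroup.iff_card.mp (core_isPGroup r N)
  rw [hk]
  exact Nat.Coprime.pow_left k ((Nat.coprime_primes hr.out hq.out).mpr (Ne.symm hne))

/-- An `r'`-group centralizing `N_{O_r(N)}(Q)`, for `Q ≤ F(N)`, centralizes `O_r(N)`. -/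
theorem le_centralizer_core {r : ℕ} [hr : Fact r.Prime] {N Q A : Subgroup G} (hQ : Q ≤ fit N)
    (hA : (Nat.card A).Coprime r) (hAn : A ≤ normalizer (core r N : Set G))
    (hAc : A ≤ centralizer ((core r N ⊓ normalizer (Q : Set G) : Subgroup G) : Set G)) :
    A ≤ centralizer (core r N : Set G) := by
  refine Coprime.le_centralizer_of_pxq (P := core r N ⊓ normalizer (Q : Set G))
    ((core_isPGroup r N).to_le inf_le_left) hA (core_isPGroup r N) (le_centralizer_iff.mp hAc)
    (inf_le_left.trans le_normalizer) hAn ?_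
  rintro c ⟨hc, hcC⟩
  refine le_centralizer_iff.mp hAc ⟨hc, ?_⟩
  apply Subgroup.centralizer_le_normalizer
  refine mem_centralizer_iff.mpr fun z hz => ?_
  obtain ⟨z', hz', rfl⟩ := hQ hz
  have hz2 : z' ∈ Cfsg.pCore r ↥N ⊔ Cfsg.pPrimeCore r ↥N :=
    coreJoin_le_sup r (fitting_eq_coreJoin (G := ↥N) ▸ hz')
  have hz3 : z' ∈ ((Cfsg.pCore r ↥N ⊔ Cfsg.pPrimeCore r ↥N : Subgroup ↥N) : Set ↥N) := hz2
  rw [Subgroup.mul_normal (H := Cfsg.pCore r ↥N) (N := Cfsg.pPrimeCore r ↥N)] at hz3
  obtain ⟨a, ha, b, hb, rfl⟩ := Set.mem_mul.mp hz3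
  have hcomm : ∀ d ∈ Cfsg.pCore r ↥N, d * b = b * d := fun d hd =>
    (mem_centralizer_iff.mp (PLocal.Cores.pCore_le_centralizer_pPrimeCore hd) b hb).symm
  -- the `r`-part of `z` lies in `Q`
  set m := Nat.card (Cfsg.pPrimeCore r ↥N) with hm
  have hbm : b ^ m = 1 := orderOf_dvd_iff_pow_eq_one.mp (Subgroup.orderOf_dvd_natCard _ hb)
  have ham : ((a : G)) ^ m ∈ Q := by
    have h1 := Q.pow_mem hz m
    have h2 : (a * b) ^ m = a ^ m := by rw [Commute.mul_pow (hcomm a ha), hbm, mul_one]
    have h3 : ((a * b : ↥N) : G) ^ m = ((a : G)) ^ m := by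
      rw [← SubmonoidClass.coe_pow, h2, SubmonoidClass.coe_pow]
    rw [← h3]; exact h1
  obtain ⟨i, hi⟩ := IsPGroup.iff_card.mp (Cores.pCore_isPGroup (G := ↥N) r)
  have haQ : (a : G) ∈ Q := by
    refine Transfer.NormalPComplement.mem_of_pow_mem (n := m) ?_ ham
    rw [Subgroup.orderOf_coe]
    refine Nat.Coprime.coprime_dvd_left ((Subgroup.orderOf_dvd_natCard _ ha).trans hi.dvd) ?_
    exact (PLocal.Cores.coprime_card_pPrimeCore (p := r) (G := ↥N)).symm.pow_left i
  have haH : (a : G) ∈ core r N ⊓ normalizer (Q : Set G) := ⟨⟨a, ha, rfl⟩, le_normalizer haQ⟩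
  have h1 : (a : G) * c = c * a := mem_centralizer_iff.mp hcC _ haH
  obtain ⟨c', hc', rfl⟩ := hc
  have h2 : (c' : G) * b = b * c' := congrArg Subtype.val (hcomm c' hc')
  change (a : G) * c' = c' * a at h1
  show (a : G) * b * c' = c' * ((a : G) * b)
  rw [mul_assoc, ← h2, ← mul_assoc, h1, mul_assoc]

theorem genFitting_inf_centralizer_le (H : Type*) [Group H] [Finite H] :
    Cfsg.generalizedFittingSubgroup H ⊓ centralizer (Cfsg.generalizedFittingSubgroup H : Set H) ≤
      Cfsg.fittingSubgroup H := by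
  have : (Cfsg.generalizedFittingSubgroup H).Characteristic :=
    characteristic_iff_map_eq.mpr fun φ => genFitting_map_equiv φ
  have hc : IsMulCommutative ↥(Cfsg.generalizedFittingSubgroup H ⊓
      centralizer (Cfsg.generalizedFittingSubgroup H : Set H)) :=
    isMulCommutative_iff_of_setLike.mpr fun x hx y hy => mem_centralizer_iff.mp hy.2 x hx.1
  exact le_fitting (isNilpotent_of_isMulCommutative _)

/-- A subgroup of `M` centralizing `F*(M)` lies in `F(M)`. -/
theorem le_fit_of_centralizes {M A : Subgroup G} (hA : A ≤ M)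
    (h : A ≤ centralizer (gfit M : Set G)) : A ≤ fit M := by
  intro x hx
  obtain ⟨y, hy, rfl⟩ := centralizer_inf_le (N := M) ⟨h hx, hA hx⟩
  refine ⟨y, genFitting_inf_centralizer_le ↥M ⟨hy, ?_⟩, rfl⟩
  exact mem_centralizer_iff.mpr fun w hw => Subtype.ext (mem_centralizer_iff.mp (h hx) w ⟨w, hw, rfl⟩)

/-- A component in `M` centralizes a solvable subgroup of `M` it normalizes. -/
theorem component_le_centralizer {M S : Subgroup G} {L : Subgroup ↥M} (hL : Cfsg.IsComponent L)
    (hSM : S ≤ M) (hS : Group.IsSolvable ↥S)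
    (hn : L.map M.subtype ≤ normalizer (S : Set G)) : L.map M.subtype ≤ centralizer (S : Set G) := by
  have hs : Group.IsSolvable ↥(S.subgroupOf M) :=
    Group.isSolvable_of_isSolvable_injective (f := (subgroupOfEquivOfLe hSM).toMonoidHom)
      (subgroupOfEquivOfLe hSM).injective
  have hn' : L ≤ normalizer (S.subgroupOf M : Set ↥M) := by
    intro x hx
    have hx' := mem_normalizer_iff.mp (hn ⟨x, hx, rfl⟩)
    exact mem_normalizer_iff.mpr fun y => by simpa [mem_subgroupOf] using hx' y
  have h := congrArg (Subgroup.map M.subtype) (component_commutator_eq_bot_of_le_normalizer hL hs hn')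
  rwa [map_commutator, map_subgroupOf_eq_of_le hSM, Subgroup.map_bot,
    commutator_eq_bot_iff_le_centralizer] at h

theorem isSolvable_of_isPGroup {r : ℕ} [Fact r.Prime] {S : Subgroup G} (hS : IsPGroup r S) :
    Group.IsSolvable ↥S := by
  have := hS.isNilpotent
  infer_instance

/-- A perfect group is generated by its `r'`-elements. -/
theorem pResidual_eq_top (r : ℕ) [Fact r.Prime] (H : Type*) [Group H] [Finite H]
    (hp : ⁅(⊤ : Subgroup H), (⊤ : Subgroup H)⁆ = ⊤) : Cfsg.pResidual r H = ⊤ := by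
  by_contra hne
  have : Nontrivial (H ⧸ Cfsg.pResidual r H) := QuotientGroup.nontrivial_iff.mpr hne
  have := (Transfer.NormalPComplement.isPGroup_quotient_pResidual (p := r) (G := H)).isNilpotent
  refine (Group.IsSolvable.commutator_lt_top_of_nontrivial (H ⧸ Cfsg.pResidual r H)).ne ?_
  rw [commutator_def, ← Subgroup.map_top_of_surjective _ (QuotientGroup.mk'_surjective (Cfsg.pResidual r H)),
    ← map_commutator, hp]

/-- Hypothesis `M ⇝ N` in the form used. -/
structure Leads (M N Q : Subgroup G) : Prop where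
  ne_bot : Q ≠ ⊥
  le_fit : Q ≤ fit M
  le : gfit M ⊓ normalizer (Q : Set G) ≤ N

theorem Leads.lay_le {M N Q : Subgroup G} (h : Leads M N Q) : lay M ≤ N :=
  (le_inf (lay_le_gfit M) (fun x hx => Subgroup.centralizer_le_normalizer _
    (centralizer_le h.le_fit (lay_le_centralizer_fit M hx)))).trans h.le

theorem Leads.core_inf_normalizer_le {M N Q : Subgroup G} (h : Leads M N Q) (r : ℕ) [Fact r.Prime] :
    core r M ⊓ normalizer (Q : Set G) ≤ N :=
  (inf_le_inf_right _ ((core_le_fitting r M).trans (fit_le_gfit M))).trans h.le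

theorem Leads.center_core_le {M N Q : Subgroup G} (h : Leads M N Q) (r : ℕ) [hr : Fact r.Prime] :
    core r M ⊓ centralizer (core r M : Set G) ≤ N := by
  refine le_trans (le_inf ?_ ?_) h.le
  · exact inf_le_left.trans ((core_le_fitting r M).trans (fit_le_gfit M))
  rintro c ⟨hc, hcC⟩
  apply Subgroup.centralizer_le_normalizer
  refine mem_centralizer_iff.mpr fun z hz => ?_
  obtain ⟨z', hz', rfl⟩ := h.le_fit hz
  have hcent : fit M ≤ centralizer ({c} : Set G) := by
    rw [fit, fitting_eq_coreJoin, coreJoin, Subgroup.map_iSup]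
    refine iSup_le fun s => ?_
    intro x hx
    rw [mem_centralizer_singleton_iff]
    by_cases hs : (s : ℕ) = r
    · exact mem_centralizer_iff.mp hcC x (by rw [hs] at hx; exact hx)
    · have : Fact (s : ℕ).Prime := ⟨s.2⟩
      exact commute_of_disjoint (inf_core_eq_bot (M := M) (N := M) (Ne.symm hs)) hc
        (show x ∈ core (s : ℕ) M from hx) (le_normalizer_core _ M (map_subtype_le _ hc))
        (le_normalizer_core _ M (map_subtype_le _ hx))
  exact mem_centralizer_singleton_iff.mp (hcent ⟨z', hz', rfl⟩)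

theorem dvd_card_fitting_iff {q : ℕ} [hq : Fact q.Prime] (M : Subgroup G) :
    q ∣ Nat.card ↥(Cfsg.fittingSubgroup ↥M) ↔ core q M ≠ ⊥ := by
  constructor
  · intro hd h
    have h0 : Cfsg.pCore q ↥M = ⊥ := (map_eq_bot_iff_of_injective _ M.subtype_injective).mp h
    have hle : Cfsg.fittingSubgroup ↥M ≤ Cfsg.pPrimeCore q ↥M := by
      rw [fitting_eq_coreJoin]
      refine (coreJoin_le_sup (G := ↥M) q).trans ?_
      rw [h0, bot_sup_eq]
    exact PLocal.Cores.not_dvd_card_pPrimeCore hq.out.ne_one (hd.trans (card_dvd_of_le hle))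
  · intro h
    obtain ⟨k, hk⟩ := IsPGroup.iff_card.mp (Cores.pCore_isPGroup (G := ↥M) q)
    rcases Nat.eq_zero_or_pos k with rfl | hk0
    · refine absurd (?_ : core q M = ⊥) h
      rw [core, eq_bot_of_card_eq (Cfsg.pCore q ↥M) (by rw [hk, pow_zero]), Subgroup.map_bot]
    · exact (hk ▸ dvd_pow_self q hk0.ne').trans (card_dvd_of_le (Fitting.pCore_le_fitting q))

theorem map_sylow_fitting {q : ℕ} [Fact q.Prime] (N : Subgroup G)
    (R : Sylow q ↥(Cfsg.fittingSubgroup ↥N)) :
    ((R : Subgroup ↥(Cfsg.fittingSubgroup ↥N)).map (Cfsg.fittingSubgroup ↥N).subtype).map N.subtype =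
      core q N := by
  rw [core]
  congr 1
  have hR : (R : Subgroup ↥(Cfsg.fittingSubgroup ↥N)).Normal :=
    (Group.isNilpotent_of_finite_tfae.out 0 3 rfl rfl).mp inferInstance q inferInstance R
  refine le_antisymm ?_ ?_
  · have : (R : Subgroup ↥(Cfsg.fittingSubgroup ↥N)).Characteristic := R.characteristic_of_normal hR
    exact Cores.le_pCore (R.2.map _)
  · intro x hx
    have h : (Cfsg.pCore q ↥N).subgroupOf (Cfsg.fittingSubgroup ↥N) ≤ (R : Subgroup _) :=
      IsPGroup.le_sylow_of_normal (Cores.pCore_isPGroup q).comap_subtype R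
    exact ⟨⟨x, Fitting.pCore_le_fitting q hx⟩, h (mem_subgroupOf.mpr hx), rfl⟩

variable [IsSimpleGroup G] {M N Q : Subgroup G}

theorem center_core_normalizer (hM : IsCoatom M) {r : ℕ} [hr : Fact r.Prime] (hne : core r M ≠ ⊥) :
    centralizer ((core r M ⊓ centralizer (core r M : Set G) : Subgroup G) : Set G) ≤ M := by
  refine (Subgroup.centralizer_le_normalizer _).trans (normalizer_eq_of_coatom hM
    (inf_le_left.trans (map_subtype_le _)) ?_ ?_).le
  · intro g hg
    have hn := le_normalizer_core r M hg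
    rw [mem_normalizer_iff]
    intro x
    constructor
    · rintro ⟨hx, hxC⟩
      refine ⟨(mem_normalizer_iff.mp hn x).mp hx, mem_centralizer_iff.mpr fun y hy => ?_⟩
      have hy' : g⁻¹ * y * g ∈ core r M := (mem_normalizer_iff''.mp hn y).mp hy
      have h := mem_centralizer_iff.mp hxC _ hy'
      calc y * (g * x * g⁻¹) = g * ((g⁻¹ * y * g) * x) * g⁻¹ := by group
        _ = g * (x * (g⁻¹ * y * g)) * g⁻¹ := by rw [h]
        _ = _ := by group
    · rintro ⟨hx, hxC⟩
      refine ⟨(mem_normalizer_iff.mp hn x).mpr hx, mem_centralizer_iff.mpr fun y hy => ?_⟩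
      have h := mem_centralizer_iff.mp hxC _ ((mem_normalizer_iff.mp hn y).mp hy)
      calc y * x = g⁻¹ * ((g * y * g⁻¹) * (g * x * g⁻¹)) * g := by group
        _ = g⁻¹ * ((g * x * g⁻¹) * (g * y * g⁻¹)) * g := by rw [h]
        _ = _ := by group
  · intro h
    have : Nontrivial ↥(core r M) := (Subgroup.nontrivial_iff_ne_bot _).mpr hne
    have hZ : Nontrivial (Subgroup.center ↥(core r M)) := (core_isPGroup r M).center_nontrivial
    obtain ⟨⟨⟨z, hz⟩, hzc⟩, hne'⟩ := exists_ne (1 : Subgroup.center ↥(core r M))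
    refine hne' (Subtype.ext (Subtype.ext (Subgroup.mem_bot.mp (h ▸ (Subgroup.mem_inf.mpr ⟨hz,
      mem_centralizer_iff.mpr fun y hy => ?_⟩) :  z ∈ (⊥ : Subgroup G)))))
    exact congrArg Subtype.val (Subgroup.mem_center_iff.mp hzc ⟨y, hy⟩)

/-- `O_q(F(N)) ≤ M` for `q ∈ π(F(M))` when `π(F(M))` has two members. -/
theorem core_le_of_two (hM : IsCoatom M) (h : Leads M N Q) {q r : ℕ} [hq : Fact q.Prime]
    [hr : Fact r.Prime] (hqr : r ≠ q) (hqM : core q M ≠ ⊥) (hrM : core r M ≠ ⊥) : core q N ≤ M := by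
  set Zq := core q M ⊓ centralizer (core q M : Set G) with hZq
  set Zr := core r M ⊓ centralizer (core r M : Set G) with hZr
  have hZqN : Zq ≤ N := h.center_core_le q
  have hZrN : Zr ≤ N := h.center_core_le r
  refine le_trans ?_ (center_core_normalizer hM hrM)
  rw [← le_centralizer_iff]
  refine Coprime.le_centralizer_of_pxq (p := q) (P := Zq) ((core_isPGroup q M).to_le inf_le_left) ?_
    (core_isPGroup q N) ?_ (hZqN.trans (le_normalizer_core q N)) (hZrN.trans (le_normalizer_core q N)) ?_
  · obtain ⟨k, hk⟩ := IsPGroup.iff_card.mp ((core_isPGroup r M).to_le (inf_le_left : Zr ≤ _))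
    rw [hk]
    exact Nat.Coprime.pow_left k ((Nat.coprime_primes hr.out hq.out).mpr hqr)
  · rw [le_centralizer_iff]
    intro x hx
    refine mem_centralizer_iff.mpr fun y hy => ?_
    exact (commute_of_disjoint (inf_core_eq_bot hqr M M) hx.1 hy.1
      (le_normalizer_core q M (map_subtype_le _ hx.1)) (le_normalizer_core r M (map_subtype_le _ hy.1)))
  · rintro y ⟨hy, hyC⟩
    have hyM : y ∈ M := center_core_normalizer hM hqM hyC
    refine mem_centralizer_iff.mpr fun x hx => ?_
    exact (commute_of_disjoint (inf_core_eq_bot hqr M N) hx.1 hy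
      (le_normalizer_core q N (hZrN hx)) (le_normalizer_core r M hyM)).symm

/-- `O_q(F(N)) ∩ M = 1` for `q ∉ π(F(M))`. -/
theorem core_inf_eq_bot (h : Leads M N Q) {q : ℕ} [hq : Fact q.Prime] (hqM : core q M = ⊥) :
    core q N ⊓ M = ⊥ := by
  set Y := core q N ⊓ M with hY
  have hYq : IsPGroup q Y := (core_isPGroup q N).to_le inf_le_left
  have hF : Y ≤ centralizer (fit M : Set G) := le_centralizer_fit fun r hr => by
    have : Fact r.Prime := ⟨hr⟩
    by_cases hrq : r = q
    · subst hrq
      rw [hqM]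
      exact fun x _ => mem_centralizer_iff.mpr fun y hy => by
        rw [Subgroup.coe_bot, Set.mem_singleton_iff] at hy; simp [hy]
    refine le_centralizer_core h.le_fit ?_ (inf_le_right.trans (le_normalizer_core r M)) ?_
    · obtain ⟨k, hk⟩ := IsPGroup.iff_card.mp hYq
      rw [hk]
      exact Nat.Coprime.pow_left k ((Nat.coprime_primes hq.out hr).mpr (Ne.symm hrq))
    · intro y hy
      refine mem_centralizer_iff.mpr fun x hx => ?_
      exact (commute_of_disjoint (inf_core_eq_bot hrq M N) hx.1 hy.1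
        (le_normalizer_core q N (h.core_inf_normalizer_le r hx)) (le_normalizer_core r M hy.2)).symm
  have hE : Y ≤ centralizer (lay M : Set G) := by
    rw [le_centralizer_iff, lay, map_le_iff_le_comap]
    refine layer_le fun L hL => ?_
    rw [← map_le_iff_le_comap]
    refine component_le_centralizer hL inf_le_right (isSolvable_of_isPGroup hYq) ?_
    intro x hx
    have hxM : x ∈ M := map_subtype_le _ hx
    have hxN : x ∈ N := h.lay_le (map_mono (le_layer hL) hx)
    rw [mem_normalizer_iff]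
    intro y
    simp only [hY, mem_inf, ← mem_normalizer_iff.mp (le_normalizer_core q N hxN) y,
      ← mem_normalizer_iff.mp (le_normalizer (H := M) hxM) y]
  have hY' : Y ≤ fit M := le_fit_of_centralizes inf_le_right (by
    rw [gfit_eq, le_centralizer_iff]
    exact sup_le (le_centralizer_iff.mp hE) (le_centralizer_iff.mp hF))
  by_contra hne
  obtain ⟨k, hk0, hk⟩ := hYq.nontrivial_iff_card.mp ((Subgroup.nontrivial_iff_ne_bot Y).mpr hne)
  have hd : q ∣ Nat.card ↥(Cfsg.fittingSubgroup ↥M) := by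
    rw [← Nat.card_congr ((Cfsg.fittingSubgroup ↥M).equivMapOfInjective M.subtype M.subtype_injective).toEquiv.symm]
    exact (hk ▸ dvd_pow_self q hk0.ne').trans (card_dvd_of_le hY')
  exact (dvd_card_fitting_iff M).mp hd hqM

/-- With `M ⇝ N ⇝ M` the layers agree. -/
theorem lay_le_lay {Q' : Subgroup G} (h : Leads M N Q) (h' : Leads N M Q') : lay M ≤ lay N := by
  rw [lay, map_le_iff_le_comap]
  refine layer_le fun L hL => ?_
  rw [← map_le_iff_le_comap]
  set L' := L.map M.subtype with hL'
  have hLM : L' ≤ M := map_subtype_le L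
  have hLN : L' ≤ N := (map_mono (le_layer hL)).trans h.lay_le
  set V := lay N with hV
  set H := M ⊓ N with hH
  have hLH : L' ≤ H := le_inf hLM hLN
  have hsn : (L'.subgroupOf H).IsSubnormal := by
    have e : L'.subgroupOf H = L.comap (inclusion (inf_le_left : H ≤ M)) := by
      ext x
      simp only [mem_subgroupOf, mem_comap, hL', Subgroup.mem_map, Subgroup.coe_subtype]
      exact ⟨fun ⟨y, hy, hyx⟩ => (Subtype.ext hyx : y = inclusion inf_le_left x) ▸ hy,
        fun h => ⟨_, h, rfl⟩⟩
    rw [e]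
    exact hL.1.comap _
  have hcomp : Cfsg.IsComponent (L'.subgroupOf H) :=
    ⟨hsn, quasisimple_of_mulEquiv ((equivMapOfInjective L M.subtype M.subtype_injective).trans
      (subgroupOfEquivOfLe hLH).symm) hL.2⟩
  have hlayn : (Cfsg.layer ↥N).Normal := by
    have : (Cfsg.layer ↥N).Characteristic := characteristic_iff_map_eq.mpr fun φ => layer_map_equiv φ
    infer_instance
  have hVle : V ≤ H := le_inf h'.lay_le (map_subtype_le _)
  have hVH : (V.subgroupOf H).Normal := normal_subgroupOf_of_le_normalizer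
    (inf_le_right.trans (le_normalizer_map_of_normal N _))
  rcases component_le_or_commutator_eq_bot hcomp hVH.isSubnormal with hc | hc
  · have hLV : L' ≤ V := by
      have := map_mono (f := H.subtype) hc
      rwa [map_subgroupOf_eq_of_le hLH, map_subgroupOf_eq_of_le hVle] at this
    have hle : L'.subgroupOf N ≤ Cfsg.layer ↥N := by
      intro x hx
      obtain ⟨y, hy, hyx⟩ := hLV hx
      rwa [← (Subtype.ext hyx : y = x)]
    let f : Cfsg.layer ↥N →* H :=
      MonoidHom.codRestrict ((N.subtype).comp (Cfsg.layer ↥N).subtype) H fun z => hVle ⟨z, z.2, rfl⟩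
    have hs : ((L'.subgroupOf N).subgroupOf (Cfsg.layer ↥N)).IsSubnormal := by
      have e : (L'.subgroupOf N).subgroupOf (Cfsg.layer ↥N) = (L'.subgroupOf H).comap f := rfl
      rw [e]
      exact hsn.comap f
    exact fun x hx => ⟨⟨x, hLN hx⟩, le_layer (L := L'.subgroupOf N)
      ⟨(isSubnormal_subgroupOf_iff hle hlayn.isSubnormal).mp hs,
        quasisimple_of_mulEquiv ((equivMapOfInjective L M.subtype M.subtype_injective).trans
        (subgroupOfEquivOfLe hLN).symm) hL.2⟩ hx, rfl⟩
  · exfalso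
    have hcE : L' ≤ centralizer (V : Set G) := by
      have h' := congrArg (Subgroup.map H.subtype) hc
      rwa [map_commutator, map_subgroupOf_eq_of_le hLH, map_subgroupOf_eq_of_le hVle,
        Subgroup.map_bot, commutator_eq_bot_iff_le_centralizer] at h'
    have hcF : L' ≤ centralizer (fit N : Set G) := le_centralizer_fit fun r hr => by
      have : Fact r.Prime := ⟨hr⟩
      have hperf : ⁅(⊤ : Subgroup ↥L'), (⊤ : Subgroup ↥L')⁆ = ⊤ := by
        apply Subgroup.map_injective L'.subtype_injective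
        rw [map_commutator, ← MonoidHom.range_eq_map, range_subtype, hL', ← map_commutator,
          component_commutator_self hL]
      have hS : L' ≤ centralizer ((core r N ⊓ M : Subgroup G) : Set G) := by
        refine component_le_centralizer hL inf_le_right
          (isSolvable_of_isPGroup ((core_isPGroup r N).to_le inf_le_left)) fun x hx => ?_
        rw [mem_normalizer_iff]
        intro y
        simp only [mem_inf, ← mem_normalizer_iff.mp (le_normalizer_core r N (hLN hx)) y,
          ← mem_normalizer_iff.mp (le_normalizer (H := M) (hLM hx)) y]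
      have hres := pResidual_eq_top r ↥L' hperf
      have hmap : L' = (Cfsg.pResidual r ↥L').map L'.subtype := by
        rw [hres, ← MonoidHom.range_eq_map, range_subtype]
      rw [hmap, Cfsg.pResidual, MonoidHom.map_closure, closure_le]
      rintro _ ⟨x, hx, rfl⟩
      have hxc : zpowers (x : G) ≤ centralizer (core r N : Set G) := by
        refine le_centralizer_core h'.le_fit ?_ (zpowers_le.mpr (le_normalizer_core r N (hLN x.2))) ?_
        · rw [Nat.card_zpowers, Subgroup.orderOf_coe]; exact hx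
        · refine (zpowers_le.mpr (hS x.2)).trans (centralizer_le ?_)
          exact le_inf inf_le_left (h'.core_inf_normalizer_le r)
      exact hxc (mem_zpowers _)
    have hF : L' ≤ fit N := le_fit_of_centralizes hLN (by
      rw [gfit_eq, le_centralizer_iff]
      exact sup_le (le_centralizer_iff.mp hcE) (le_centralizer_iff.mp hcF))
    have hsolF : Group.IsSolvable ↥(fit N) :=
      Group.isSolvable_of_isSolvable_injective
        (f := ((Cfsg.fittingSubgroup ↥N).equivMapOfInjective N.subtype N.subtype_injective).symm.toMonoidHom)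
        (MulEquiv.injective _)
    refine component_not_isSolvable hL ?_
    exact Group.isSolvable_of_isSolvable_injective
      (f := (inclusion hF).comp (L.equivMapOfInjective M.subtype M.subtype_injective).toMonoidHom)
      ((inclusion_injective hF).comp (MulEquiv.injective _))

/-- Bender's theorem, the symmetric case. -/
theorem eq_or_isPGroup (hna : ¬ IsMulCommutative G) (hM : IsCoatom M) (hN : IsCoatom N) {Q' : Subgroup G}
    (h : Leads M N Q) (h' : Leads N M Q') :
    M = N ∨ ∃ p : ℕ, p.Prime ∧ IsPGroup p ↥(Cfsg.generalizedFittingSubgroup ↥M) ∧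
      IsPGroup p ↥(Cfsg.generalizedFittingSubgroup ↥N) := by
  by_cases hMN : M = N
  · exact Or.inl hMN
  right
  have hE : lay M = lay N := le_antisymm (lay_le_lay h h') (lay_le_lay h' h)
  have hE0 : lay M = ⊥ := by
    by_contra hne
    have hn : ∀ X : Subgroup G, X ≤ normalizer (lay X : Set G) := fun X => by
      have : (Cfsg.layer ↥X).Characteristic := characteristic_iff_map_eq.mpr fun φ => layer_map_equiv φ
      exact le_normalizer_map_of_normal X _
    have h1 := normalizer_eq_of_coatom hM (X := lay M) (map_subtype_le _) (hn M) hne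
    have h2 := normalizer_eq_of_coatom hN (X := lay N) (map_subtype_le _) (hn N) (hE ▸ hne)
    rw [← hE, h1] at h2
    exact hMN h2
  have hsame : ∀ {A B QA QB : Subgroup G}, IsCoatom A → Leads A B QA → Leads B A QB →
      ∀ q : ℕ, [Fact q.Prime] → core q B ≠ ⊥ → core q A ≠ ⊥ := by
    intro A B QA QB hA hAB hBA q _ hqB hqA
    have h0 := core_inf_eq_bot hAB hqA
    have : Nontrivial ↥(core q B) := (Subgroup.nontrivial_iff_ne_bot _).mpr hqB
    have hZ : Nontrivial (Subgroup.center ↥(core q B)) := (core_isPGroup q B).center_nontrivial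
    obtain ⟨⟨⟨z, hz⟩, hzc⟩, hne'⟩ := exists_ne (1 : Subgroup.center ↥(core q B))
    have hzZ : z ∈ core q B ⊓ centralizer (core q B : Set G) :=
      ⟨hz, mem_centralizer_iff.mpr fun y hy => congrArg Subtype.val (Subgroup.mem_center_iff.mp hzc ⟨y, hy⟩)⟩
    exact hne' (Subtype.ext (Subtype.ext (Subgroup.mem_bot.mp
      (h0 ▸ (Subgroup.mem_inf.mpr ⟨hz, hBA.center_core_le q hzZ⟩) : z ∈ (⊥ : Subgroup G)))))
  have hgf : ∀ {X : Subgroup G}, lay X = ⊥ → gfit X = fit X := fun {X} h => by
    rw [gfit_eq, h, bot_sup_eq]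
  by_cases htwo : ∃ q r : ℕ, q.Prime ∧ r.Prime ∧ r ≠ q ∧ core q M ≠ ⊥ ∧ core r M ≠ ⊥
  · obtain ⟨q, r, hq, hr, hrq, hqM, hrM⟩ := htwo
    have : Fact q.Prime := ⟨hq⟩
    have : Fact r.Prime := ⟨hr⟩
    have hfit : ∀ {A B QA QB : Subgroup G}, IsCoatom A → IsCoatom B → Leads A B QA → Leads B A QB →
        core q A ≠ ⊥ → core r A ≠ ⊥ → fit B ≤ A := by
      intro A B QA QB hA _ hAB hBA hqA hrA
      rw [fit, fitting_eq_coreJoin, coreJoin, Subgroup.map_iSup]
      refine iSup_le fun s => ?_
      have : Fact (s : ℕ).Prime := ⟨s.2⟩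
      show core (s : ℕ) B ≤ A
      by_cases hsB : core (s : ℕ) B = ⊥
      · rw [hsB]; exact bot_le
      have hsA := hsame hA hAB hBA (s : ℕ) hsB
      by_cases hsq : (s : ℕ) = q
      · exact core_le_of_two hA hAB (r := r) (by rw [hsq]; exact hrq) hsA hrA
      · exact core_le_of_two hA hAB (r := q) (Ne.symm hsq) hsA hqA
    refine MaximalPair.result hna hM hN hMN ?_ ?_
    · show gfit M ≤ N
      rw [hgf hE0]
      exact hfit hN hM h' h (hsame hN h' h q hqM) (hsame hN h' h r hrM)
    · show gfit N ≤ M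
      rw [hgf (hE ▸ hE0)]
      exact hfit hM hN h h' hqM hrM
  · push Not at htwo
    have hne : fit M ≠ ⊥ := fun e => h.ne_bot (le_bot_iff.mp (e ▸ h.le_fit))
    obtain ⟨p, hp, hpM⟩ : ∃ p : ℕ, p.Prime ∧ core p M ≠ ⊥ := by
      by_contra hcon
      push Not at hcon
      refine hne ?_
      rw [fit, fitting_eq_coreJoin, coreJoin, Subgroup.map_iSup, iSup_eq_bot]
      exact fun s => hcon s s.2
    have : Fact p.Prime := ⟨hp⟩
    have key : ∀ {X : Subgroup G}, lay X = ⊥ → (∀ s : ℕ, s.Prime → s ≠ p → core s X = ⊥) →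
        IsPGroup p ↥(Cfsg.generalizedFittingSubgroup ↥X) := by
      intro X hlay hs
      have hle : gfit X ≤ core p X := by
        rw [hgf hlay, fit, fitting_eq_coreJoin, coreJoin, Subgroup.map_iSup]
        refine iSup_le fun s => ?_
        by_cases hsp : (s : ℕ) = p
        · rw [hsp]; exact le_rfl
        · exact le_trans (show _ ≤ core (s : ℕ) X from le_rfl) (by rw [hs s s.2 hsp]; exact bot_le)
      exact ((core_isPGroup p X).to_le hle).of_equiv
        ((Cfsg.generalizedFittingSubgroup ↥X).equivMapOfInjective X.subtype X.subtype_injective).symm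
    refine ⟨p, hp, key hE0 (fun s hs hsp => htwo p s hp hs hsp hpM), key (hE ▸ hE0) fun s hs hsp => ?_⟩
    by_contra hne'
    have : Fact s.Prime := ⟨hs⟩
    exact hsame hM h h' s hne' (htwo p s hp hs hsp hpM)

end Cfsg.Agent.Techniques.Bender
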