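import Cfsg.Agent.Lib.Transfer.Frobenius
import Cfsg.Agent.Lib.Coprime.OmegaDetect
import Cfsg.Agent.Lib.Components.PComponents
import Cfsg.Agent.Lib.CharP.Isolated
import Cfsg.Agent.Lib.Cores.Nilpotent
import Cfsg.Prelude.Def_IsolatedElements
import Cfsg.Prelude.Def_CaseTheorems

/-!
An isolated element of order `p` in a group of `p`-rank at most two with trivial `p'`-core: the generalized
Fitting subgroup is simple.
-/

set_option autoImplicit false

namespace Cfsg.Agent.Techniques.IsolatedRankTwo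

open Subgroup

variable {G : Type*} [Group G] [Finite G] {p : ℕ} [Fact p.Prime]

/-- A component with unfused elements of order `p` does not exist. -/
theorem component_false (hp : p ≠ 2) (hO : Cfsg.pPrimeCore p G = ⊥) {K : Subgroup G} (hK : Cfsg.IsComponent K)
    (h : ∀ a ∈ K, a ^ p = 1 → ∀ g ∈ K, ∀ R : Subgroup G, IsPGroup p R → R ≤ K → a ∈ R →
      g * a * g⁻¹ ∈ R → g * a * g⁻¹ = a) : False := by
  have hh : Cfsg.HasNormalPComplement p K := by
    refine Transfer.Frobenius.hasNormalPComplement_of_condition ?_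
    intro Q hQ g hg ho
    refine Coprime.OmegaDetect.mem_centralizer_of_fix ho hQ hg fun a ha hord => ?_
    rcases hord with hord | ⟨h2, -⟩
    · refine Subtype.ext (mul_inv_eq_iff_eq_mul.1 ?_)
      exact h a a.2 (by rw [← SubgroupClass.coe_pow, hord]; rfl) g g.2 (Q.map K.subtype) (hQ.map _)
        (map_subtype_le _) ⟨a, ha, rfl⟩ ⟨g * a * g⁻¹, (mem_normalizer_iff.1 hg a).1 ha, by simp⟩
    · exact absurd h2 hp
  obtain ⟨P⟩ : Nonempty (Sylow p K) := inferInstance
  have hdiv := Components.PComponents.component_dvd_card hO hK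
  have hq := hK.2
  obtain ⟨N, hN, hNc⟩ := (Transfer.NormalPComplement.hasNormalPComplement_iff_sylow P).1 hh
  haveI := hN
  haveI := hq.1
  obtain ⟨k, hk⟩ := P.2.exists_card_eq
  have hidx : N.index = p ^ k := hNc.symm.index_eq_card.trans hk
  have hPne : (P : Subgroup K) ≠ ⊥ := P.ne_bot_of_dvd_card hdiv
  haveI : Group.IsNilpotent (K ⧸ N) :=
    (IsPGroup.of_card (G := K ⧸ N) (n := k) ((Subgroup.index_eq_card N).symm.trans hidx)).isNilpotent
  haveI : Group.IsPerfect (K ⧸ N) :=
    Group.IsPerfect.ofSurjective (f := QuotientGroup.mk' N) (QuotientGroup.mk'_surjective N)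
  haveI : Nontrivial (K ⧸ N) := by
    rw [QuotientGroup.nontrivial_iff]
    intro h
    rw [h, Subgroup.index_top] at hidx
    refine hPne (Subgroup.card_eq_one.1 ?_)
    rw [hk, ← hidx]
  exact Group.IsPerfect.not_isSolvable (K ⧸ N) inferInstance

theorem zpow_mem_cases {a t : G} (ha : a ^ p = 1) (ht : t ∈ zpowers a) : t = 1 ∨ a ∈ zpowers t := by
  by_cases h1 : t = 1
  · exact Or.inl h1
  right
  have hA : Nat.card (zpowers a) = p := by
    have ha1 : a ≠ 1 := fun e => h1 (by rw [e, zpowers_one_eq_bot] at ht; exact ht)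
    rw [Nat.card_zpowers, orderOf_eq_prime ha ha1]
  have hle : zpowers t ≤ zpowers a := zpowers_le.2 ht
  rcases (Nat.dvd_prime (Fact.out : p.Prime)).1 (hA ▸ card_dvd_of_le hle) with h | h
  · exact absurd (zpowers_eq_bot.1 (Subgroup.eq_bot_of_card_eq _ h)) h1
  · rw [Subgroup.eq_of_le_of_card_ge hle (by rw [hA, h])]
    exact mem_zpowers a

theorem isolated_conj {x : G} (hiso : Cfsg.IsIsolated x) (c : G) : Cfsg.IsIsolated (c * x * c⁻¹) := by
  intro g hg
  have h := hiso (c⁻¹ * g * c) ?_
  · calc g * (c * x * c⁻¹) * g⁻¹ = c * (c⁻¹ * g * c * x * (c⁻¹ * g * c)⁻¹) * c⁻¹ := by group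
      _ = _ := by rw [h]
  · have := (Commute.conj_iff c⁻¹).2 hg
    convert this using 1 <;> group

/-- Elements of the form "isolated times central". -/
theorem eq_of_form {y z g : G} (hiso : Cfsg.IsIsolated y) (hy : y ^ p = 1) (hz : z ^ p = 1)
    {K R : Subgroup G} (hR : IsPGroup p R) (hRK : R ≤ K)
    (hcz : ∀ k ∈ K, Commute k z) (hg : g ∈ K) {a t : G} (ht : t ∈ zpowers y) (hat : a = t * z) (haR : a ∈ R)
    (hgaR : g * a * g⁻¹ ∈ R) : g * a * g⁻¹ = a := by
  rcases zpow_mem_cases hy ht with h1 | h1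
  · rw [hat, h1, one_mul, (hcz g hg).eq, mul_inv_cancel_right]
  have hn : R ≤ normalizer (zpowers z : Set G) := fun r hr => by
    refine centralizer_le_normalizer (s := (zpowers z : Set G)) (mem_centralizer_iff.2 fun w hw => ?_)
    obtain ⟨n, rfl⟩ := mem_zpowers_iff.1 hw
    exact ((hcz r (hRK hr)).zpow_right n).eq.symm
  have hzp : IsPGroup p (zpowers z) := by
    by_cases hz1 : z = 1
    · rw [hz1, zpowers_one_eq_bot]; exact IsPGroup.of_bot
    · exact IsPGroup.of_card (n := 1) (by rw [Nat.card_zpowers, orderOf_eq_prime hz hz1, pow_one])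
  have hR' : IsPGroup p ↥(R ⊔ zpowers z) := hR.to_sup_of_normal_right' hzp hn
  have hzR : z ∈ R ⊔ zpowers z := le_sup_right (a := R) (mem_zpowers z)
  have htR : t ∈ R ⊔ zpowers z := by
    have : t = a * z⁻¹ := by rw [hat, mul_inv_cancel_right]
    rw [this]
    exact mul_mem (le_sup_left (b := zpowers z) haR) (inv_mem hzR)
  have hgtR : g * t * g⁻¹ ∈ R ⊔ zpowers z := by
    have : g * t * g⁻¹ = g * a * g⁻¹ * z⁻¹ := by
      calc g * t * g⁻¹ = g * a * (z⁻¹ * g⁻¹) := by rw [hat]; group
        _ = _ := by rw [((hcz g hg).inv_inv).symm.eq]; group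
    rw [this]
    exact mul_mem (le_sup_left (b := zpowers z) hgaR) (inv_mem hzR)
  obtain ⟨n, hn'⟩ := mem_zpowers_iff.1 h1
  have hgy : g * y * g⁻¹ = y := CharP.isolated_eq_of_pgroup hiso hR' (hn' ▸ zpow_mem htR n)
    (by rw [← hn', ← conj_zpow]; exact zpow_mem hgtR n)
  obtain ⟨m, hm⟩ := mem_zpowers_iff.1 ht
  rw [hat, ← conj_mul, ← hm, ← conj_zpow, hgy, (hcz g hg).eq, mul_inv_cancel_right]

/-- Three commuting elements of order `p`. -/
theorem exists_mul_eq (hrank : Cfsg.PRankLE p 2 G) {a b c : G} (ha : a ^ p = 1) (hb : b ^ p = 1) (hc : c ^ p = 1)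
    (hab : Commute a b) (hac : Commute a c) (hbc : Commute b c) (hb1 : b ≠ 1) (ha' : a ∉ zpowers b) :
    ∃ s ∈ zpowers a, ∃ t ∈ zpowers b, c = s * t := by
  have hp := (Fact.out : p.Prime)
  set A := closure ({a, b, c} : Set G)
  have hcomm : ∀ u ∈ ({a, b, c} : Set G), ∀ v ∈ ({a, b, c} : Set G), u * v = v * u := by
    rintro u (rfl | rfl | rfl) v (rfl | rfl | rfl)
    exacts [rfl, hab.eq, hac.eq, hab.eq.symm, rfl, hbc.eq, hac.eq.symm, hbc.eq.symm, rfl]
  haveI hAc : IsMulCommutative A := Subgroup.isMulCommutative_closure hcomm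
  have hexp : ∀ u ∈ A, u ^ p = 1 := by
    intro u hu
    induction hu using Subgroup.closure_induction with
    | mem u hu => rcases hu with rfl | rfl | rfl <;> assumption
    | one => exact one_pow p
    | mul u v hu hv e f =>
      have : Commute u v := congrArg Subtype.val (mul_comm' (⟨u, hu⟩ : A) ⟨v, hv⟩)
      rw [this.mul_pow, e, f, one_mul]
    | inv u _ e => rw [inv_pow, e, inv_one]
  have hcard := hrank A hAc hexp
  have hcom : ∀ (u : zpowers a) (v : zpowers b), Commute ((zpowers a).subtype u) ((zpowers b).subtype v) := by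
    rintro ⟨u, hu⟩ ⟨v, hv⟩
    obtain ⟨i, rfl⟩ := mem_zpowers_iff.1 hu
    obtain ⟨j, rfl⟩ := mem_zpowers_iff.1 hv
    exact hab.zpow_zpow i j
  set f := MonoidHom.noncommCoprod _ _ hcom
  have hfi : Function.Injective f := by
    rw [injective_iff_map_eq_one]
    rintro ⟨⟨u, hu⟩, ⟨v, hv⟩⟩ h
    have h' : u * v = 1 := h
    have hu' : u ∈ zpowers b := by rw [mul_eq_one_iff_eq_inv.1 h']; exact inv_mem hv
    rcases zpow_mem_cases ha hu with rfl | h2
    · rw [one_mul] at h'
      subst h'
      rfl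
    · exact absurd ((zpowers_le.2 hu') h2) ha'
  have ha1 : a ≠ 1 := fun e => ha' (e ▸ one_mem _)
  have hle : f.range ≤ A := by
    rintro _ ⟨⟨u, v⟩, rfl⟩
    exact mul_mem ((zpowers_le.2 (subset_closure (by simp))) u.2) ((zpowers_le.2 (subset_closure (by simp))) v.2)
  have hc' : Nat.card f.range = p ^ 2 := by
    rw [← Nat.card_congr (MonoidHom.ofInjective hfi).toEquiv, Nat.card_prod, Nat.card_zpowers, Nat.card_zpowers,
      orderOf_eq_prime ha ha1, orderOf_eq_prime hb hb1, sq]
  have hcA : c ∈ f.range := by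
    rw [Subgroup.eq_of_le_of_card_ge hle (hc' ▸ hcard)]
    exact subset_closure (by simp)
  obtain ⟨⟨u, v⟩, huv⟩ := hcA
  exact ⟨u.1, u.2, v.1, v.2, huv.symm⟩

theorem exists_conj_mem {x : G} (hx : orderOf x = p) (R : Sylow p G) : ∃ c : G, c * x * c⁻¹ ∈ (R : Subgroup G) := by
  have hxp : IsPGroup p (zpowers x) := IsPGroup.of_card (n := 1) (by rw [Nat.card_zpowers, hx, pow_one])
  obtain ⟨S, hS⟩ := hxp.exists_le_sylow
  obtain ⟨c, rfl⟩ := MulAction.exists_smul_eq G S R
  refine ⟨c, ?_⟩
  rw [Sylow.coe_subgroup_smul]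
  exact ⟨x, hS (mem_zpowers x), rfl⟩

theorem main (hp : p ≠ 2) (hcore : Cfsg.pPrimeCore p G = ⊥) (hrank : Cfsg.PRankLE p 2 G) (x : G)
    (hx : orderOf x = p) (hiso : Cfsg.IsIsolated x) (hnc : x ∉ Subgroup.center G) :
    IsSimpleGroup ↥(Cfsg.generalizedFittingSubgroup G) ∧
      ¬ IsMulCommutative ↥(Cfsg.generalizedFittingSubgroup G) := by
  classical
  have hxp : ∀ c : G, (c * x * c⁻¹) ^ p = 1 := fun c => by rw [conj_pow, ← hx, pow_orderOf_eq_one]; group
  have hx1 : x ≠ 1 := fun e => (Fact.out : p.Prime).ne_one (by rw [← hx, e, orderOf_one])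
  set O := Cfsg.pCore p G with hOdef
  have hOp : IsPGroup p O := Cores.pCore_isPGroup p
  haveI : O.Normal := Cores.pCore_normal p
  have hF : Cfsg.fittingSubgroup G = O := Components.PComponents.fitting_eq_pCore hcore
  have hxO : ∀ c : G, c * x * c⁻¹ ∉ O := by
    intro c hc
    have hc' : x ∈ O := by
      have := Subgroup.Normal.conj_mem inferInstance _ hc c⁻¹
      simpa [mul_assoc] using this
    exact hnc (mem_center_iff.2 fun g => mul_inv_eq_iff_eq_mul.1
      (CharP.isolated_eq_of_pgroup hiso hOp hc' (Subgroup.Normal.conj_mem inferInstance x hc' g)))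
  have hcompO : ∀ K : Subgroup G, Cfsg.IsComponent K → ∀ k ∈ K, ∀ z ∈ O, Commute k z := by
    intro K hK k hk z hz
    have h := Components.Fitting.component_commutator_fitting hK
    rw [commutator_eq_bot_iff_le_centralizer] at h
    exact ((mem_centralizer_iff.1 (h hk)) z (hF ▸ hz)).symm
  -- no component next to a nontrivial `O`
  have hO1 : O = ⊥ := by
    by_contra hne
    have hnoK : ∀ K : Subgroup G, ¬ Cfsg.IsComponent K := by
      intro K hK
      refine component_false hp hcore hK fun a haK hap g hg R hR hRK haR hgaR => ?_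
      obtain ⟨S, hS⟩ := hR.exists_le_sylow
      obtain ⟨c, hc⟩ := exists_conj_mem hx S
      haveI : Group.IsNilpotent (S : Subgroup G) := S.2.isNilpotent
      have hOS : O ≤ (S : Subgroup G) := by
        obtain ⟨T, hT⟩ := hOp.exists_le_sylow
        obtain ⟨d, rfl⟩ := MulAction.exists_smul_eq G T S
        intro w hw
        rw [Sylow.coe_subgroup_smul]
        refine ⟨d⁻¹ * w * d, hT ?_, ?_⟩
        · simpa using Subgroup.Normal.conj_mem inferInstance w hw d⁻¹
        · show d * (d⁻¹ * w * d) * d⁻¹ = w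
          group
      have hne' : O.subgroupOf (S : Subgroup G) ≠ ⊥ := fun h => hne (by
        rw [Subgroup.subgroupOf_eq_bot] at h
        exact eq_bot_iff.2 fun w hw => h.le_bot ⟨hw, hOS hw⟩)
      obtain ⟨⟨w, hw⟩, hw1⟩ := Subgroup.ne_bot_iff_exists_ne_one.1
        (Cores.inf_center_ne_bot (N := O.subgroupOf (S : Subgroup G)) hne')
      obtain ⟨hwO, hwc⟩ := hw
      replace hwO : (w : G) ∈ O := hwO
      -- an element of order `p`
      obtain ⟨z, hzO, hzc, hzp, hz1⟩ : ∃ z, z ∈ O ∧ (∀ s ∈ (S : Subgroup G), Commute s z) ∧ z ^ p = 1 ∧ z ≠ 1 := by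
        have hw1' : (w : G) ≠ 1 := fun e => hw1 (Subtype.ext (Subtype.ext e))
        obtain ⟨n, hn⟩ := IsPGroup.iff_orderOf.1 hOp ⟨w, hwO⟩
        rw [Subgroup.orderOf_mk] at hn
        have hn0 : n ≠ 0 := fun e => hw1' (orderOf_eq_one_iff.1 (by rw [hn, e, pow_zero]))
        obtain ⟨m, rfl⟩ := Nat.exists_eq_succ_of_ne_zero hn0
        refine ⟨(w : G) ^ p ^ m, pow_mem hwO _, fun s hs => ?_, ?_, ?_⟩
        · exact (show Commute s (w : G) from congrArg Subtype.val (mem_center_iff.1 hwc ⟨s, hs⟩)).pow_right _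
        · rw [← pow_mul, ← pow_succ, ← hn, pow_orderOf_eq_one]
        · intro e
          have := Nat.le_of_dvd (pow_pos (Fact.out : p.Prime).pos _) (orderOf_dvd_of_pow_eq_one e)
          rw [hn] at this
          exact absurd this (not_le.2 (Nat.pow_lt_pow_right (Fact.out : p.Prime).one_lt (Nat.lt_succ_self m)))
      set y := c * x * c⁻¹ with hy
      have hyz : y ∉ zpowers z := fun h => hxO c ((zpowers_le.2 hzO) h)
      have hay : Commute a y := CharP.isolated_commute_of_pgroup (isolated_conj hiso c) S.2 hc (hS haR)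
      obtain ⟨t, ht, z', hz', hat⟩ := exists_mul_eq hrank (hxp c) hzp hap (hzc y hc) hay.symm (hzc a (hS haR)).symm hz1 hyz
      have hz'O : z' ∈ O := (zpowers_le.2 hzO) hz'
      refine eq_of_form (isolated_conj hiso c) (hxp c) (z := z') ?_ hR hRK
        (fun k hk => hcompO K hK k hk z' hz'O) hg ht hat haR hgaR
      obtain ⟨n, rfl⟩ := mem_zpowers_iff.1 hz'
      rw [← zpow_natCast, ← zpow_mul, mul_comm, zpow_mul, zpow_natCast, hzp, one_zpow]
    have hE : Cfsg.generalizedFittingSubgroup G = O := by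
      show Cfsg.layer G ⊔ _ = O
      rw [Components.Basic.layer_eq_bot_iff.2 hnoK, bot_sup_eq, hF]
    obtain ⟨S, hS⟩ := hOp.exists_le_sylow
    obtain ⟨c, hc⟩ := exists_conj_mem hx S
    refine hxO c (hE ▸ Components.Fitting.centralizer_genFitting_le (G := G) ?_)
    rw [hE, mem_centralizer_iff]
    exact fun w hw => CharP.isolated_commute_of_pgroup (isolated_conj hiso c) S.2 hc (hS hw)
  -- components are simple
  have hsimple : ∀ K : Subgroup G, Cfsg.IsComponent K → IsSimpleGroup K := by
    intro K hK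
    have hc : Subgroup.center K = ⊥ := by
      have hle : (Subgroup.center K).map K.subtype ≤ Cfsg.fittingSubgroup G :=
        Components.Fitting.le_fitting_of_isSubnormal
          ((Components.Basic.isSubnormal_map_subtype_iff hK.1 _).mpr (Subgroup.Normal.isSubnormal inferInstance))
          (@Group.nilpotent_of_mulEquiv _ _ _ _ (Components.Fitting.isNilpotent_of_isMulCommutative (Subgroup.center K))
            (equivMapOfInjective _ K.subtype K.subtype_injective))
      rw [hF, hO1, le_bot_iff, Subgroup.map_eq_bot_iff_of_injective _ K.subtype_injective] at hle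
      exact hle
    haveI := hK.2.2
    haveI : Nontrivial K := Components.Basic.quasisimple_nontrivial hK.2
    exact ((QuotientGroup.quotientMulEquivOfEq hc).trans QuotientGroup.quotientBot).symm.isSimpleGroup
  have hdisj : ∀ K L : Subgroup G, Cfsg.IsComponent K → Cfsg.IsComponent L → K ≠ L →
      (∀ k ∈ K, ∀ l ∈ L, Commute k l) ∧ ∀ u, u ∈ K → u ∈ L → u = 1 := by
    intro K L hK hL hne
    have h := Components.Basic.component_commutator_eq_bot_of_ne hK hL hne
    rw [commutator_eq_bot_iff_le_centralizer] at h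
    refine ⟨fun k hk l hl => ((mem_centralizer_iff.1 (h hk)) l hl).symm, fun u hu hu' => ?_⟩
    haveI := hsimple K hK
    rcases IsSimpleGroup.eq_bot_or_eq_top_of_normal (Subgroup.center K) inferInstance with hc | hc
    · have hm : (⟨u, hu⟩ : K) ∈ Subgroup.center K :=
        mem_center_iff.2 fun k => Subtype.ext ((mem_centralizer_iff.1 (h k.2)) u hu').symm
      rw [hc] at hm
      exact congrArg Subtype.val hm
    · exact absurd hc (Components.Basic.quasisimple_center_ne_top hK.2)
  have huniq : ∀ K L : Subgroup G, Cfsg.IsComponent K → Cfsg.IsComponent L → K = L := by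
    intro K L hK hL
    by_contra hne
    have key : ∀ K L : Subgroup G, Cfsg.IsComponent K → Cfsg.IsComponent L → K ≠ L →
        (∀ c : G, c * x * c⁻¹ ∈ L → ∃ d : G, d * x * d⁻¹ ∈ K) → False := by
      intro K L hK hL hne hcase
      obtain ⟨hKL, hKL'⟩ := hdisj K L hK hL hne
      obtain ⟨⟨b, hbL⟩, hb⟩ := exists_prime_orderOf_dvd_card' p (Components.PComponents.component_dvd_card hcore hL)
      rw [Subgroup.orderOf_mk] at hb
      have hb1 : b ≠ 1 := fun e => (Fact.out : p.Prime).ne_one (by rw [← hb, e, orderOf_one])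
      have hbp : b ^ p = 1 := by rw [← hb, pow_orderOf_eq_one]
      have hbR : IsPGroup p (zpowers b) := IsPGroup.of_card (n := 1) (by rw [Nat.card_zpowers, hb, pow_one])
      refine component_false hp hcore hK fun a haK hap g hg R hR hRK haR hgaR => ?_
      by_cases ha1 : a = 1
      · rw [ha1]; group
      have hab : a ∉ zpowers b := fun h => ha1 (hKL' a haK ((zpowers_le.2 hbL) h))
      have hRb : R ≤ normalizer (zpowers b : Set G) := fun r hr => by
        refine centralizer_le_normalizer (s := (zpowers b : Set G)) (mem_centralizer_iff.2 fun w hw => ?_)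
        exact (hKL r (hRK hr) w ((zpowers_le.2 hbL) hw)).eq.symm
      obtain ⟨S, hS⟩ := (hR.to_sup_of_normal_right' hbR hRb).exists_le_sylow
      obtain ⟨c, hc⟩ := exists_conj_mem hx S
      set y := c * x * c⁻¹ with hy
      have hcom : ∀ w ∈ (S : Subgroup G), Commute w y := fun w hw =>
        CharP.isolated_commute_of_pgroup (isolated_conj hiso c) S.2 hc hw
      obtain ⟨s, hs, t, ht, hst⟩ := exists_mul_eq hrank hap hbp (hxp c) (hKL a haK b hbL)
        (hcom a (hS (le_sup_left (b := zpowers b) haR))) (hcom b (hS (le_sup_right (a := R) (mem_zpowers b)))) hb1 hab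
      have hsK : s ∈ K := (zpowers_le.2 haK) hs
      have htL : t ∈ L := (zpowers_le.2 hbL) ht
      rcases zpow_mem_cases hap hs with rfl | has
      · exfalso
        rw [one_mul] at hst
        have hyL : y ∈ L := (show y = t from hst).symm ▸ htL
        obtain ⟨d, hd⟩ := hcase c hyL
        -- two conjugates in commuting components
        have hcd : (d * c⁻¹) * y * (d * c⁻¹)⁻¹ = d * x * d⁻¹ := by rw [hy]; group
        have he : d * x * d⁻¹ = y := by
          rw [← hcd]
          refine isolated_conj hiso c _ ?_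
          rw [hcd]
          exact (hKL _ hd _ hyL).symm
        have := hKL' y (he ▸ hd) hyL
        exact hx1 (conj_eq_one_iff.1 this)
      · obtain ⟨n, hn⟩ := mem_zpowers_iff.1 has
        have hcst : Commute s t := hKL s hsK t htL
        refine eq_of_form (isolated_conj hiso c) (hxp c) (z := (t ^ n)⁻¹) ?_ hR hRK
          (fun k hk => ((hKL k hk t htL).zpow_right n).inv_right) hg (t := y ^ n) (zpow_mem (mem_zpowers y) n) ?_ haR hgaR
        · obtain ⟨m, rfl⟩ := mem_zpowers_iff.1 ht
          rw [inv_pow, ← zpow_mul, ← zpow_natCast, ← zpow_mul, mul_comm, zpow_mul, zpow_natCast, hbp, one_zpow,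
            inv_one]
        · rw [show y = s * t from hst, hcst.mul_zpow, hn, mul_inv_cancel_right]
    by_cases h : ∀ c : G, c * x * c⁻¹ ∈ L → ∃ d : G, d * x * d⁻¹ ∈ K
    · exact key K L hK hL hne h
    · push Not at h
      obtain ⟨c, hc, -⟩ := h
      exact key L K hL hK (Ne.symm hne) fun _ _ => ⟨c, hc⟩
  have hgen : Cfsg.generalizedFittingSubgroup G = Cfsg.layer G := by
    show Cfsg.layer G ⊔ _ = _
    rw [hF, hO1, sup_bot_eq]
  obtain ⟨K, hK⟩ : ∃ K : Subgroup G, Cfsg.IsComponent K := by
    by_contra h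
    push Not at h
    have hC := Components.Fitting.centralizer_genFitting_le (G := G)
    rw [hgen, Components.Basic.layer_eq_bot_iff.2 h] at hC
    have hxC : x ∈ (⊥ : Subgroup G) := hC (mem_centralizer_iff.2 fun w hw => by rw [mem_bot.1 hw]; group)
    exact hx1 (mem_bot.1 hxC)
  have hE : Cfsg.generalizedFittingSubgroup G = K := by
    rw [hgen]
    refine le_antisymm (Components.Basic.layer_le fun L hL => (huniq L K hL hK).le) (Components.Basic.le_layer hK)
  rw [hE]
  refine ⟨hsimple K hK, fun h => ?_⟩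
  exact Components.Basic.quasisimple_center_ne_top hK.2 (eq_top_iff.2 fun u _ => mem_center_iff.2 fun v => mul_comm' v u)

end Cfsg.Agent.Techniques.IsolatedRankTwo
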