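import Mathlib.GroupTheory.Sylow
import Mathlib.GroupTheory.Subgroup.Centralizer
import Mathlib.GroupTheory.Index
import Mathlib.GroupTheory.GroupAction.ConjAct

/-!
Elementary lemmas on conjugates and Sylow subgroups of subgroups.
-/

set_option autoImplicit false

namespace Cfsg.Agent.Techniques

variable {G : Type*} [Group G]

theorem mem_map_conj {g x : G} {H : Subgroup G} :
    x ∈ H.map (MulAut.conj g).toMonoidHom ↔ g⁻¹ * x * g ∈ H := by
  rw [Subgroup.mem_map_equiv, MulAut.conj_symm_apply]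

theorem conj_mem_map_conj {g x : G} {H : Subgroup G} (hx : x ∈ H) :
    g * x * g⁻¹ ∈ H.map (MulAut.conj g).toMonoidHom :=
  Subgroup.mem_map_of_mem (MulAut.conj g).toMonoidHom hx

theorem map_conj_le_iff {g : G} {H K : Subgroup G} :
    H.map (MulAut.conj g).toMonoidHom ≤ K ↔ ∀ x ∈ H, g * x * g⁻¹ ∈ K := by
  rw [Subgroup.map_le_iff_le_comap]
  exact Iff.rfl

theorem map_conj_conj (g h : G) (H : Subgroup G) :
    (H.map (MulAut.conj g).toMonoidHom).map (MulAut.conj h).toMonoidHom =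
      H.map (MulAut.conj (h * g)).toMonoidHom := by
  ext x; simp only [mem_map_conj, mul_inv_rev, mul_assoc]

theorem map_conj_one (H : Subgroup G) : H.map (MulAut.conj (1 : G)).toMonoidHom = H := by
  ext x; simp [mem_map_conj]

theorem isPGroup_zpowers {p : ℕ} {w : G} {k : ℕ} (hw : orderOf w = p ^ k) :
    IsPGroup p (Subgroup.zpowers w) :=
  IsPGroup.of_card (n := k) (by rw [Nat.card_zpowers, hw])

/-- Two `p`-subgroups of `C` have a common `p`-overgroup in `C`, after conjugating one in `C`. -/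
theorem exists_isPGroup_sup_conj [Finite G] {p : ℕ} [Fact p.Prime] {A B C : Subgroup G}
    (hA : IsPGroup p A) (hB : IsPGroup p B) (hAC : A ≤ C) (hBC : B ≤ C) :
    ∃ R : Subgroup G, R ≤ C ∧ IsPGroup p R ∧ A ≤ R ∧ ∃ c ∈ C, ∀ b ∈ B, c * b * c⁻¹ ∈ R := by
  obtain ⟨Q, hQ⟩ := (hA.comap_subtype (K := C)).exists_le_sylow
  obtain ⟨Q', hQ'⟩ := (hB.comap_subtype (K := C)).exists_le_sylow
  obtain ⟨c, hc⟩ := MulAction.exists_smul_eq C Q' Q
  refine ⟨(Q : Subgroup C).map C.subtype, Subgroup.map_subtype_le _, Q.2.map _,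
    fun a ha => ⟨⟨a, hAC ha⟩, hQ ha, rfl⟩, c, c.2, fun b hb => ?_⟩
  refine ⟨c * ⟨b, hBC hb⟩ * c⁻¹, ?_, rfl⟩
  rw [← hc]
  exact Subgroup.mem_map_of_mem _ (hQ' hb)

/-- A `p`-subgroup can be conjugated into any Sylow `p`-subgroup. -/
theorem exists_conj_le_sylow [Finite G] {p : ℕ} [Fact p.Prime] {Q : Subgroup G}
    (hQ : IsPGroup p Q) (P : Sylow p G) :
    ∃ x : G, ∀ q ∈ Q, x * q * x⁻¹ ∈ (P : Subgroup G) := by
  obtain ⟨T, hT⟩ := hQ.exists_le_sylow
  obtain ⟨x, hx⟩ := MulAction.exists_smul_eq G T P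
  refine ⟨x, fun q hq => ?_⟩
  rw [← hx]
  exact Subgroup.mem_map_of_mem _ (hT hq)

/-- A nontrivial normal subgroup of a finite `p`-group has a nontrivial central element. -/
theorem exists_center_mem [Finite G] {p : ℕ} [Fact p.Prime] (hG : IsPGroup p G) {N : Subgroup G}
    [hN : N.Normal] (h : N ≠ ⊥) : ∃ z ∈ N, z ≠ 1 ∧ z ∈ Subgroup.center G := by
  have hA : IsPGroup p (ConjAct G) := hG
  have hdvd : p ∣ Nat.card N := by
    obtain ⟨n, hn⟩ := (hG.to_subgroup N).exists_card_eq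
    cases n with
    | zero => exact absurd (Subgroup.card_eq_one.mp (by simpa using hn)) h
    | succ n => rw [hn, pow_succ]; exact dvd_mul_left p _
  have h1 : (1 : N) ∈ MulAction.fixedPoints (ConjAct G) N := fun g => smul_one g
  obtain ⟨b, hb, hne⟩ := hA.exists_fixed_point_of_prime_dvd_card_of_fixed_point N hdvd h1
  refine ⟨b, b.2, fun h0 => hne (Subtype.ext h0.symm), Subgroup.mem_center_iff.mpr fun g => ?_⟩
  have h2 := congrArg Subtype.val (hb (ConjAct.toConjAct g))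
  rw [ConjAct.Subgroup.val_conj_smul] at h2
  simpa [ConjAct.toConjAct_smul, mul_inv_eq_iff_eq_mul] using h2

end Cfsg.Agent.Techniques
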