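import Cfsg.Agent.Base.RecEqns
import Cfsg.Prelude.Def_ConjugacyFunctors
import Cfsg.Agent.Techniques.Basic
import Mathlib.GroupTheory.QuotientGroup.Basic

/-!
The K-sequence of a finite p-group: monotonicity, maximal members, transport along injective maps.
-/

set_option autoImplicit false

namespace Cfsg.Agent.Techniques.KSeq

open Cfsg Subgroup
open scoped commutatorElement

variable {P : Type*} [Group P]

theorem lower_anti {Q R : Subgroup P} (h : Q ≤ R) : kLowerStarFamily R ⊆ kLowerStarFamily Q :=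
  fun _ hB => ⟨hB.1, h.trans hB.2.1, fun A hA hAQ => hB.2.2 A hA (hAQ.trans h)⟩

theorem upper_anti {Q R : Subgroup P} (h : Q ≤ R) : kUpperStarFamily R ⊆ kUpperStarFamily Q :=
  fun _ hB => ⟨hB.1, (commutator_mono le_rfl h).trans hB.2⟩

theorem lower_bot : kLowerStarFamily (⊥ : Subgroup P) = classTwoSubgroups P := by
  refine Set.Subset.antisymm (fun B hB => hB.1) fun B hB => ⟨hB, bot_le, fun A _ hA _ _ _ => ?_⟩
  rw [le_bot_iff.mp hA, commutator_bot_right]
  exact bot_le

theorem odd_succ (n : ℕ) : kSeqOdd P (n + 1) = sSup (kUpperStarFamily (kSeqEven P n)) := rfl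

theorem odd_succ_le (n : ℕ) : kSeqOdd P (n + 1) ≤ kSeqOdd P n := by
  induction n with
  | zero => exact le_top
  | succ n ih => exact sSup_le_sSup (upper_anti (sSup_le_sSup (lower_anti ih)))

theorem even_le_succ (n : ℕ) : kSeqEven P n ≤ kSeqEven P (n + 1) :=
  sSup_le_sSup (lower_anti (odd_succ_le n))

theorem odd_antitone : Antitone (kSeqOdd P) := antitone_nat_of_succ_le odd_succ_le

theorem even_monotone : Monotone (kSeqEven P) := monotone_nat_of_le_succ even_le_succ

theorem stabilize [Finite P] : ∃ n : ℕ, ∀ m : ℕ, n ≤ m →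
    kSeqEven P m = kInfLower P ∧ kSeqOdd P m = kInfUpper P := by
  obtain ⟨a, ha⟩ := WellFoundedGT.monotone_chain_condition ⟨kSeqEven P, even_monotone⟩
  obtain ⟨b, hb⟩ := WellFoundedGT.monotone_chain_condition
    ⟨fun n => OrderDual.toDual (kSeqOdd P n), fun _ _ h => odd_antitone h⟩
  refine ⟨max a b, fun m hm => ⟨le_antisymm (le_iSup (kSeqEven P) m) (iSup_le fun k => ?_),
    le_antisymm (le_iInf fun k => ?_) (iInf_le (kSeqOdd P) m)⟩⟩
  · have h1 : kSeqEven P a = kSeqEven P m := ha m (le_of_max_le_left hm)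
    have h2 : kSeqEven P a = kSeqEven P (max a k) := ha _ (le_max_left _ _)
    rw [← h1, h2]
    exact even_monotone (le_max_right _ _)
  · have h1 : kSeqOdd P b = kSeqOdd P m := hb m (le_of_max_le_right hm)
    have h2 : kSeqOdd P b = kSeqOdd P (max b k) := hb _ (le_max_left _ _)
    rw [← h1, h2]
    exact odd_antitone (le_max_right _ _)

theorem bot_mem_classTwo : (⊥ : Subgroup P) ∈ classTwoSubgroups P := by
  change ⁅(⊥ : Subgroup P), (⊥ : Subgroup P)⁆ ≤ _
  rw [commutator_bot_left]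
  exact bot_le

theorem bot_mem_lower (Q : Subgroup P) : (⊥ : Subgroup P) ∈ kLowerStarFamily Q := by
  refine ⟨bot_mem_classTwo, ?_, fun A _ _ _ _ _ => ?_⟩
  · rw [Subgroup.normalizer_eq_top]; exact le_top
  · rw [commutator_bot_left]; exact bot_le

theorem bot_mem_upper (Q : Subgroup P) : (⊥ : Subgroup P) ∈ kUpperStarFamily Q := by
  refine ⟨bot_mem_classTwo, ?_⟩
  rw [commutator_bot_left]; exact bot_le

theorem normalAbelian_mem {A : Subgroup P} [A.Normal] (hA : IsMulCommutative ↥A) (Q : Subgroup P) :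
    A ∈ classTwoSubgroups P ∧ A ∈ kLowerStarFamily Q ∧ A ∈ kUpperStarFamily Q := by
  have hc : A ≤ centralizer (A : Set P) := le_centralizer_iff_isMulCommutative.mpr hA
  have h2 : A ∈ classTwoSubgroups P := by
    change ⁅A, A⁆ ≤ _
    exact (commutator_le_left A A).trans hc
  have h : ∀ B : Subgroup P, ⁅A, B⁆ ≤ A ⊓ centralizer (A : Set P) := fun B =>
    le_inf (commutator_le_left A B) ((commutator_le_left A B).trans hc)
  refine ⟨h2, ⟨h2, ?_, fun B _ _ _ _ _ => h B⟩, h2, h Q⟩
  rw [Subgroup.normalizer_eq_top]; exact le_top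

/-- Adjoining to a class-two subgroup an element centralizing it. -/
theorem classTwo_sup_zpowers {B : Subgroup P} (hB : B ∈ classTwoSubgroups P) {c : P}
    (hc : c ∈ centralizer (B : Set P)) :
    B ⊔ zpowers c ∈ classTwoSubgroups P ∧
      B ⊔ zpowers c ≤ centralizer ((B ⊓ centralizer (B : Set P) : Subgroup P) : Set P) ∧
      B ⊓ centralizer (B : Set P) ≤
        (B ⊔ zpowers c) ⊓ centralizer ((B ⊔ zpowers c : Subgroup P) : Set P) := by
  have hcB : zpowers c ≤ centralizer (B : Set P) := zpowers_le.mpr hc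
  have h1 : B ⊔ zpowers c ≤ centralizer ((B ⊓ centralizer (B : Set P) : Subgroup P) : Set P) := by
    refine sup_le ?_ (hcB.trans (centralizer_le (by exact inf_le_left)))
    rw [le_centralizer_iff]; exact inf_le_right
  have h2 : ⁅B ⊔ zpowers c, B ⊔ zpowers c⁆ ≤ ⁅B, B⁆ := by
    rw [commutator_le]
    intro u hu v hv
    have hBn : zpowers c ≤ normalizer (B : Set P) := hcB.trans (centralizer_le_normalizer _)
    rw [← SetLike.mem_coe, coe_mul_of_right_le_normalizer_left B _ hBn] at hu hv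
    obtain ⟨b, hb, x, hx, rfl⟩ := hu
    obtain ⟨b', hb', y, hy, rfl⟩ := hv
    have ex : ∀ w ∈ B, x * w = w * x := fun w hw => ((mem_centralizer_iff.mp (hcB hx)) w hw).symm
    have ey : ∀ w ∈ B, y * w = w * y := fun w hw => ((mem_centralizer_iff.mp (hcB hy)) w hw).symm
    have exy : x * y = y * x := by
      obtain ⟨i, rfl⟩ := hx; obtain ⟨j, rfl⟩ := hy
      exact ((Commute.refl c).zpow_zpow i j).eq
    have e1 : (b * x) * (b' * y) = (b * b') * (x * y) := by
      rw [mul_assoc b x, ← mul_assoc x, ex b' hb']; simp only [mul_assoc]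
    have e2 : (b' * y) * (b * x) = (b' * b) * (x * y) := by
      rw [mul_assoc b' y, ← mul_assoc y, ey b hb, exy]; simp only [mul_assoc]
    have e3 : ⁅b * x, b' * y⁆ = ⁅b, b'⁆ := by
      rw [commutatorElement_def, commutatorElement_def,
        show (b * x) * (b' * y) * (b * x)⁻¹ * (b' * y)⁻¹ =
          ((b * x) * (b' * y)) * ((b' * y) * (b * x))⁻¹ by group, e1, e2]
      group
    rw [e3]
    exact commutator_mem_commutator hb hb'
  have h3 : B ⊓ centralizer (B : Set P) ≤
      (B ⊔ zpowers c) ⊓ centralizer ((B ⊔ zpowers c : Subgroup P) : Set P) :=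
    le_inf (inf_le_left.trans le_sup_left) (le_centralizer_iff.mp h1)
  refine ⟨?_, h1, h3⟩
  change ⁅B ⊔ zpowers c, B ⊔ zpowers c⁆ ≤ _
  exact h2.trans (le_trans (le_inf (commutator_le_self B) hB) (h3.trans inf_le_right))

theorem commutator_sup_zpowers_le {B A : Subgroup P} {c : P}
    (hc : c ∈ centralizer (B : Set P)) (hB : B ∈ classTwoSubgroups P)
    (hBA : ⁅B, A⁆ ≤ B ⊓ centralizer (B : Set P))
    (hcA : ∀ a ∈ A, ⁅c, a⁆ ∈ B ⊓ centralizer (B : Set P)) :
    ⁅B ⊔ zpowers c, A⁆ ≤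
      (B ⊔ zpowers c) ⊓ centralizer ((B ⊔ zpowers c : Subgroup P) : Set P) := by
  obtain ⟨-, h1, h2⟩ := classTwo_sup_zpowers hB hc
  set Z : Subgroup P := B ⊓ centralizer (B : Set P)
  refine le_trans ?_ h2
  rw [commutator_le]
  intro u hu a ha
  suffices h : u ∈ centralizer (Z : Set P) ∧ ⁅u, a⁆ ∈ Z from h.2
  let S : Subgroup P :=
    { carrier := {u | u ∈ centralizer (Z : Set P) ∧ ⁅u, a⁆ ∈ Z}
      one_mem' := ⟨one_mem _, by simp [one_mem]⟩
      mul_mem' := by
        rintro x y ⟨hx, hx'⟩ ⟨hy, hy'⟩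
        refine ⟨mul_mem hx hy, ?_⟩
        have e : x * ⁅y, a⁆ = ⁅y, a⁆ * x := (mem_centralizer_iff.mp hx ⁅y, a⁆ hy').symm
        rw [show ⁅x * y, a⁆ = x * ⁅y, a⁆ * x⁻¹ * ⁅x, a⁆ by simp [commutatorElement_def, mul_assoc],
          e, mul_inv_cancel_right]
        exact Subgroup.mul_mem _ hy' hx'
      inv_mem' := by
        rintro x ⟨hx, hx'⟩
        refine ⟨inv_mem hx, ?_⟩
        have e : x⁻¹ * ⁅x, a⁆⁻¹ = ⁅x, a⁆⁻¹ * x⁻¹ :=
          (mem_centralizer_iff.mp (inv_mem hx) _ (Subgroup.inv_mem Z hx')).symm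
        rw [show ⁅x⁻¹, a⁆ = x⁻¹ * ⁅x, a⁆⁻¹ * x by simp [commutatorElement_def, mul_assoc],
          e, inv_mul_cancel_right]
        exact Subgroup.inv_mem _ hx' }
  have hS : B ⊔ zpowers c ≤ S :=
    sup_le (fun b hb => ⟨h1 (mem_sup_left hb), hBA (commutator_mem_commutator hb ha)⟩)
      (zpowers_le.mpr ⟨h1 (mem_sup_right (mem_zpowers c)), hcA a ha⟩)
  exact hS hu

/-- An element outside `B` centralizing `B` and central modulo `B` in `N(B)`. -/
theorem exists_central_outside [Finite P] {p : ℕ} [Fact p.Prime] (hP : IsPGroup p P)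
    {B : Subgroup P} (h : ¬ centralizer (B : Set P) ≤ B) :
    ∃ c ∈ centralizer (B : Set P), c ∉ B ∧
      ∀ q ∈ normalizer (B : Set P), ⁅c, q⁆ ∈ B ⊓ centralizer (B : Set P) := by
  set N := normalizer (B : Set P) with hN
  set C := centralizer (B : Set P) with hC
  have hCn : ∀ n ∈ N, ∀ c ∈ C, n * c * n⁻¹ ∈ C := by
    intro n hn c hc
    rw [hC, mem_centralizer_iff]
    intro b hb
    have h1 : n⁻¹ * b * n ∈ B := (mem_normalizer_iff'.mp hn _).mpr (by simpa [mul_assoc] using hb)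
    have h2 := mem_centralizer_iff.mp hc _ h1
    calc b * (n * c * n⁻¹) = n * ((n⁻¹ * b * n) * c) * n⁻¹ := by group
      _ = n * (c * (n⁻¹ * b * n)) * n⁻¹ := by rw [h2]
      _ = n * c * n⁻¹ * b := by group
  have hBnor : (B.subgroupOf N).Normal := Subgroup.normal_in_normalizer
  have hCnor : (C.subgroupOf N).Normal :=
    ⟨fun c hc n => by
      rw [mem_subgroupOf] at hc ⊢
      exact hCn n n.2 c hc⟩
  have hp : IsPGroup p (↥N ⧸ B.subgroupOf N) := (hP.to_subgroup N).to_quotient _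
  have : ((C.subgroupOf N).map (QuotientGroup.mk' (B.subgroupOf N))).Normal :=
    hCnor.map _ (QuotientGroup.mk'_surjective _)
  have hne : (C.subgroupOf N).map (QuotientGroup.mk' (B.subgroupOf N)) ≠ ⊥ := by
    intro h0
    rw [Subgroup.map_eq_bot_iff, QuotientGroup.ker_mk'] at h0
    exact h fun c hc => h0 (x := ⟨c, centralizer_le_normalizer _ hc⟩) hc
  obtain ⟨_, ⟨c, hc, rfl⟩, hz1, hz2⟩ := exists_center_mem hp hne
  rw [Ne, QuotientGroup.mk'_apply, QuotientGroup.eq_one_iff] at hz1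
  refine ⟨c, hc, hz1, fun q hq => Subgroup.mem_inf.mpr ⟨?_, ?_⟩⟩
  · have h1 := Subgroup.mem_center_iff.mp hz2 (QuotientGroup.mk' _ ⟨q, hq⟩)
    have h2 : QuotientGroup.mk' (B.subgroupOf N) ⁅c, ⟨q, hq⟩⁆ = 1 := by
      rw [map_commutatorElement, commutatorElement_eq_one_iff_mul_comm]
      exact h1.symm
    rw [QuotientGroup.mk'_apply, QuotientGroup.eq_one_iff] at h2
    exact h2
  · rw [commutatorElement_def, mul_assoc, mul_assoc, ← mul_assoc q]
    exact Subgroup.mul_mem _ hc (hCn q hq _ (Subgroup.inv_mem _ hc))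

theorem maximal_lower [Finite P] {p : ℕ} [Fact p.Prime] (hP : IsPGroup p P) {Q B : Subgroup P}
    (hB : B ∈ kLowerStarFamily Q) (hmax : ∀ C ∈ kLowerStarFamily Q, B ≤ C → C = B) :
    centralizer (B : Set P) ≤ B := by
  by_contra h
  obtain ⟨c, hc, hcB, hcN⟩ := exists_central_outside hP h
  obtain ⟨hc2, hcent, hZ⟩ := classTwo_sup_zpowers hB.1 hc
  have hmem : B ⊔ zpowers c ∈ kLowerStarFamily Q := by
    refine ⟨hc2, ?_, fun A hA hAQ hN h1 h2 => commutator_sup_zpowers_le hc hB.1 ?_ fun a ha =>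
      hcN a (hB.2.1 (hAQ ha))⟩
    · rw [Subgroup.le_normalizer_iff]
      intro q hq
      have hS : B ⊔ zpowers c ≤ (B ⊔ zpowers c).comap (MulAut.conj q).toMonoidHom := by
        refine sup_le ?_ (zpowers_le.mpr ?_)
        · intro b hb
          have hn : q ∈ normalizer (B : Set P) := hB.2.1 hq
          have h1 : q * b * q⁻¹ ∈ B := (Subgroup.mem_normalizer_iff.mp hn b).mp hb
          exact mem_sup_left (S := B) (T := zpowers c) h1
        · change q * c * q⁻¹ ∈ B ⊔ zpowers c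
          rw [show q * c * q⁻¹ = ⁅c, q⁆⁻¹ * c by simp [commutatorElement_def, mul_assoc]]
          exact Subgroup.mul_mem _ (mem_sup_left (Subgroup.inv_mem _
            (Subgroup.mem_inf.mp (hcN q (hB.2.1 hq))).1)) (mem_sup_right (mem_zpowers c))
      exact fun u hu => hS hu
    · refine hB.2.2 A hA hAQ (le_sup_left.trans hN) ?_ ?_
      · exact eq_bot_iff.mpr ((commutator_mono le_sup_left le_rfl).trans h1.le)
      · exact eq_bot_iff.mpr ((commutator_mono (commutator_mono hZ le_rfl) le_rfl).trans h2.le)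
  have := hmax _ hmem le_sup_left
  exact hcB (this ▸ mem_sup_right (mem_zpowers c))

theorem maximal_upper [Finite P] {p : ℕ} [Fact p.Prime] (hP : IsPGroup p P) {Q B : Subgroup P}
    (hB : B ∈ kUpperStarFamily Q) (hmax : ∀ C ∈ kUpperStarFamily Q, B ≤ C → C = B) :
    centralizer (B : Set P) ≤ B := by
  by_contra h
  obtain ⟨c, hc, hcB, hcN⟩ := exists_central_outside hP h
  obtain ⟨hc2, hcent, hZ⟩ := classTwo_sup_zpowers hB.1 hc
  have hQN : Q ≤ normalizer (B : Set P) :=
    le_normalizer_iff_commutator_le_left.mpr (hB.2.trans inf_le_left)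
  have hmem : B ⊔ zpowers c ∈ kUpperStarFamily Q :=
    ⟨hc2, commutator_sup_zpowers_le hc hB.1 hB.2 fun a ha => hcN a (hQN ha)⟩
  have := hmax _ hmem le_sup_left
  exact hcB (this ▸ mem_sup_right (mem_zpowers c))

theorem exists_maximal [Finite P] {K : Set (Subgroup P)} (hK : K.Nonempty) :
    ∃ B ∈ K, ∀ C ∈ K, B ≤ C → C = B := by
  obtain ⟨B, hB⟩ := (Set.toFinite K).exists_maximal hK
  exact ⟨B, hB.1, fun C hC h => le_antisymm (hB.2 hC h) h⟩

theorem centralizer_kInfLower_le [Finite P] {p : ℕ} [Fact p.Prime] (hP : IsPGroup p P) :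
    centralizer (kInfLower P : Set P) ≤ kInfLower P := by
  obtain ⟨B, hB, hmax⟩ := exists_maximal ⟨⊥, bot_mem_lower (kSeqOdd P 0)⟩
  have h : B ≤ kInfLower P := (le_sSup hB).trans (le_iSup (kSeqEven P) 0)
  exact (centralizer_le (by exact h)).trans ((maximal_lower hP hB hmax).trans h)

theorem centralizer_kInfUpper_le [Finite P] {p : ℕ} [Fact p.Prime] (hP : IsPGroup p P) :
    centralizer (kInfUpper P : Set P) ≤ kInfUpper P := by
  obtain ⟨n, hn⟩ := stabilize (P := P)
  obtain ⟨B, hB, hmax⟩ := exists_maximal ⟨⊥, bot_mem_upper (kSeqEven P n)⟩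
  have h : B ≤ kInfUpper P := (le_sSup hB).trans_eq ((odd_succ n).symm.trans (hn _ (by omega)).2)
  exact (centralizer_le (by exact h)).trans ((maximal_upper hP hB hmax).trans h)

/-! ### Transport along injective homomorphisms -/

section transport

variable {Q : Type*} [Group Q] {f : Q →* P} (hf : Function.Injective f)
include hf

theorem map_commutator_le {A B C : Subgroup Q} :
    ⁅A.map f, B.map f⁆ ≤ C.map f ↔ ⁅A, B⁆ ≤ C := by
  rw [← Subgroup.map_commutator, Subgroup.map_le_map_iff_of_injective hf]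

theorem map_le_normalizer {A B : Subgroup Q} :
    A.map f ≤ normalizer (B.map f : Set P) ↔ A ≤ normalizer (B : Set Q) := by
  rw [le_normalizer_iff_commutator_le_left, le_normalizer_iff_commutator_le_left,
    map_commutator_le hf]

theorem map_le_centralizer {A B : Subgroup Q} :
    A.map f ≤ centralizer (B.map f : Set P) ↔ A ≤ centralizer (B : Set Q) := by
  rw [← commutator_eq_bot_iff_le_centralizer, ← commutator_eq_bot_iff_le_centralizer,
    ← Subgroup.map_commutator, map_eq_bot_iff_of_injective _ hf]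

theorem map_centre (B : Subgroup Q) :
    (B ⊓ centralizer (B : Set Q)).map f = B.map f ⊓ centralizer (B.map f : Set P) := by
  refine le_antisymm (le_inf (map_mono inf_le_left)
    ((map_le_centralizer hf).mpr inf_le_right)) ?_
  rintro _ ⟨⟨b, hb, rfl⟩, h⟩
  refine mem_map_of_mem f (Subgroup.mem_inf.mpr ⟨hb, mem_centralizer_iff.mpr fun x hx => hf ?_⟩)
  simpa using mem_centralizer_iff.mp h (f x) (mem_map_of_mem f hx)

theorem classTwo_map_iff {B : Subgroup Q} :
    B.map f ∈ classTwoSubgroups P ↔ B ∈ classTwoSubgroups Q := by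
  change ⁅B.map f, B.map f⁆ ≤ centralizer (B.map f : Set P) ↔ _
  rw [← Subgroup.map_commutator, map_le_centralizer hf]
  rfl

theorem upper_map_iff {R B : Subgroup Q} :
    B.map f ∈ kUpperStarFamily (R.map f) ↔ B ∈ kUpperStarFamily R := by
  change (B.map f ∈ classTwoSubgroups P ∧ _) ↔ _
  rw [classTwo_map_iff hf, ← map_centre hf, map_commutator_le hf]
  rfl

theorem lower_map_iff {R B : Subgroup Q} :
    B.map f ∈ kLowerStarFamily (R.map f) ↔ B ∈ kLowerStarFamily R := by
  change (B.map f ∈ classTwoSubgroups P ∧ _) ↔ _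
  rw [classTwo_map_iff hf, map_le_normalizer hf]
  refine and_congr_right fun _ => and_congr_right fun _ => ⟨fun h A hA hAR hN h1 h2 => ?_,
    fun h A hA hAR hN h1 h2 => ?_⟩
  · have := h (A.map f) ((classTwo_map_iff hf).mpr hA) (map_mono hAR)
      ((map_le_normalizer hf).mpr hN)
      (by rw [← Subgroup.map_commutator, ← Subgroup.map_commutator, h1, Subgroup.map_bot])
      (by rw [← map_centre hf, ← Subgroup.map_commutator, ← Subgroup.map_commutator, h2, Subgroup.map_bot])
    rwa [← map_centre hf, map_commutator_le hf] at this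
  · obtain ⟨A, rfl⟩ : ∃ A' : Subgroup Q, A'.map f = A :=
      ⟨A.comap f, map_comap_eq_self (hAR.trans (map_le_range f R))⟩
    rw [map_le_map_iff_of_injective hf] at hAR
    rw [map_le_normalizer hf] at hN
    rw [classTwo_map_iff hf] at hA
    rw [← Subgroup.map_commutator, ← Subgroup.map_commutator,
      map_eq_bot_iff_of_injective _ hf] at h1
    rw [← map_centre hf, ← Subgroup.map_commutator, ← Subgroup.map_commutator,
      map_eq_bot_iff_of_injective _ hf] at h2
    rw [← map_centre hf, map_commutator_le hf]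
    exact h A hA hAR hN h1 h2

theorem map_sSup_lower (R : Subgroup Q) :
    (sSup (kLowerStarFamily R)).map f =
      sSup {B | B ∈ kLowerStarFamily (R.map f) ∧ B ≤ f.range} := by
  rw [(gc_map_comap f).l_sSup]
  refine le_antisymm (iSup₂_le fun B hB =>
    le_sSup (show B.map f ∈ _ from ⟨(lower_map_iff hf).mpr hB, map_le_range f B⟩)) (sSup_le ?_)
  rintro B ⟨hB, hBr⟩
  rw [← map_comap_eq_self hBr] at hB ⊢
  exact le_iSup₂ (f := fun A (_ : A ∈ kLowerStarFamily R) => A.map f) _ ((lower_map_iff hf).mp hB)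

theorem map_sSup_upper (R : Subgroup Q) :
    (sSup (kUpperStarFamily R)).map f =
      sSup {B | B ∈ kUpperStarFamily (R.map f) ∧ B ≤ f.range} := by
  rw [(gc_map_comap f).l_sSup]
  refine le_antisymm (iSup₂_le fun B hB =>
    le_sSup (show B.map f ∈ _ from ⟨(upper_map_iff hf).mpr hB, map_le_range f B⟩)) (sSup_le ?_)
  rintro B ⟨hB, hBr⟩
  rw [← map_comap_eq_self hBr] at hB ⊢
  exact le_iSup₂ (f := fun A (_ : A ∈ kUpperStarFamily R) => A.map f) _ ((upper_map_iff hf).mp hB)

theorem squeeze (hr : ∀ n, kSeqEven P n ≤ f.range ∧ kSeqOdd P (n + 1) ≤ f.range) (n : ℕ) :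
    (kSeqOdd P (n + 1) ≤ (kSeqOdd Q n).map f ∧ (kSeqOdd Q n).map f ≤ kSeqOdd P n) ∧
      (kSeqEven P n ≤ (kSeqEven Q n).map f ∧ (kSeqEven Q n).map f ≤ kSeqEven P (n + 1)) := by
  have step : ∀ m, (kSeqOdd P (m + 1) ≤ (kSeqOdd Q m).map f ∧
      (kSeqOdd Q m).map f ≤ kSeqOdd P m) →
      kSeqEven P m ≤ (kSeqEven Q m).map f ∧ (kSeqEven Q m).map f ≤ kSeqEven P (m + 1) := by
    intro m ⟨h1, h2⟩
    rw [show (kSeqEven Q m).map f = _ from map_sSup_lower hf _]
    refine ⟨sSup_le fun B hB => le_sSup ⟨lower_anti h2 hB, ?_⟩,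
      sSup_le_sSup fun B hB => lower_anti h1 hB.1⟩
    exact (le_sSup hB).trans (hr m).1
  suffices hodd : kSeqOdd P (n + 1) ≤ (kSeqOdd Q n).map f ∧ (kSeqOdd Q n).map f ≤ kSeqOdd P n from
    ⟨hodd, step n hodd⟩
  induction n with
  | zero =>
    refine ⟨(hr 0).2.trans_eq ?_, le_top⟩
    exact MonoidHom.range_eq_map f
  | succ m ih =>
    obtain ⟨h1, h2⟩ := step m ih
    rw [show (kSeqOdd Q (m + 1)).map f = _ from map_sSup_upper hf (kSeqEven Q m)]
    refine ⟨sSup_le fun B hB => le_sSup ⟨upper_anti h2 hB, ?_⟩,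
      sSup_le_sSup fun B hB => upper_anti h1 hB.1⟩
    exact (le_sSup hB).trans (hr (m + 1)).2

end transport

theorem kInf_map_eq {Q P : Type*} [Group Q] [Group P] {f : Q →* P} (hf : Function.Injective f)
    (hr : ∀ n, kSeqEven P n ≤ f.range ∧ kSeqOdd P (n + 1) ≤ f.range) :
    (kInfLower Q).map f = kInfLower P ∧ (kInfUpper Q).map f = kInfUpper P := by
  unfold kInfLower kInfUpper
  rw [Subgroup.map_iSup, Subgroup.map_iInf f hf]
  constructor
  · exact le_antisymm (iSup_le fun n => (squeeze hf hr n).2.2.trans (le_iSup (kSeqEven P) _))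
      (iSup_mono fun n => (squeeze hf hr n).2.1)
  · exact le_antisymm (iInf_mono fun n => (squeeze hf hr n).1.2)
      (le_iInf fun n => (iInf_le (kSeqOdd P) (n + 1)).trans (squeeze hf hr n).1.1)

end Cfsg.Agent.Techniques.KSeq

namespace Cfsg.Agent.Techniques.KSeq

universe u

open Cfsg Subgroup

theorem map_equiv {Q R : Type*} [Group Q] [Group R] (φ : Q ≃* R) :
    (kInfLower Q).map φ.toMonoidHom = kInfLower R ∧
      (kInfUpper Q).map φ.toMonoidHom = kInfUpper R := by
  refine kInf_map_eq φ.injective fun n => ?_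
  rw [MonoidHom.range_eq_top.mpr φ.surjective]
  exact ⟨le_top, le_top⟩

theorem isCharPFunctor_kInfLower {p : ℕ} [Fact p.Prime] :
    IsCharPFunctor p (fun (Q : Type u) [Group Q] => kInfLower Q) := by
  refine ⟨fun Q _ _ hQ hnt h => ?_, fun Q R _ _ _ _ φ => (map_equiv φ).1⟩
  replace h : kInfLower Q = ⊥ := h
  have := centralizer_kInfLower_le hQ
  rw [h] at this
  obtain ⟨x, hx⟩ := exists_ne (1 : Q)
  exact hx (mem_bot.mp (this (mem_centralizer_iff.mpr fun y hy => by simp [mem_bot.mp hy])))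

theorem isCharPFunctor_kInfUpper {p : ℕ} [Fact p.Prime] :
    IsCharPFunctor p (fun (Q : Type u) [Group Q] => kInfUpper Q) := by
  refine ⟨fun Q _ _ hQ hnt h => ?_, fun Q R _ _ _ _ φ => (map_equiv φ).2⟩
  replace h : kInfUpper Q = ⊥ := h
  have := centralizer_kInfUpper_le hQ
  rw [h] at this
  obtain ⟨x, hx⟩ := exists_ne (1 : Q)
  exact hx (mem_bot.mp (this (mem_centralizer_iff.mpr fun y hy => by simp [mem_bot.mp hy])))

end Cfsg.Agent.Techniques.KSeq
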