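import Cfsg.Agent.Techniques.SL27UnitaryData
import Cfsg.Agent.Recognition.SmallFrobenius
import Cfsg.Agent.Lib.Classical.Linear

/-!
A homomorphism from `SL(2,7)` to `SU(3,3)` with kernel `±1`.
-/

set_option autoImplicit false
set_option maxRecDepth 100000

namespace Cfsg.Agent.Techniques.SL27Unitary

open Matrix

/-- The field with nine elements. -/
abbrev K := Cfsg.Agent.Recognition.SmallFrobenius.Ext 3 2

theorem inverses : ∀ z : K, z = 0 ∨ ∃ y : K, z * y = 1 := by decide +kernel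

/-- A matrix over `ZMod 7` from its base 7 code. -/
def mat2 (n : ℕ) : Matrix (Fin 2) (Fin 2) (ZMod 7) :=
  Matrix.of fun i j => ((n / 7 ^ (2 * (i : ℕ) + (j : ℕ)) % 7 : ℕ) : ZMod 7)

/-- A matrix over `K` from its base 9 code. -/
def mat3 (n : ℕ) : Matrix (Fin 3) (Fin 3) K :=
  Matrix.of fun i j =>
    ⟨((n / 9 ^ (3 * (i : ℕ) + (j : ℕ)) % 9 / 3 : ℕ) : ZMod 3),
      ((n / 9 ^ (3 * (i : ℕ) + (j : ℕ)) % 9 % 3 : ℕ) : ZMod 3)⟩

/-- The code of a matrix over `ZMod 7`. -/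
def enc2 (M : Matrix (Fin 2) (Fin 2) (ZMod 7)) : ℕ :=
  (M 0 0).val + 7 * (M 0 1).val + 49 * (M 1 0).val + 343 * (M 1 1).val

def S2 : SpecialLinearGroup (Fin 2) (ZMod 7) := ⟨!![0, 6; 1, 0], by decide +kernel⟩
def T2 : SpecialLinearGroup (Fin 2) (ZMod 7) := ⟨!![1, 1; 0, 1], by decide +kernel⟩

def SA : SpecialLinearGroup (Fin 3) K :=
  ⟨!![⟨0, 0⟩, ⟨0, 0⟩, ⟨0, 2⟩; ⟨0, 0⟩, ⟨2, 0⟩, ⟨0, 0⟩; ⟨0, 1⟩, ⟨0, 0⟩, ⟨0, 0⟩], by decide +kernel⟩

def TA : SpecialLinearGroup (Fin 3) K :=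
  ⟨!![⟨1, 2⟩, ⟨0, 2⟩, ⟨0, 2⟩; ⟨2, 2⟩, ⟨1, 0⟩, ⟨1, 0⟩; ⟨0, 0⟩, ⟨1, 1⟩, ⟨2, 2⟩], by decide +kernel⟩

theorem SA_unitary : ∀ i j : Fin 3, ∑ k, SA.1 k i * (SA.1 k j) ^ 3 = if i = j then 1 else 0 := by
  decide +kernel

theorem TA_unitary : ∀ i j : Fin 3, ∑ k, TA.1 k i * (TA.1 k j) ^ 3 = if i = j then 1 else 0 := by
  decide +kernel

/-- The checks of one row of the data. -/
def rowOK (q : (ℕ × ℕ) × (ℕ × ℕ)) : Bool :=
  decide (enc2 (mat2 q.1.1) = q.1.1) &&
  decide (enc2 (mat2 q.1.1 * S2.1) = (pairs.getD q.2.1 (0, 0)).1) &&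
  decide (enc2 (mat2 q.1.1 * T2.1) = (pairs.getD q.2.2 (0, 0)).1) &&
  decide (mat3 q.1.2 * SA.1 = mat3 (pairs.getD q.2.1 (0, 0)).2) &&
  decide (mat3 q.1.2 * TA.1 = mat3 (pairs.getD q.2.2 (0, 0)).2) &&
  decide (q.2.1 < 336) && decide (q.2.2 < 336) &&
  decide (mat3 q.1.2 = 1 → q.1.1 = 344 ∨ q.1.1 = 2064)

theorem rows_ok : (pairs.zip succs).all rowOK = true := by decide +kernel

theorem pairs_length : pairs.length = 336 ∧ succs.length = 336 := by decide +kernel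

theorem codes_nodup : (pairs.map Prod.fst).Nodup := by decide +kernel

theorem one_row : mat2 (pairs.getD 0 (0, 0)).1 = 1 ∧ mat3 (pairs.getD 0 (0, 0)).2 = 1 := by decide +kernel

theorem enc2_injective : ∀ M N : Matrix (Fin 2) (Fin 2) (ZMod 7), enc2 M = enc2 N → M = N := by
  intro M N h
  have a1 := (M 0 0).val_lt
  have a2 := (M 0 1).val_lt
  have a3 := (M 1 0).val_lt
  have a4 := (M 1 1).val_lt
  have b1 := (N 0 0).val_lt
  have b2 := (N 0 1).val_lt
  have b3 := (N 1 0).val_lt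
  have b4 := (N 1 1).val_lt
  simp only [enc2] at h
  ext i j
  apply ZMod.val_injective 7
  fin_cases i <;> fin_cases j <;> simp only [Fin.zero_eta, Fin.mk_one, Fin.isValue] <;> omega

abbrev Prd := SpecialLinearGroup (Fin 2) (ZMod 7) × SpecialLinearGroup (Fin 3) K

/-- The graph. -/
def P : Subgroup Prd := Subgroup.closure {(S2, SA), (T2, TA)}

theorem row_of_lt {i : ℕ} (hi : i < 336) :
    ∃ q ∈ pairs.zip succs, q.1 = pairs.getD i (0, 0) := by
  obtain ⟨h1, h2⟩ := pairs_length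
  refine ⟨(pairs.zip succs)[i]'(by rw [List.length_zip, h1, h2]; omega), List.getElem_mem _, ?_⟩
  rw [List.getElem_zip, List.getD_eq_getElem]

theorem mem_P {x : Prd} (hx : x ∈ P) :
    ∃ i < 336, x.1.1 = mat2 (pairs.getD i (0, 0)).1 ∧ x.2.1 = mat3 (pairs.getD i (0, 0)).2 := by
  have hfin : x ∈ Submonoid.closure ({(S2, SA), (T2, TA)} : Set Prd) := by
    rw [P, ← Subgroup.mem_toSubmonoid, Subgroup.closure_toSubmonoid_of_finite] at hx
    exact hx
  clear hx
  induction hfin using Submonoid.closure_induction_right with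
  | one => exact ⟨0, by norm_num, one_row.1.symm, one_row.2.symm⟩
  | mul_right g _ s hs hg =>
    obtain ⟨i, hi, e2, e3⟩ := hg
    obtain ⟨q, hq, hqi⟩ := row_of_lt hi
    have hr := List.all_eq_true.mp rows_ok q hq
    simp only [rowOK, Bool.and_eq_true, decide_eq_true_eq] at hr
    obtain ⟨⟨⟨⟨⟨⟨⟨-, s2⟩, t2⟩, s3⟩, t3⟩, hls⟩, hlt⟩, -⟩ := hr
    rw [hqi] at s2 t2 s3 t3
    have key : ∀ k < 336, enc2 (mat2 (pairs.getD k (0, 0)).1) = (pairs.getD k (0, 0)).1 := by
      intro k hk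
      obtain ⟨q', hq', hqk⟩ := row_of_lt hk
      have hr := List.all_eq_true.mp rows_ok q' hq'
      simp only [rowOK, Bool.and_eq_true, decide_eq_true_eq] at hr
      exact hqk ▸ hr.1.1.1.1.1.1.1
    rcases hs with rfl | rfl
    · refine ⟨q.2.1, hls, ?_, ?_⟩
      · show g.1.1 * S2.1 = _
        rw [e2]
        exact enc2_injective _ _ (s2.trans (key _ hls).symm)
      · show g.2.1 * SA.1 = _
        rw [e3, s3]
    · refine ⟨q.2.2, hlt, ?_, ?_⟩
      · show g.1.1 * T2.1 = _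
        rw [e2]
        exact enc2_injective _ _ (t2.trans (key _ hlt).symm)
      · show g.2.1 * TA.1 = _
        rw [e3, t3]

theorem row_mem {i : ℕ} (hi : i < 336) :
    enc2 (mat2 (pairs.getD i (0, 0)).1) = (pairs.getD i (0, 0)).1 ∧
      (mat3 (pairs.getD i (0, 0)).2 = 1 →
        (pairs.getD i (0, 0)).1 = 344 ∨ (pairs.getD i (0, 0)).1 = 2064) := by
  obtain ⟨q, hq, hqi⟩ := row_of_lt hi
  have hr := List.all_eq_true.mp rows_ok q hq
  simp only [rowOK, Bool.and_eq_true, decide_eq_true_eq] at hr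
  exact hqi ▸ ⟨hr.1.1.1.1.1.1.1, hr.2⟩

theorem fst_injective_on {x y : Prd} (hx : x ∈ P) (hy : y ∈ P) (h : x.1 = y.1) : x = y := by
  obtain ⟨i, hi, e2, e3⟩ := mem_P hx
  obtain ⟨j, hj, f2, f3⟩ := mem_P hy
  have hij : (pairs.getD i (0, 0)).1 = (pairs.getD j (0, 0)).1 := by
    rw [← (row_mem hi).1, ← (row_mem hj).1, ← e2, ← f2, h]
  obtain ⟨h1, -⟩ := pairs_length
  have : i = j := by
    rw [List.getD_eq_getElem _ _ (by omega), List.getD_eq_getElem _ _ (by omega)] at hij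
    exact (codes_nodup.getElem_inj_iff (hi := by simpa [h1] using hi) (hj := by simpa [h1] using hj)).mp
      (by simpa using hij)
  exact Prod.ext h (Subtype.ext (by rw [e3, f3, this]))

theorem eq_pm_one {x : Prd} (hx : x ∈ P) (h : x.2 = 1) : x.1.1 = 1 ∨ x.1.1 = -1 := by
  obtain ⟨i, hi, e2, e3⟩ := mem_P hx
  obtain ⟨k1, k2⟩ := row_mem hi
  have h3 : mat3 (pairs.getD i (0, 0)).2 = 1 := by rw [← e3, h]; rfl
  rcases k2 h3 with e | e
  · left; rw [e2, e]; decide +kernel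
  · right; rw [e2, e]; decide +kernel

/-- Translations and their transposes. -/
theorem generators :
    Subgroup.closure ({S2, T2} : Set (SpecialLinearGroup (Fin 2) (ZMod 7))) = ⊤ := by
  haveI : Fact (Nat.Prime 7) := ⟨by norm_num⟩
  rw [eq_top_iff]
  intro M _
  obtain ⟨M, hM⟩ := M
  have h := forms M hM
  obtain ⟨a, b, c, d, e⟩ := h
  have : (⟨M, hM⟩ : SpecialLinearGroup (Fin 2) (ZMod 7)) =
      T2 ^ (a : ℕ) * S2 * T2 ^ (b : ℕ) * S2 * T2 ^ (c : ℕ) * S2 * T2 ^ (d : ℕ) := Subtype.ext (by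
    simpa using e)
  rw [this]
  have hS : S2 ∈ Subgroup.closure ({S2, T2} : Set (SpecialLinearGroup (Fin 2) (ZMod 7))) :=
    Subgroup.subset_closure (by simp)
  have hT : T2 ∈ Subgroup.closure ({S2, T2} : Set (SpecialLinearGroup (Fin 2) (ZMod 7))) :=
    Subgroup.subset_closure (by simp)
  exact mul_mem (mul_mem (mul_mem (mul_mem (mul_mem (mul_mem (pow_mem hT _) hS) (pow_mem hT _)) hS)
    (pow_mem hT _)) hS) (pow_mem hT _)
where
  forms : ∀ M : Matrix (Fin 2) (Fin 2) (ZMod 7), M.det = 1 → ∃ a b c d : Fin 7,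
      M = T2.1 ^ (a : ℕ) * S2.1 * T2.1 ^ (b : ℕ) * S2.1 * T2.1 ^ (c : ℕ) * S2.1 * T2.1 ^ (d : ℕ) := by
    decide +kernel

theorem fst_surjective (M : SpecialLinearGroup (Fin 2) (ZMod 7)) : ∃ x ∈ P, x.1 = M := by
  have : Subgroup.closure ({S2, T2} : Set (SpecialLinearGroup (Fin 2) (ZMod 7))) ≤
      P.map (MonoidHom.fst _ _) := by
    rw [Subgroup.closure_le]
    rintro u (rfl | rfl)
    · exact ⟨(S2, SA), Subgroup.subset_closure (by simp), rfl⟩
    · exact ⟨(T2, TA), Subgroup.subset_closure (by simp), rfl⟩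
  rw [generators] at this
  exact this (Subgroup.mem_top M)

/-- The homomorphism. -/
noncomputable def theta : SpecialLinearGroup (Fin 2) (ZMod 7) →* SpecialLinearGroup (Fin 3) K :=
  ((MonoidHom.snd (SpecialLinearGroup (Fin 2) (ZMod 7)) (SpecialLinearGroup (Fin 3) K)).comp P.subtype).comp
    (MulEquiv.ofBijective
      ((MonoidHom.fst (SpecialLinearGroup (Fin 2) (ZMod 7)) (SpecialLinearGroup (Fin 3) K)).comp P.subtype)
      ⟨fun x y h => Subtype.ext (fst_injective_on x.2 y.2 h), fun M => by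
        obtain ⟨x, hx, e⟩ := fst_surjective M
        exact ⟨⟨x, hx⟩, e⟩⟩).symm.toMonoidHom

theorem mem_graph (M : SpecialLinearGroup (Fin 2) (ZMod 7)) : (M, theta M) ∈ P := by
  set e := MulEquiv.ofBijective
      ((MonoidHom.fst (SpecialLinearGroup (Fin 2) (ZMod 7)) (SpecialLinearGroup (Fin 3) K)).comp P.subtype)
      ⟨fun x y h => Subtype.ext (fst_injective_on x.2 y.2 h), fun M => by
        obtain ⟨x, hx, e⟩ := fst_surjective M
        exact ⟨⟨x, hx⟩, e⟩⟩
  have h1 : ((e.symm M : P) : Prd).1 = M := e.apply_symm_apply M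
  exact (Prod.ext h1 rfl : ((e.symm M : P) : Prd) = (M, theta M)) ▸ (e.symm M).2

theorem theta_eq_one_iff (M : SpecialLinearGroup (Fin 2) (ZMod 7)) :
    theta M = 1 ↔ M ∈ Subgroup.center (SpecialLinearGroup (Fin 2) (ZMod 7)) := by
  constructor
  · intro h
    rcases eq_pm_one (mem_graph M) h with e | e <;>
      exact Subgroup.mem_center_iff.mpr fun N => Subtype.ext (by
        show N.1 * M.1 = M.1 * N.1
        rw [show M.1 = _ from e]
        simp)
  · intro h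
    have hc : ∀ N : SpecialLinearGroup (Fin 2) (ZMod 7), N.1 * M.1 = M.1 * N.1 := fun N =>
      congrArg Subtype.val (Subgroup.mem_center_iff.mp h N)
    have hM := pm M.1 M.2 (hc S2) (hc T2)
    have hneg : (S2, SA) * (S2, SA) ∈ P :=
      P.mul_mem (Subgroup.subset_closure (by simp)) (Subgroup.subset_closure (by simp))
    rcases hM with e | e
    · rw [show M = 1 from Subtype.ext e, map_one]
    · have e' : M = S2 * S2 := Subtype.ext (by rw [e]; decide +kernel)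
      have := fst_injective_on (mem_graph M) hneg e'
      rw [show theta M = SA * SA from congrArg Prod.snd this]
      exact Subtype.ext (by decide +kernel)
where
  pm : ∀ M : Matrix (Fin 2) (Fin 2) (ZMod 7), M.det = 1 → S2.1 * M = M * S2.1 → T2.1 * M = M * T2.1 →
      M = 1 ∨ M = -1 := by decide +kernel

theorem theta_unitary_le {F : Type*} [Field F] (φ : K →+* F)
    (U : Subgroup (SpecialLinearGroup (Fin 3) F))
    (hA : SpecialLinearGroup.map φ SA ∈ U) (hT : SpecialLinearGroup.map φ TA ∈ U)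
    (M : SpecialLinearGroup (Fin 2) (ZMod 7)) : SpecialLinearGroup.map φ (theta M) ∈ U := by
  have hle : P ≤ U.comap ((SpecialLinearGroup.map φ).comp (MonoidHom.snd _ _)) := by
    rw [P, Subgroup.closure_le]
    rintro u (rfl | rfl)
    · exact hA
    · exact hT
  exact (hle (mem_graph M) : ((SpecialLinearGroup.map φ).comp (MonoidHom.snd _ _)) (M, theta M) ∈ U)

end Cfsg.Agent.Techniques.SL27Unitary
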