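import Cfsg.Prelude.Def_Local
import Cfsg.Agent.Techniques.Sylow
import Cfsg.Agent.Lib.PLocal.Cores
import Cfsg.Agent.Lib.Coprime.SchurZassenhaus

/-!
The subgroup `H = P ∩ O_{p',p}(G)` of a Sylow subgroup `P` and the fusion controlled by its normalizer.
-/

set_option autoImplicit false

namespace Cfsg.Agent.Techniques.PPrimeP

open Cfsg

variable {G : Type*} [Group G] [Finite G] {p : ℕ} [Fact p.Prime] (P : Sylow p G)

/-- `P ∩ O_{p',p}(G)`. -/
abbrev core : Subgroup G := (P : Subgroup G) ⊓ pPrimePCore p G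

theorem sylow_le_normalizer : (P : Subgroup G) ≤ Subgroup.normalizer (core P : Set G) := by
  intro x hx
  rw [Subgroup.mem_normalizer_iff]
  intro y
  have hN : (pPrimePCore p G).Normal := inferInstance
  simp only [Subgroup.mem_inf]
  constructor
  · rintro ⟨h1, h2⟩
    exact ⟨Subgroup.mul_mem _ (Subgroup.mul_mem _ hx h1) (Subgroup.inv_mem _ hx), hN.conj_mem y h2 x⟩
  · rintro ⟨h1, h2⟩
    refine ⟨?_, ?_⟩
    · have h := Subgroup.mul_mem _ (Subgroup.mul_mem _ (Subgroup.inv_mem _ hx) h1) hx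
      simpa [mul_assoc, -SetLike.mem_coe] using h
    · have h := hN.conj_mem _ h2 x⁻¹
      simpa [mul_assoc] using h

theorem sup_core : pPrimeCore p G ⊔ core P = pPrimePCore p G := by
  set K := pPrimeCore p G
  set N0 := pPrimePCore p G
  have hK : K ≤ N0 := PLocal.Cores.pPrimeCore_le_pPrimePCore
  have hle : K ⊔ core P ≤ N0 := sup_le hK inf_le_right
  have h1 : (K ⊔ core P).relIndex N0 ∣ K.relIndex N0 := Subgroup.relIndex_dvd_of_le_left N0 le_sup_left
  obtain ⟨k, hk⟩ := PLocal.Cores.relIndex_pPrimePCore (p := p) (G := G)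
  rw [hk] at h1
  have h2 : ¬ p ∣ (K ⊔ core P).relIndex N0 := fun h =>
    not_dvd_relIndex_of_normal P N0 (h.trans (Subgroup.relIndex_dvd_of_le_left N0 le_sup_right))
  obtain ⟨j, -, hj⟩ := (Nat.dvd_prime_pow Fact.out).mp h1
  cases j with
  | zero =>
    rw [pow_zero] at hj
    exact le_antisymm hle (Subgroup.relIndex_eq_one.mp hj)
  | succ j => exact absurd (hj ▸ dvd_pow_self p j.succ_ne_zero) h2

theorem sup_normalizer : pPrimeCore p G ⊔ Subgroup.normalizer (core P : Set G) = ⊤ := by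
  set N0 := pPrimePCore p G
  have hN : N0.Normal := inferInstance
  have h4 : ¬ p ∣ (core P).relIndex N0 := not_dvd_relIndex_of_normal P N0
  obtain ⟨S, hS⟩ := exists_sylow_of_not_dvd_relIndex (isPGroup_inf P N0) h4 inf_le_right
  have h := Sylow.normalizer_sup_eq_top S
  rw [hS] at h
  rw [eq_top_iff, ← h]
  refine sup_le le_sup_right ?_
  show pPrimePCore p G ≤ _
  rw [← sup_core P]
  exact sup_le_sup_left Subgroup.le_normalizer _

theorem pPrimeCore_inf_normalizer_le_centralizer :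
    pPrimeCore p G ⊓ Subgroup.normalizer (core P : Set G) ≤ Subgroup.centralizer (core P : Set G) := by
  intro x hx0
  obtain ⟨hx, hxN⟩ := Subgroup.mem_inf.mp hx0
  rw [Subgroup.mem_centralizer_iff]
  intro h hh
  have hK : (pPrimeCore p G).Normal := inferInstance
  have h1 : x * h * x⁻¹ * h⁻¹ ∈ pPrimeCore p G ⊓ core P := by
    refine Subgroup.mem_inf.mpr ⟨?_, Subgroup.mul_mem _ ((Subgroup.mem_normalizer_iff.mp hxN h).mp hh) (Subgroup.inv_mem _ hh)⟩
    have : h * x⁻¹ * h⁻¹ ∈ pPrimeCore p G := hK.conj_mem _ (inv_mem hx) h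
    simpa [mul_assoc] using mul_mem hx this
  have h2 : core P ⊓ pPrimeCore p G = ⊥ := PLocal.Cores.inf_eq_bot_of_isPGroup_of_coprime
    (isPGroup_inf P _) PLocal.Cores.coprime_card_pPrimeCore
  rw [inf_comm, h2, Subgroup.mem_bot, mul_inv_eq_one, mul_inv_eq_iff_eq_mul] at h1
  exact h1.symm

/-- The factorization of an element of `O_{p'}(G)` conjugating a `p`-element of `N(H)` into `N(H)`. -/
theorem exists_factor {y : G} (hy : y ∈ Subgroup.normalizer (core P : Set G))
    (hyp : ∃ k : ℕ, orderOf y = p ^ k) {d : G} (hd : d ∈ pPrimeCore p G)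
    (hdy : d⁻¹ * y * d ∈ Subgroup.normalizer (core P : Set G)) :
    ∃ d₁ ∈ pPrimeCore p G ⊓ Subgroup.centralizer ({y} : Set G),
      ∃ d₂ ∈ pPrimeCore p G ⊓ Subgroup.centralizer (core P : Set G), d = d₁ * d₂ := by
  set y' := d⁻¹ * y * d with hy'
  set N := Subgroup.normalizer (core P : Set G) with hN
  set C := pPrimeCore p G ⊓ N with hC
  have hK : (pPrimeCore p G).Normal := inferInstance
  have hw : y⁻¹ * y' ∈ C := by
    refine Subgroup.mem_inf.mpr ⟨?_, Subgroup.mul_mem _ (Subgroup.inv_mem _ hy) hdy⟩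
    have := hK.conj_mem d⁻¹ (inv_mem hd) y⁻¹
    rw [hy']
    simpa [mul_assoc] using mul_mem this hd
  obtain ⟨k, hk⟩ := hyp
  have hk' : orderOf y' = p ^ k := by
    rw [← hk, hy']
    have := orderOf_injective (MulAut.conj d⁻¹).toMonoidHom (MulEquiv.injective _) y
    simpa using this
  have hnorm : ∀ z ∈ N, Subgroup.zpowers z ≤ Subgroup.normalizer (C : Set G) := by
    intro z hz
    rw [Subgroup.zpowers_le, Subgroup.mem_normalizer_iff]
    intro x
    simp only [hC, Subgroup.mem_inf]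
    constructor
    · rintro ⟨h1, h2⟩
      exact ⟨hK.conj_mem x h1 z, mul_mem (mul_mem hz h2) (inv_mem hz)⟩
    · rintro ⟨h1, h2⟩
      have a := hK.conj_mem _ h1 z⁻¹
      have b := mul_mem (mul_mem (inv_mem hz) h2) hz
      exact ⟨by simpa [mul_assoc] using a, by simpa [mul_assoc] using b⟩
  have hcop : ∀ z : G, orderOf z = p ^ k → (Nat.card C).Coprime (Nat.card (Subgroup.zpowers z)) := by
    intro z hz
    rw [Nat.card_zpowers, hz]
    exact Nat.Coprime.pow_right _
      (PLocal.Cores.coprime_card_pPrimeCore.coprime_dvd_left (Subgroup.card_dvd_of_le inf_le_left))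
  have heq : C ⊔ Subgroup.zpowers y = C ⊔ Subgroup.zpowers y' := by
    refine le_antisymm (sup_le le_sup_left ?_) (sup_le le_sup_left ?_) <;> rw [Subgroup.zpowers_le]
    · have := mul_mem (Subgroup.mem_sup_right (S := C) (Subgroup.mem_zpowers y'))
        (Subgroup.mem_sup_left (T := Subgroup.zpowers y') (inv_mem hw))
      simpa using this
    · have := mul_mem (Subgroup.mem_sup_right (S := C) (Subgroup.mem_zpowers y))
        (Subgroup.mem_sup_left (T := Subgroup.zpowers y) hw)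
      simpa using this
  have hsolv : Group.IsSolvable (Subgroup.zpowers y) :=
    Group.isSolvable_of_comm fun a b => IsMulCommutative.is_comm.comm a b
  obtain ⟨c, hc, hcy⟩ := Coprime.exists_conj_eq_of_sup_eq (hnorm y hy) (hnorm y' hdy) heq
    (hcop y hk) (hcop y' hk') (Or.inr hsolv)
  have hcy' : c * y * c⁻¹ = y' := by
    have hm : c * y * c⁻¹ ∈ Subgroup.zpowers y' := by
      rw [← hcy]; exact Coprime.conj_mem_conj_smul (Subgroup.mem_zpowers y)
    have h1 : y'⁻¹ * (c * y * c⁻¹) ∈ C := by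
      have a : y⁻¹ * c * y ∈ C := by
        have := (Subgroup.mem_normalizer_iff.mp (hnorm y hy (inv_mem (Subgroup.mem_zpowers y))) c).mp hc
        simpa using this
      have := mul_mem (mul_mem (inv_mem hw) a) (inv_mem hc)
      simpa [mul_assoc] using this
    have h2 : Subgroup.zpowers y' ⊓ C = ⊥ := disjoint_iff.mp (Subgroup.disjoint_of_coprime_natCard (hcop y' hk').symm)
    have h3 : y'⁻¹ * (c * y * c⁻¹) ∈ Subgroup.zpowers y' ⊓ C :=
      Subgroup.mem_inf.mpr ⟨mul_mem (inv_mem (Subgroup.mem_zpowers y')) hm, h1⟩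
    rw [h2, Subgroup.mem_bot, inv_mul_eq_one] at h3
    exact h3.symm
  refine ⟨d * c, Subgroup.mem_inf.mpr ⟨mul_mem hd (Subgroup.mem_inf.mp hc).1, ?_⟩, c⁻¹,
    Subgroup.mem_inf.mpr ⟨inv_mem (Subgroup.mem_inf.mp hc).1,
      inv_mem (pPrimeCore_inf_normalizer_le_centralizer P hc)⟩, by group⟩
  rw [Subgroup.mem_centralizer_singleton_iff]
  calc d * c * y = d * (c * y * c⁻¹) * c := by group
    _ = y * (d * c) := by rw [hcy', hy']; group

/-- `N(P ∩ O_{p',p}(G))` controls the fusion of elements of `P`. -/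
theorem exists_mem_normalizer_conj {x y : G} (hx : x ∈ (P : Subgroup G)) (hy : y ∈ (P : Subgroup G))
    (hxy : IsConj x y) : ∃ n ∈ Subgroup.normalizer (core P : Set G), n * x * n⁻¹ = y := by
  set N := Subgroup.normalizer (core P : Set G) with hN
  obtain ⟨g, rfl⟩ := isConj_iff.mp hxy
  have hgtop : g ∈ pPrimeCore p G ⊔ N := by rw [hN, sup_normalizer P]; exact Subgroup.mem_top g
  obtain ⟨d, hd, n, hn, rfl⟩ := Subgroup.mem_sup_of_normal_left.mp hgtop
  have hyN : d * n * x * (d * n)⁻¹ ∈ N := sylow_le_normalizer P hy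
  have hk : ∃ k : ℕ, orderOf (d * n * x * (d * n)⁻¹) = p ^ k := by
    obtain ⟨k, hk⟩ := IsPGroup.iff_orderOf.mp P.2 ⟨_, hy⟩
    exact ⟨k, by rwa [Subgroup.orderOf_mk] at hk⟩
  obtain ⟨d₁, hd₁, d₂, hd₂, e⟩ := exists_factor P hyN hk hd (by
    show d⁻¹ * (d * n * x * (d * n)⁻¹) * d ∈ N
    have := mul_mem (mul_mem hn (sylow_le_normalizer P hx)) (inv_mem hn)
    convert this using 1
    group)
  refine ⟨d₂ * n, mul_mem (Subgroup.le_normalizer_iff.mpr ?_ hd₂.2) hn, ?_⟩
  · intro a ha b hb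
    rw [Subgroup.mem_centralizer_iff.mp ha b hb |>.symm, mul_inv_cancel_right]
    exact hb
  · have h1 := Subgroup.mem_centralizer_singleton_iff.mp hd₁.2
    calc d₂ * n * x * (d₂ * n)⁻¹ = d₁⁻¹ * (d * n * x * (d * n)⁻¹) * d₁ := by rw [e]; group
      _ = _ := by rw [mul_assoc, ← h1, inv_mul_cancel_left]

end Cfsg.Agent.Techniques.PPrimeP
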