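import Mathlib
import Cfsg.Prelude.Def_CaseTheorems
import Cfsg.Agent.Lib.CharP.CharP
import Cfsg.Agent.Lib.Coprime.Generation

/-! A normal four-group of a Sylow 2-subgroup in a group of characteristic 2 type. -/

set_option autoImplicit false

namespace Cfsg.Agent.Techniques.FourNormal

open Subgroup

variable {G : Type*} [Group G]

theorem mem_four {U : Subgroup G} (hU : IsKleinFour ↥U) {a b x : G} (ha : a ∈ U) (hb : b ∈ U)
    (hx : x ∈ U) (ha1 : a ≠ 1) (hb1 : b ≠ 1) (hab : a ≠ b) :
    x = 1 ∨ x = a ∨ x = b ∨ x = a * b := by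
  by_cases h1 : x = 1
  · exact Or.inl h1
  by_cases h2 : x = a
  · exact Or.inr (Or.inl h2)
  by_cases h3 : x = b
  · exact Or.inr (Or.inr (Or.inl h3))
  refine Or.inr (Or.inr (Or.inr ?_))
  haveI := hU
  have := IsKleinFour.eq_mul_of_ne_all (G := ↥U) (x := ⟨a, ha⟩) (y := ⟨b, hb⟩) (z := ⟨x, hx⟩)
    (fun h => ha1 (congrArg Subtype.val h)) (fun h => hb1 (congrArg Subtype.val h))
    (fun h => hab (congrArg Subtype.val h)) (fun h => h1 (congrArg Subtype.val h))
    (fun h => h2 (congrArg Subtype.val h)) (fun h => h3 (congrArg Subtype.val h))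
  exact congrArg Subtype.val this

theorem mul_self_four {U : Subgroup G} (hU : IsKleinFour ↥U) {x : G} (hx : x ∈ U) : x * x = 1 := by
  haveI := hU
  exact congrArg Subtype.val (IsKleinFour.mul_self (⟨x, hx⟩ : ↥U))

theorem comm_four {U : Subgroup G} (hU : IsKleinFour ↥U) {a b : G} (ha : a ∈ U) (hb : b ∈ U) :
    a * b = b * a := by
  have h := mul_self_four hU (mul_mem ha hb)
  have h1 := inv_eq_of_mul_eq_one_right (mul_self_four hU ha)
  have h2 := inv_eq_of_mul_eq_one_right (mul_self_four hU hb)
  have h3 := inv_eq_of_mul_eq_one_right h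
  rwa [mul_inv_rev, h1, h2, eq_comm] at h3

/-- An element fixing `u` moves each element of the four-group `U` inside its coset of `⟨u⟩`. -/
theorem conj_four {U : Subgroup G} (hU : IsKleinFour ↥U) {u t v : G} (hu : u ∈ U) (hu1 : u ≠ 1)
    (hv : v ∈ U) (htU : t * v * t⁻¹ ∈ U) (htu : t * u * t⁻¹ = u) :
    t * v * t⁻¹ = v ∨ t * v * t⁻¹ = v * u := by
  by_cases hv1 : v = 1
  · subst hv1; simp
  by_cases hvu : v = u
  · subst hvu; exact Or.inl htu
  rcases mem_four hU hv hu htU hv1 hu1 hvu with h | h | h | h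
  · exact absurd (by simpa using h) hv1
  · exact Or.inl h
  · rw [← htu] at h; exact absurd (by simpa using h) hvu
  · exact Or.inr h

theorem involution_unique {Z : Subgroup G} [Finite Z] (hZ : IsCyclic ↥Z) {x y : G} (hx : x ∈ Z)
    (hy : y ∈ Z) (hx2 : x * x = 1) (hx1 : x ≠ 1) (hy2 : y * y = 1) : y = 1 ∨ y = x := by
  classical
  haveI := hZ
  haveI := Fintype.ofFinite ↥Z
  have h := IsCyclic.card_pow_eq_one_le (α := ↥Z) (n := 2) (by norm_num)
  by_contra hne
  push Not at hne
  have : ({1, ⟨x, hx⟩, ⟨y, hy⟩} : Finset ↥Z) ⊆ Finset.univ.filter (fun a => a ^ 2 = 1) := by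
    intro a ha
    simp only [Finset.mem_insert, Finset.mem_singleton] at ha
    rcases ha with rfl | rfl | rfl <;> simp [pow_two, hx2, hy2]
  have h3 : ({1, ⟨x, hx⟩, ⟨y, hy⟩} : Finset ↥Z).card = 3 := by
    rw [Finset.card_insert_of_notMem, Finset.card_pair]
    · intro e; exact hne.2 (congrArg Subtype.val e).symm
    · simp only [Finset.mem_insert, Finset.mem_singleton]
      rintro (e | e)
      · exact hx1 (congrArg Subtype.val e).symm
      · exact hne.1 (congrArg Subtype.val e).symm
  have := Finset.card_le_card this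
  omega

variable [Finite G]

/-- A 2-subgroup `T` of `C(u)` containing `O_2(C(u))` and moving `U` only by `⟨u⟩`. -/
theorem pCoreOf_moves (P : Sylow 2 G) {U : Subgroup G} (hUP : U ≤ (P : Subgroup G))
    (hUn : (P : Subgroup G) ≤ normalizer (U : Set G)) (hU : IsKleinFour ↥U)
    (hUZ : ¬ IsCyclic ↥((P : Subgroup G) ⊓ centralizer ((P : Subgroup G) : Set G)) →
      U ≤ centralizer ((P : Subgroup G) : Set G))
    {u : G} (hu : u ∈ U) (hu1 : u ≠ 1) {r : G}
    (hr : r ∈ Cfsg.pCoreOf 2 (centralizer ({u} : Set G))) {v : G} (hv : v ∈ U) :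
    r * v * r⁻¹ = v ∨ r * v * r⁻¹ = v * u := by
  haveI : Fact (Nat.Prime 2) := ⟨Nat.prime_two⟩
  set C := centralizer ({u} : Set G) with hC
  set R := Cfsg.pCoreOf 2 C with hR
  have hRC : R ≤ C := CharP.pCoreOf_le 2 C
  have hRp : IsPGroup 2 ↥R := CharP.isPGroup_pCoreOf 2 C
  have hCR : C ≤ normalizer (R : Set G) := CharP.le_normalizer_pCoreOf 2 C
  have hru : r * u * r⁻¹ = u := by
    rw [mem_centralizer_singleton_iff.mp (hRC hr), mul_inv_cancel_right]
  refine conj_four hU hu hu1 hv ?_ hru
  have hUn' : ∀ p ∈ (P : Subgroup G), ∀ a ∈ U, p * a * p⁻¹ ∈ U := fun p hp a ha =>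
    (mem_normalizer_iff.mp (hUn hp) a).mp ha
  have hnorm : ∀ g : G, (∀ a ∈ U, g * a * g⁻¹ ∈ U) → g * v * g⁻¹ ∈ U := fun g h => h v hv
  set T := R ⊔ ((P : Subgroup G) ⊓ C) with hT
  have hrT : r ∈ T := mem_sup_left hr
  have hTC : T ≤ C := sup_le hRC inf_le_right
  have hTp : IsPGroup 2 ↥T :=
    (hRp.to_sup_of_normal_left' (P.2.to_le inf_le_left) (inf_le_right.trans hCR))
  by_cases hPC : (P : Subgroup G) ≤ C
  · have hPT : (P : Subgroup G) ≤ T := (le_inf le_rfl hPC).trans le_sup_right
    exact hUn' r (P.3 hTp hPT ▸ hrT) v hv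
  · have hcyc : IsCyclic ↥((P : Subgroup G) ⊓ centralizer ((P : Subgroup G) : Set G)) := by
      by_contra h
      refine hPC fun p hp => mem_centralizer_singleton_iff.mpr ?_
      exact hUZ h hu p hp
    obtain ⟨z, hzU, hz2, hzC⟩ := CharP.exists_order_prime_central P.2 hUP hUn
      (fun h => hu1 (by rw [h] at hu; exact mem_bot.mp hu))
    have hz1 : z ≠ 1 := fun h => by rw [h, orderOf_one] at hz2; omega
    have hzz := mul_self_four hU hzU
    have huu := mul_self_four hU hu
    have hfix : ∀ e ∈ (P : Subgroup G), e * e = 1 → (∀ p ∈ (P : Subgroup G), p * e = e * p) →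
        e = 1 ∨ e = z := fun e he he2 hec =>
      involution_unique hcyc (x := z) ⟨hUP hzU, hzC⟩ ⟨he, fun p hp => hec p hp⟩ hzz hz1 he2
    have huz : u ≠ z := by
      rintro rfl
      exact hPC fun p hp => mem_centralizer_singleton_iff.mpr (hzC p hp)
    have hzc : ∀ p ∈ (P : Subgroup G), p * z * p⁻¹ = z := fun p hp => by
      rw [hzC p hp, mul_inv_cancel_right]
    have hmove : ∀ p ∈ (P : Subgroup G), p ∉ C → p * u * p⁻¹ = u * z := fun p hp hpC =>
      (conj_four hU hzU hz1 hu (hUn' p hp u hu) (hzc p hp)).resolve_left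
        fun h => hpC (mem_centralizer_singleton_iff.mpr (mul_inv_eq_iff_eq_mul.mp h))
    have hfixu : ∀ p : G, p ∈ C → p * u * p⁻¹ = u := fun p hp => by
      rw [mem_centralizer_singleton_iff.mp hp, mul_inv_cancel_right]
    set Q := (P : Subgroup G) ⊓ C with hQ
    have hQU : U ≤ centralizer (Q : Set G) := by
      intro a ha p hp
      rcases mem_four hU hu hzU ha hu1 hz1 huz with rfl | rfl | rfl | rfl
      · simp
      · exact mem_centralizer_singleton_iff.mp hp.2
      · exact hzC p hp.1
      · calc p * (u * z) = (p * u) * z := (mul_assoc _ _ _).symm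
          _ = u * (p * z) := by rw [mem_centralizer_singleton_iff.mp hp.2, mul_assoc]
          _ = u * z * p := by rw [hzC p hp.1, mul_assoc]
    have hpair : ∀ p ∈ (P : Subgroup G), ∀ q ∈ (P : Subgroup G), p ∉ C → q ∉ C → p * q ∈ C := by
      intro p hp q hq hpC hqC
      refine mem_centralizer_singleton_iff.mpr (mul_inv_eq_iff_eq_mul.mp ?_)
      calc p * q * u * (p * q)⁻¹ = p * (q * u * q⁻¹) * p⁻¹ := by group
        _ = (p * u * p⁻¹) * (p * z * p⁻¹) := by rw [hmove q hq hqC]; group
        _ = u := by rw [hmove p hp hpC, hzc p hp, mul_assoc, hzz, mul_one]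
    obtain ⟨p, hp, hpC⟩ := SetLike.not_le_iff_exists.mp hPC
    have hidx : Q.relIndex (P : Subgroup G) = 2 := by
      rw [relIndex, index_eq_two_iff]
      refine ⟨⟨p, hp⟩, fun b => ?_⟩
      simp only [Xor', mem_subgroupOf, hQ, mem_inf, SetLike.coe_mem, true_and, coe_mul]
      by_cases hb : (b : G) ∈ C
      · exact Or.inr ⟨hb, fun h => hpC ((C.mul_mem_cancel_left hb).mp h.2)⟩
      · exact Or.inl ⟨⟨mul_mem b.2 hp, hpair _ b.2 p hp hb hpC⟩, hb⟩
    have hQN : ∀ g ∈ (P : Subgroup G), ∀ a ∈ Q, g * a * g⁻¹ ∈ Q := by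
      intro g hg a ha
      have h := (normal_of_index_eq_two (H := Q.subgroupOf (P : Subgroup G)) hidx).conj_mem
        ⟨a, ha.1⟩ (mem_subgroupOf.mpr ha) ⟨g, hg⟩
      exact mem_subgroupOf.mp h
    have hTN : ∀ g ∈ T, ∀ a ∈ Q, g * a * g⁻¹ ∈ Q := by
      intro g hg a ha
      have hQT : Q ≤ T := le_sup_right
      have hcard : Nat.card (Q.subgroupOf T) * Q.relIndex T = Nat.card T :=
        card_mul_index _
      have hcard' : Nat.card (Q.subgroupOf (P : Subgroup G)) * 2 = Nat.card (P : Subgroup G) :=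
        (congrArg (Nat.card (Q.subgroupOf (P : Subgroup G)) * ·) hidx).symm.trans
          (card_mul_index (Q.subgroupOf (P : Subgroup G)))
      rw [Nat.card_congr (subgroupOfEquivOfLe hQT).toEquiv] at hcard
      rw [Nat.card_congr (subgroupOfEquivOfLe (inf_le_left : Q ≤ (P : Subgroup G))).toEquiv] at hcard'
      obtain ⟨P', hP'⟩ := hTp.exists_le_sylow
      have hd : Nat.card T ∣ Nat.card (P : Subgroup G) := by
        rw [Nat.card_congr (Sylow.equiv P P').toEquiv]
        exact card_dvd_of_le hP'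
      rw [← hcard, ← hcard'] at hd
      have hd2 : Q.relIndex T ∣ 2 := Nat.dvd_of_mul_dvd_mul_left Nat.card_pos hd
      rcases (Nat.dvd_prime Nat.prime_two).mp hd2 with h1 | h1
      · have hTQ : T ≤ Q := relIndex_eq_one.mp h1
        exact hQN g (hTQ hg).1 a ha
      · have h := (normal_of_index_eq_two (H := Q.subgroupOf T) h1).conj_mem
          ⟨a, hQT ha⟩ (mem_subgroupOf.mpr ha) ⟨g, hg⟩
        exact mem_subgroupOf.mp h
    set e := r * v * r⁻¹ with he
    have hvQ : v ∈ Q := by
      refine ⟨hUP hv, mem_centralizer_singleton_iff.mpr (comm_four hU hv hu)⟩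
    have heQ : e ∈ Q := hTN r hrT v hvQ
    clear_value e
    have hee : e * e = 1 := by
      have : e * e = r * (v * v) * r⁻¹ := by rw [he]; group
      rw [this, mul_self_four hU hv, mul_one, mul_inv_cancel]
    have hec : ∀ q ∈ Q, q * e = e * q := by
      intro q hq
      have hq' : r⁻¹ * q * r ∈ Q := by simpa using hTN r⁻¹ (inv_mem hrT) q hq
      have h := hQU hv _ hq'
      calc q * e = r * ((r⁻¹ * q * r) * v) * r⁻¹ := by rw [he]; group
        _ = r * (v * (r⁻¹ * q * r)) * r⁻¹ := by rw [h]
        _ = e * q := by rw [he]; group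
    have hpp : p * p ∈ Q := ⟨mul_mem hp hp, hpair p hp p hp hpC hpC⟩
    set f := p * e * p⁻¹ with hf
    have hfQ : f ∈ Q := hQN p hp e heQ
    clear_value f
    have hgen : ∀ x : G, x ∈ Q → p * x = x * p → ∀ y ∈ (P : Subgroup G),
        (∀ q ∈ Q, q * x = x * q) → y * x = x * y := by
      intro x hx hpx y hy hqx
      by_cases hyC : y ∈ C
      · exact hqx y ⟨hy, hyC⟩
      · have hyp : y * p ∈ Q := ⟨mul_mem hy hp, hpair y hy p hp hyC hpC⟩
        have h := hqx _ hyp
        have : y * p * x = y * x * p := by rw [mul_assoc, hpx, mul_assoc]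
        rw [h, ← mul_assoc] at this
        exact (mul_right_cancel this).symm
    have hfix' : ∀ x ∈ Q, x * x = 1 → p * x = x * p → (∀ q ∈ Q, q * x = x * q) → x ∈ U := by
      intro x hx hx2 hpx hqx
      rcases hfix x hx.1 hx2 (fun y hy => hgen x hx hpx y hy hqx) with rfl | rfl
      · exact one_mem U
      · exact hzU
    have hfc : ∀ q ∈ Q, q * f = f * q := by
      intro q hq
      have hq' : p⁻¹ * q * p ∈ Q := by simpa using hQN p⁻¹ (inv_mem hp) q hq
      calc q * f = p * ((p⁻¹ * q * p) * e) * p⁻¹ := by rw [hf]; group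
        _ = p * (e * (p⁻¹ * q * p)) * p⁻¹ := by rw [hec _ hq']
        _ = f * q := by rw [hf]; group
    have hff : p * f = e * p := by
      have h := hec _ hpp
      calc p * f = (p * p * e) * p⁻¹ := by rw [hf]; group
        _ = e * p := by rw [h]; group
    have hef : e * f = f * e := hfc e heQ
    have hd : e * f ∈ U := by
      refine hfix' _ (mul_mem heQ hfQ) ?_ ?_ fun q hq => ?_
      · have hf2 : f * f = 1 := by
          calc f * f = p * (e * e) * p⁻¹ := by rw [hf]; group
            _ = 1 := by rw [hee, mul_one, mul_inv_cancel]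
        calc e * f * (e * f) = e * (f * e) * f := by group
          _ = (e * e) * (f * f) := by rw [← hef]; group
          _ = 1 := by rw [hee, hf2, one_mul]
      · calc p * (e * f) = (p * e * p⁻¹) * (p * f) := by group
          _ = f * e * p := by rw [hff, hf, ← mul_assoc]
          _ = e * f * p := by rw [hef]
      · rw [← mul_assoc, hec q hq, mul_assoc, hfc q hq, mul_assoc]
    by_cases hcase : f = e
    · refine hfix' e heQ hee ?_ hec
      calc p * e = f * p := by rw [hf]; group
        _ = e * p := by rw [hcase]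
    · have hne : e * f ≠ 1 := fun h => hcase (by
        calc f = (e * e) * f := by rw [hee, one_mul]
          _ = e := by rw [mul_assoc, h, mul_one])
      have hefz : e * f = z := by
        rcases hfix (e * f) (mul_mem heQ hfQ).1 (mul_self_four hU hd) (fun y hy => by
          have hpz : p * (e * f) = e * f * p := by
            calc p * (e * f) = (p * e * p⁻¹) * (p * f) := by group
              _ = f * e * p := by rw [hff, hf, ← mul_assoc]
              _ = e * f * p := by rw [hef]
          exact hgen _ (mul_mem heQ hfQ) hpz y hy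
            fun q hq => by rw [← mul_assoc, hec q hq, mul_assoc, hfc q hq, mul_assoc]) with h | h
        · exact absurd h hne
        · exact h
      have hfe : f = e * z := by rw [← hefz, ← mul_assoc, hee, one_mul]
      have heu : e * u ∈ U := by
        have hce : e * u = u * e :=
          hec u ⟨hUP hu, mem_centralizer_singleton_iff.mpr rfl⟩ |>.symm
        refine hfix' _ (mul_mem heQ ⟨hUP hu, mem_centralizer_singleton_iff.mpr rfl⟩) ?_ ?_ ?_
        · calc e * u * (e * u) = e * (u * e) * u := by group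
            _ = (e * e) * (u * u) := by rw [← hce]; group
            _ = 1 := by rw [hee, huu, one_mul]
        · have hzu : z * u = u * z := comm_four hU hzU hu
          calc p * (e * u) = (p * e * p⁻¹) * (p * u * p⁻¹) * p := by group
            _ = e * z * (u * z) * p := by rw [← hf, hfe, hmove p hp hpC]
            _ = e * u * p := by
              rw [← hzu, ← mul_assoc, mul_assoc e z z, hzz, mul_one]
        · intro q hq
          rw [← mul_assoc, hec q hq, mul_assoc, mem_centralizer_singleton_iff.mp hq.2, mul_assoc]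
      simpa [mul_assoc, huu] using mul_mem heu hu

theorem centralizes_odd (h2 : Cfsg.IsCharacteristicTwoType G) (P : Sylow 2 G) {U : Subgroup G}
    (hUP : U ≤ (P : Subgroup G)) (hUn : (P : Subgroup G) ≤ normalizer (U : Set G))
    (hU : IsKleinFour ↥U)
    (hUZ : ¬ IsCyclic ↥((P : Subgroup G) ⊓ centralizer ((P : Subgroup G) : Set G)) →
      U ≤ centralizer ((P : Subgroup G) : Set G))
    {K : Subgroup G} (hK : Odd (Nat.card K)) (hUK : U ≤ normalizer (K : Set G)) :
    U ≤ centralizer (K : Set G) := by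
  haveI : Fact (Nat.Prime 2) := ⟨Nat.prime_two⟩
  haveI : IsMulCommutative ↥U := ⟨⟨fun a b => Subtype.ext (comm_four hU a.2 b.2)⟩⟩
  have hnc : ¬ IsCyclic ↥U := by haveI := hU; exact IsKleinFour.not_isCyclic
  have hcop : (Nat.card U).Coprime (Nat.card K) := by
    haveI := hU
    rw [IsKleinFour.card_four (G := ↥U)]
    exact (Nat.Coprime.pow_left 2 (Nat.coprime_two_left.mpr hK) : (2 ^ 2).Coprime (Nat.card K))
  rw [le_centralizer_iff, ← Coprime.fixedGen_eq hnc hUK hcop]
  refine iSup₂_le fun u hu w hw v hv => ?_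
  obtain ⟨hu, hu1⟩ := hu
  obtain ⟨hwK, hwC⟩ := hw
  have hwu : w * u = u * w := mem_centralizer_singleton_iff.mp hwC
  have huu := mul_self_four hU hu
  have hord : orderOf u = 2 := orderOf_eq_prime (by rw [pow_two, huu]) hu1
  have hCP : CharP.IsCharP 2 (centralizer ({u} : Set G)) :=
    CharP.centralizer_singleton_isCharP_of_normalizer
      ((CharP.isCharP_iff _).mpr (h2.2 (zpowers u)
        (IsPGroup.of_card (n := 1) (by rw [Nat.card_zpowers, hord, pow_one]))
        (by rw [ne_eq, zpowers_eq_bot]; exact hu1)))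
  set R := Cfsg.pCoreOf 2 (centralizer ({u} : Set G)) with hR
  have hvv := inv_eq_of_mul_eq_one_right (mul_self_four hU hv)
  set c := v * w * v * w⁻¹ with hc
  have hvC : v ∈ centralizer ({u} : Set G) :=
    mem_centralizer_singleton_iff.mpr (comm_four hU hv hu)
  have hcK : c ∈ K := by
    have : v * w * v⁻¹ ∈ K := (mem_normalizer_iff.mp (hUK hv) w).mp hwK
    rw [hvv] at this
    exact mul_mem this (inv_mem hwK)
  have hcC : c ∈ centralizer ({u} : Set G) :=
    mul_mem (mul_mem (mul_mem hvC hwC) hvC) (inv_mem hwC)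
  -- both `v` and its conjugate by `w` act on `R` modulo `⟨u⟩`
  have hact : ∀ r ∈ R, v * r * v = r ∨ v * r * v = r * u := by
    intro r hr
    have hru : r * u = u * r := mem_centralizer_singleton_iff.mp (CharP.pCoreOf_le 2 _ hr)
    rcases pCoreOf_moves P hUP hUn hU hUZ hu hu1 hr hv with h | h
    · left
      rw [mul_inv_eq_iff_eq_mul] at h
      rw [mul_assoc, h, ← mul_assoc, mul_self_four hU hv, one_mul]
    · right
      rw [mul_inv_eq_iff_eq_mul] at h
      calc v * r * v = v * (r * v) := mul_assoc _ _ _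
        _ = (v * v) * (u * r) := by rw [h]; group
        _ = r * u := by rw [mul_self_four hU hv, one_mul, hru]
  have hactw : ∀ r ∈ R, c * r * c⁻¹ = r ∨ c * r * c⁻¹ = r * u := by
    intro r hr
    have hwR := CharP.le_normalizer_pCoreOf 2 (centralizer ({u} : Set G)) hwC
    have hr' : w⁻¹ * r * w ∈ R := by
      have := (mem_normalizer_iff.mp (inv_mem hwR) r).mp hr
      simpa using this
    have huw : w * u * w⁻¹ = u := by rw [hwu, mul_inv_cancel_right]
    have key : c * r * c⁻¹ = v * (w * (v * (w⁻¹ * r * w) * v) * w⁻¹) * v := by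
      rw [hc]; simp only [mul_inv_rev, inv_inv, hvv, mul_assoc]
    rw [key]
    have hu' : v * u * v = u := by
      rw [mem_centralizer_singleton_iff.mp hvC, mul_assoc, mul_self_four hU hv, mul_one]
    rcases hact _ hr' with h | h
    · rw [h]
      have : w * (w⁻¹ * r * w) * w⁻¹ = r := by group
      rw [this]
      exact hact r hr
    · rw [h]
      have : w * (w⁻¹ * r * w * u) * w⁻¹ = r * u := by
        calc w * (w⁻¹ * r * w * u) * w⁻¹ = r * (w * u * w⁻¹) := by group
          _ = r * u := by rw [huw]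
      rw [this]
      rcases hact r hr with h' | h'
      · right
        calc v * (r * u) * v = (v * r * v) * (v * u * v) := by
              simp only [mul_assoc]; rw [← mul_assoc v v, mul_self_four hU hv, one_mul]
          _ = r * u := by rw [h', hu']
      · left
        calc v * (r * u) * v = (v * r * v) * (v * u * v) := by
              simp only [mul_assoc]; rw [← mul_assoc v v, mul_self_four hU hv, one_mul]
          _ = r := by rw [h', hu', mul_assoc, huu, mul_one]
  have hcu : c * u * c⁻¹ = u := by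
    rw [mem_centralizer_singleton_iff.mp hcC, mul_inv_cancel_right]
  have hc2 : c * c ∈ centralizer ({u} : Set G) ⊓ centralizer (R : Set G) := by
    refine ⟨mul_mem hcC hcC, fun r hr => Eq.symm ?_⟩
    rw [← mul_inv_eq_iff_eq_mul]
    calc c * c * r * (c * c)⁻¹ = c * (c * r * c⁻¹) * c⁻¹ := by group
      _ = r := by
        rcases hactw r hr with h | h
        · rw [h, h]
        · rw [h]
          calc c * (r * u) * c⁻¹ = (c * r * c⁻¹) * (c * u * c⁻¹) := by group
            _ = r := by rw [h, hcu, mul_assoc, huu, mul_one]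
  have hodd : Odd (orderOf c) := hK.of_dvd_nat (by simpa using orderOf_dvd_natCard (⟨c, hcK⟩ : ↥K))
  have hone : c = 1 := by
    have h1 : c * c = 1 := CharP.eq_one_of_mem_pgroup (CharP.isPGroup_pCoreOf 2 _) (hCP hc2)
      ((Nat.coprime_two_right.mpr hodd).coprime_dvd_left
        (by rw [← pow_two]; exact orderOf_pow_dvd 2))
    have h2' : orderOf c ∣ 2 := orderOf_dvd_of_pow_eq_one (by rw [pow_two, h1])
    exact orderOf_eq_one_iff.mp (Nat.eq_one_of_dvd_coprimes (Nat.coprime_two_right.mpr hodd)
      dvd_rfl h2')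
  rw [hc, mul_inv_eq_one] at hone
  calc v * w = v * w * (v * v) := by rw [mul_self_four hU hv, mul_one]
    _ = w * v := by rw [← mul_assoc, hone]

end Cfsg.Agent.Techniques.FourNormal
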