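import Cfsg.Agent.Techniques.Alperin.Radical
import Cfsg.Agent.Techniques.Functor.FusionMain
import Cfsg.Agent.Lib.PLocal.ZJ
import Cfsg.Agent.Lib.CharP.CharP
import Cfsg.Agent.Lib.CharP.PReduced

/-!
Consequences of a triple factorization of the constrained sections.
-/

set_option autoImplicit false

namespace Cfsg.Agent.Techniques.TripleFactor

open Subgroup Cfsg.Agent.CharP
open Cfsg.Agent.Techniques.Functor
open Cfsg.Agent.Techniques.Alperin.Radical (kOf)

universe u

/-- `Ω₁(Z(T))`. -/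
abbrev oz (p : ℕ) {H : Type*} [Group H] (T : Subgroup H) : Subgroup H :=
  Cfsg.omegaOne p (T ⊓ centralizer (T : Set H))

variable {p : ℕ} [hp : Fact p.Prime]

/-- An element normalizing `V` modulo a normal `p'`-subgroup `R` lies in `R N(V)`. -/
theorem exists_mul_mem_normalizer {X : Type*} [Group X] [Finite X] {R V : Subgroup X} [R.Normal]
    (hR : (Nat.card R).Coprime p) (hV : IsPGroup p V) {x : X}
    (hx : ∀ v ∈ V, x * v * x⁻¹ ∈ V ⊔ R) : ∃ r ∈ R, r * x ∈ normalizer (V : Set X) := by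
  have hdis : R.subgroupOf V = ⊥ := by
    rw [eq_bot_iff]
    intro v hv
    rw [mem_bot, Subtype.ext_iff]
    exact eq_one_of_mem_pgroup hV v.2
      (hR.coprime_dvd_left (by
        have := orderOf_dvd_natCard (⟨(v : X), hv⟩ : R)
        rwa [← Subgroup.orderOf_coe] at this))
  have hrel : R.relIndex (V ⊔ R) = Nat.card V := by
    rw [relIndex_sup_right, relIndex, hdis, index_bot]
  have h1 := relIndex_mul_relIndex (⊥ : Subgroup X) V (V ⊔ R) bot_le le_sup_left
  have h2 := relIndex_mul_relIndex (⊥ : Subgroup X) R (V ⊔ R) bot_le le_sup_right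
  simp only [relIndex_bot_left] at h1 h2
  rw [hrel] at h2
  have hndvd : ¬ p ∣ V.relIndex (V ⊔ R) := by
    intro hd
    have : V.relIndex (V ⊔ R) = Nat.card R := by
      have := Nat.card_pos (α := V)
      apply Nat.eq_of_mul_eq_mul_left this
      rw [h1, ← h2, mul_comm]
    rw [this] at hd
    exact hp.out.not_dvd_one (Nat.Coprime.gcd_eq_one hR ▸ Nat.dvd_gcd hd dvd_rfl)
  obtain ⟨y, hy, hyV⟩ := Techniques.exists_conj_le_of_not_dvd_relIndex (le_sup_left : V ≤ V ⊔ R) hV
    hndvd (hV.map (MulAut.conj x).toMonoidHom)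
    (by rintro _ ⟨v, hv, rfl⟩; exact hx v hv)
  rw [← SetLike.mem_coe, coe_mul_of_left_le_normalizer_right V R
    (fun a _ => by rw [normalizer_eq_top]; trivial)] at hy
  obtain ⟨w, hw, r, hr, rfl⟩ := Set.mem_mul.mp hy
  refine ⟨r, hr, mem_normalizer_of_conj_map ?_⟩
  refine eq_of_le_of_card_ge ?_ (card_map_of_injective (MulAut.conj (r * x)).injective).ge
  rintro _ ⟨v, hv, rfl⟩
  have h := hyV _ (mem_map_of_mem _ hv)
  simp only [MulEquiv.coe_toMonoidHom, MulAut.conj_apply] at h ⊢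
  have hw' := mul_mem (mul_mem (V.inv_mem hw) h) hw
  have e : w⁻¹ * (w * r * (x * v * x⁻¹) * (w * r)⁻¹) * w = r * x * v * (r * x)⁻¹ := by group
  rwa [e] at hw'

/-- Lifting a factorization of a constrained quotient. -/
theorem factor_lift {H : Type u} [Group H] [Finite H] {W : ∀ (Q : Type u) [Group Q], Subgroup Q}
    (hW : Cfsg.IsCharPFunctor.{u} p W) (T : Sylow p H) (D : Subgroup H) [D.Normal]
    (hDT : D ≤ (T : Subgroup H)) (hc : (T : Subgroup H) ⊓ centralizer (D : Set H) ≤ D)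
    (R : Subgroup H) [R.Normal] (hR : R = Cfsg.pPrimeCore p H)
    (Z : Subgroup H) (hZD : Z ≤ D) (hZ : Z ≤ oz p (T : Subgroup H))
    (hfac : centralizer (Cfsg.pCore p (H ⧸ R) : Set (H ⧸ R)) ≤ Cfsg.pCore p (H ⧸ R) →
      ∀ T' : Sylow p (H ⧸ R), ∀ x : H ⧸ R,
        ∃ a ∈ centralizer (oz p (T' : Subgroup (H ⧸ R)) : Set (H ⧸ R)),
        ∃ b ∈ normalizer (Cfsg.inducedFunctor W (T' : Subgroup (H ⧸ R)) : Set (H ⧸ R)), x = a * b)
    (x : H) : ∃ a ∈ centralizer (Z : Set H),
      ∃ b ∈ normalizer (Cfsg.inducedFunctor W (T : Subgroup H) : Set H), x = a * b := by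
  have hDp : IsPGroup p D := T.2.to_le hDT
  have hRcop : (Nat.card R).Coprime p := hR ▸ PLocal.Cores.coprime_card_pPrimeCore
  have hRD : R ≤ centralizer (D : Set H) :=
    hR ▸ Alperin.Radical.pPrimeCore_le_centralizer hDp
  have hCD : centralizer (D : Set H) ≤ D ⊔ R := hR ▸ Alperin.Radical.centralizer_le_sup T hc
  set f := QuotientGroup.mk' R with hf
  have hinj : ∀ t ∈ (T : Subgroup H), f t = 1 → t = 1 := fun t ht h1 =>
    eq_one_of_mem_pgroup T.2 ht (hRcop.coprime_dvd_left (by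
      simpa using orderOf_dvd_natCard (⟨t, (QuotientGroup.eq_one_iff t).mp h1⟩ : R)))
  have hDn : (D.map f).Normal := Normal.map inferInstance f (QuotientGroup.mk'_surjective R)
  have hlift : ∀ c : H, ∀ d ∈ D, f (c * d) = f (d * c) → c * d = d * c := by
    intro c d hd e
    have h1 : c * d * c⁻¹ * d⁻¹ = 1 := by
      refine hinj _ (hDT (mul_mem (Normal.conj_mem inferInstance d hd c) (D.inv_mem hd))) ?_
      rw [map_mul, map_mul, map_inv, map_inv, map_mul]
      rw [map_mul, map_mul] at e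
      rw [e]
      group
    rw [mul_inv_eq_one, mul_inv_eq_iff_eq_mul] at h1
    exact h1
  have hcons : centralizer (Cfsg.pCore p (H ⧸ R) : Set (H ⧸ R)) ≤ Cfsg.pCore p (H ⧸ R) := by
    have hDQ : D.map f ≤ Cfsg.pCore p (H ⧸ R) := le_pCore hDn (hDp.map f)
    intro q hq
    obtain ⟨c, rfl⟩ := QuotientGroup.mk'_surjective R q
    have hcC : c ∈ centralizer (D : Set H) := fun d hd => by
      refine (hlift c d hd ?_).symm
      rw [map_mul, map_mul]
      exact (hq _ (hDQ (mem_map_of_mem f hd))).symm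
    refine hDQ ?_
    have := mem_map_of_mem f (hCD hcC)
    rwa [Subgroup.map_sup, hf, QuotientGroup.map_mk'_self, sup_bot_eq] at this
  obtain ⟨a', ha', b', hb', hab⟩ :=
    hfac hcons (T.mapSurjective (QuotientGroup.mk'_surjective R)) (f x)
  rw [Sylow.coe_mapSurjective] at ha' hb'
  have hTT : IsPGroup p (T : Subgroup H) := T.2
  rw [← induced_map hW f hTT hinj] at hb'
  obtain ⟨b, rfl⟩ := QuotientGroup.mk'_surjective R b'
  set V := Cfsg.inducedFunctor W (T : Subgroup H) with hV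
  have hVp : IsPGroup p V := hTT.to_le (map_subtype_le _)
  obtain ⟨r, hr, hrb⟩ := exists_mul_mem_normalizer hRcop hVp (R := R) (x := b) fun v hv => by
    have h := (mem_normalizer_iff.mp hb' (f v)).mp (mem_map_of_mem f hv)
    obtain ⟨w, hw, hwe⟩ := h
    rw [← map_inv, ← map_mul, ← map_mul] at hwe
    have hmem : w⁻¹ * (b * v * b⁻¹) ∈ R := by
      rw [← QuotientGroup.eq_one_iff]
      change f (w⁻¹ * (b * v * b⁻¹)) = 1
      rw [map_mul, map_inv, ← hwe, inv_mul_cancel]
    have := mul_mem_sup (S := V) (T := R) hw hmem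
    rwa [mul_inv_cancel_left] at this
  refine ⟨x * (r * b)⁻¹, fun z hz => ?_, r * b, hrb, (inv_mul_cancel_right _ _).symm⟩
  have hfz : f z ∈ oz p ((T : Subgroup H).map f) := by
    have hmap : (oz p (T : Subgroup H)).map f ≤ oz p ((T : Subgroup H).map f) := by
      rw [oz, Cfsg.omegaOne, MonoidHom.map_closure]
      refine closure_mono ?_
      rintro _ ⟨y, ⟨⟨hyT, hyC⟩, hyp⟩, rfl⟩
      refine ⟨⟨mem_map_of_mem f hyT, ?_⟩, by rw [← map_pow, hyp, map_one]⟩
      rintro _ ⟨t, ht, rfl⟩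
      rw [← map_mul, ← map_mul, hyC t ht]
    exact hmap (mem_map_of_mem f (hZ hz))
  have hrC : r * z = z * r := (hRD hr z (hZD hz)).symm
  have hfc : f (x * (r * b)⁻¹) = a' := by
    rw [map_mul, map_inv, hab, map_mul,
      show f r = 1 from (QuotientGroup.eq_one_iff r).mpr hr, one_mul, mul_inv_cancel_right]
  refine (hlift _ z (hZD hz) ?_).symm
  rw [map_mul, map_mul f z, hfc]
  exact (ha' _ hfz).symm

/-- A product of two subgroups containing `S` controls strong fusion in `S`. -/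
theorem reach_of_factor {H : Type*} [Group H] [Finite H] (S : Sylow p H) {N₁ N₂ : Subgroup H}
    (h1 : (S : Subgroup H) ≤ N₁) (h2 : (S : Subgroup H) ≤ N₂) {M : Set H}
    (hM1 : (N₁ : Set H) ⊆ M) (hM2 : (N₂ : Set H) ⊆ M) {A : Set H} {g b₁ b₂ : H}
    (hb1 : b₁ ∈ N₁) (hb2 : b₂ ∈ N₂) (hg : g = b₁ * b₂) (hA : A ⊆ (S : Subgroup H))
    (hgA : cimg g A ⊆ (S : Subgroup H)) : Reach M (S : Subgroup H) A g := by
  have hsyl := sylIn_of_le S (le_inf h1 h2)
  have hXS : closure A ≤ (S : Subgroup H) := (closure_le _).mpr hA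
  have hgX : ∀ a ∈ closure A, g * a * g⁻¹ ∈ (S : Subgroup H) := by
    intro a ha
    have : (closure A).map (MulAut.conj g).toMonoidHom ≤ (S : Subgroup H) := by
      rw [MonoidHom.map_closure, closure_le]
      rintro _ ⟨y, hy, rfl⟩
      exact hgA ⟨y, hy, rfl⟩
    exact this (mem_map_of_mem _ ha)
  have hX : (closure A).map (MulAut.conj b₂).toMonoidHom ≤ N₁ ⊓ N₂ := by
    rintro _ ⟨a, ha, rfl⟩
    refine ⟨?_, mul_mem (mul_mem hb2 (h2 (hXS ha))) (N₂.inv_mem hb2)⟩
    have := mul_mem (mul_mem (N₁.inv_mem hb1) (h1 (hgX a ha))) hb1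
    have e : b₁⁻¹ * (g * a * g⁻¹) * b₁ = b₂ * a * b₂⁻¹ := by rw [hg]; group
    rw [e] at this
    exact this
  obtain ⟨k, hk, hkX⟩ := Techniques.exists_conj_le_of_not_dvd_relIndex hsyl.1 hsyl.2.1 hsyl.2.2
    ((S.2.to_le hXS).map _) hX
  have hkA : cimg (k * b₂) A ⊆ (S : Subgroup H) := by
    rintro _ ⟨a, ha, rfl⟩
    have := hkX _ (mem_map_of_mem (MulAut.conj b₂).toMonoidHom (Subgroup.subset_closure ha))
    have e : (k * b₂) * a * (k * b₂)⁻¹ = k * (b₂ * a * b₂⁻¹) * k⁻¹ := by group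
    change (k * b₂) * a * (k * b₂)⁻¹ ∈ (S : Subgroup H)
    rw [e]
    simpa using this
  have r2 : Reach M (S : Subgroup H) A (k * b₂) :=
    Reach.single (hM2 (mul_mem hk.2 hb2)) hkA
  have r1 : Reach M (S : Subgroup H) (cimg (k * b₂) A) (b₁ * k⁻¹) := by
    refine Reach.single (hM1 (mul_mem hb1 (N₁.inv_mem hk.1))) ?_
    rw [cimg_cimg, show b₁ * k⁻¹ * (k * b₂) = g by rw [hg]; group]
    exact hgA
  have := r2.trans r1
  rwa [show b₁ * k⁻¹ * (k * b₂) = g by rw [hg]; group] at this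

variable {G : Type u} [Group G] [Finite G]

/-- A subgroup `V` normal in `S` and containing `Z`: `N(V)` lies in `C(Z) N(W(S))`. -/
theorem normalizer_le_mul (S : Sylow p G) {W : ∀ (Q : Type u) [Group Q], Subgroup Q}
    (hW : Cfsg.IsCharPFunctor.{u} p W) {V Z : Subgroup G} (hVS : V ≤ (S : Subgroup G))
    (hSV : (S : Subgroup G) ≤ normalizer (V : Set G)) (hZV : Z ≤ V) (hZ : Z ≤ oz p (S : Subgroup G))
    (hfac : ∀ (K R : Subgroup G) [(R.subgroupOf K).Normal],
      centralizer (Cfsg.pCore p (↥K ⧸ R.subgroupOf K) : Set (↥K ⧸ R.subgroupOf K)) ≤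
          Cfsg.pCore p (↥K ⧸ R.subgroupOf K) →
        ∀ T : Sylow p (↥K ⧸ R.subgroupOf K), ∀ x : ↥K ⧸ R.subgroupOf K,
          ∃ a ∈ centralizer (oz p (T : Subgroup (↥K ⧸ R.subgroupOf K)) :
            Set (↥K ⧸ R.subgroupOf K)),
          ∃ b ∈ normalizer (Cfsg.inducedFunctor W (T : Subgroup (↥K ⧸ R.subgroupOf K)) :
            Set (↥K ⧸ R.subgroupOf K)), x = a * b)
    {n : G} (hn : n ∈ normalizer (V : Set G)) :
    ∃ a ∈ centralizer (Z : Set G),
      ∃ b ∈ normalizer (Cfsg.inducedFunctor W (S : Subgroup G) : Set G), n = a * b := by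
  set C := centralizer (V : Set G) with hC
  set D := V ⊔ ((S : Subgroup G) ⊓ C) with hD
  have hDS : D ≤ (S : Subgroup G) := sup_le hVS inf_le_left
  set N := normalizer (V : Set G) with hN
  have hCN : C ≤ N := centralizer_le_normalizer _
  have hCn : (C.subgroupOf N).Normal :=
    (normal_subgroupOf_iff_le_normalizer hCN).mpr (normalizer_le_normalizer_centralizer _)
  obtain ⟨m, hm, l, hl, hml⟩ :=
    PLocal.ZJ.frattini_inf (S.subtype hSV) (C.subgroupOf N) ⟨n, hn⟩
  have hmD : (m : G) ∈ normalizer (D : Set G) := by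
    have hmC : (m : G) ∈ normalizer (((S : Subgroup G) ⊓ C : Subgroup G) : Set G) := by
      rw [mem_normalizer_iff]
      intro y
      have hy : ∀ y : G, y ∈ (S : Subgroup G) ⊓ C → ∀ k : ↥N,
          k ∈ normalizer ((((S.subtype hSV) : Subgroup ↥N) ⊓ C.subgroupOf N : Subgroup ↥N) : Set ↥N) →
          (k : G) * y * (k : G)⁻¹ ∈ (S : Subgroup G) ⊓ C := by
        intro y hy k hk
        have := (mem_normalizer_iff.mp hk ⟨y, hCN hy.2⟩).mp ⟨mem_subgroupOf.mpr hy.1, hy.2⟩
        exact this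
      refine ⟨fun h => hy y h m hm, fun h => ?_⟩
      have := hy _ h m⁻¹ (inv_mem hm)
      simpa [mul_assoc] using this
    refine mem_normalizer_of_conj_map ?_
    rw [hD, Subgroup.map_sup, conj_map_of_mem m.2, conj_map_of_mem hmC]
  have hSD : (S : Subgroup G) ≤ normalizer (D : Set G) := by
    intro s hs
    have hsC : s ∈ normalizer (((S : Subgroup G) ⊓ C : Subgroup G) : Set G) := by
      refine mem_normalizer_of_conj_map ?_
      rw [Subgroup.map_inf _ _ _ (MulAut.conj s).injective, conj_map_of_mem (le_normalizer hs),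
        conj_map_of_mem (normalizer_le_normalizer_centralizer _ (hSV hs))]
    refine mem_normalizer_of_conj_map ?_
    rw [hD, Subgroup.map_sup, conj_map_of_mem (hSV hs), conj_map_of_mem hsC]
  set K := normalizer (D : Set G) with hK
  let T : Sylow p K := S.subtype hSD
  have hT : (T : Subgroup K).map K.subtype = (S : Subgroup G) := map_subgroupOf_eq_of_le hSD
  have hDn : (D.subgroupOf K).Normal := normal_in_normalizer
  have hce : ((T : Subgroup K)) ⊓ centralizer (D.subgroupOf K : Set K) ≤ D.subgroupOf K := by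
    intro y hy
    refine mem_subgroupOf.mpr (mem_sup_right ⟨mem_subgroupOf.mp hy.1, fun v hv => ?_⟩)
    exact congrArg Subtype.val (hy.2 ⟨v, le_normalizer (mem_sup_left hv)⟩
      (mem_subgroupOf.mpr (mem_sup_left hv)))
  set R := kOf p K with hR
  have hRK : R.subgroupOf K = Cfsg.pPrimeCore p K :=
    comap_map_eq_self_of_injective K.subtype_injective _
  have hRn : (R.subgroupOf K).Normal := by rw [hRK]; infer_instance
  have hZK : Z.subgroupOf K ≤ oz p (T : Subgroup K) := by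
    rw [← map_le_map_iff_of_injective (f := K.subtype) K.subtype_injective,
      map_subgroupOf_eq_of_le (hZV.trans (hVS.trans hSD))]
    refine hZ.trans ?_
    rw [oz, Cfsg.omegaOne, oz, Cfsg.omegaOne, MonoidHom.map_closure]
    refine closure_mono ?_
    rintro y ⟨⟨hyS, hyC⟩, hyp⟩
    refine ⟨⟨y, hSD hyS⟩, ⟨⟨mem_subgroupOf.mpr hyS, fun t ht => Subtype.ext ?_⟩,
      Subtype.ext hyp⟩, rfl⟩
    exact hyC t (mem_subgroupOf.mp ht)
  obtain ⟨a, ha, b, hb, hab⟩ := factor_lift hW T (D.subgroupOf K) (comap_mono hDS) hce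
    (R.subgroupOf K) hRK (Z.subgroupOf K) (comap_mono (hZV.trans le_sup_left)) hZK
    (hfac K R) ⟨(m : G), hmD⟩
  have haC : (a : G) ∈ centralizer (Z : Set G) := fun z hz =>
    congrArg Subtype.val (ha ⟨z, hSD (hVS (hZV hz))⟩ (mem_subgroupOf.mpr hz))
  have hbN : (b : G) ∈ normalizer (Cfsg.inducedFunctor W (S : Subgroup G) : Set G) := by
    rw [← hT, ← induced_map_of_injective hW K.subtype_injective T.2]
    exact le_normalizer_map K.subtype (mem_map_of_mem K.subtype hb)
  -- move the central factor to the left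
  have hnm : n = (m : G) * (l : G) := (congrArg Subtype.val hml).symm
  have hmV : (m : G) ∈ normalizer (V : Set G) := m.2
  have hlC : (m : G) * l * (m : G)⁻¹ ∈ centralizer (Z : Set G) := by
    refine centralizer_le hZV ?_
    exact (mem_normalizer_iff.mp (normalizer_le_normalizer_centralizer _ hmV) _).mp hl
  refine ⟨(m : G) * l * (m : G)⁻¹ * a, mul_mem hlC haC, b, hbN, ?_⟩
  have hmab : (m : G) = a * b := congrArg Subtype.val hab
  rw [hnm, mul_assoc _ (a : G) (b : G), ← hmab, inv_mul_cancel_right]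

end Cfsg.Agent.Techniques.TripleFactor
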