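import Cfsg.Agent.Techniques.Alperin.Radical
import Cfsg.Agent.Lib.CharP.CharP
import Cfsg.Prelude.Def_ConjugacyFunctors

/-!
Passing from the local subgroups to the whole group for a pair of functors `W`, `V`
with `Z(H) ≤ W(H)` and `V` central.
-/

set_option autoImplicit false

namespace Cfsg.Agent.Techniques.TwoFunctor

open Subgroup Cfsg.Agent.CharP
open Cfsg.Agent.Techniques.Alperin.Basic
open Cfsg.Agent.Techniques.Alperin.Chain
open Cfsg.Agent.Techniques.Alperin.Radical

variable {G : Type*} [Group G] [Finite G] {p : ℕ} [hp : Fact p.Prime] {P : Sylow p G}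

/-- `Z(H)` inside `G`. -/
abbrev zc (H : Subgroup G) : Subgroup G := H ⊓ centralizer ((H : Subgroup G) : Set G)

/-- `N_P(H)`. -/
abbrev np (P : Sylow p G) (H : Subgroup G) : Subgroup G :=
  (P : Subgroup G) ⊓ normalizer (H : Set G)

/-- The subgroups `H` for which the local hypothesis is used. -/
structure Pre (P : Sylow p G) (H : Subgroup G) : Prop where
  fn : FullyNormalized p (P : Subgroup G) H
  zle : zc (P : Subgroup G) ≤ H
  big : ∀ x : G, cv x (np P H) ≤ (P : Subgroup G) → zc (P : Subgroup G) ≤ cv x (np P H)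

omit [Finite G] in
theorem zc_le_zc {H Q : Subgroup G} (hQP : Q ≤ (P : Subgroup G))
    (h : zc (P : Subgroup G) ≤ H) (hHQ : H ≤ Q) : zc (P : Subgroup G) ≤ zc Q :=
  le_inf (h.trans hHQ) (inf_le_right.trans (centralizer_le hQP))

omit [Finite G] hp in
theorem zc_conj_mem {g z : G} {Q : Subgroup G} (hz : z ∈ zc (cv g Q)) : g * z * g⁻¹ ∈ zc Q := by
  refine ⟨mem_cv.mp hz.1, fun q hq => ?_⟩
  have h := hz.2 _ (conj_mem_cv (g := g) hq)
  calc q * (g * z * g⁻¹) = g * ((g⁻¹ * q * g) * z) * g⁻¹ := by group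
    _ = g * (z * (g⁻¹ * q * g)) * g⁻¹ := by rw [h]
    _ = g * z * g⁻¹ * q := by group

theorem pre_of_isCR {D : Subgroup G} (hD : IsCR p (P : Subgroup G) D) : Pre P D := by
  have hDP := hD.fn.le
  have hz : zc (P : Subgroup G) ≤ D :=
    (le_inf inf_le_left (inf_le_right.trans (centralizer_le hDP))).trans hD.centric
  refine ⟨hD.fn, hz, fun x hx z hz' => ?_⟩
  have hDx : cv x D ≤ (P : Subgroup G) := (cv_mono x (le_inf hDP le_normalizer)).trans hx
  refine cv_mono x (le_inf hDP le_normalizer) (mem_cv.mpr ?_)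
  set y := x * z * x⁻¹ with hy
  have hyC : y ∈ centralizer (D : Set G) := fun d hd => by
    have h := hz'.2 _ (hDx (conj_mem_cv (g := x) hd))
    calc d * y = x * ((x⁻¹ * d * x) * z) * x⁻¹ := by rw [hy]; group
      _ = x * (z * (x⁻¹ * d * x)) * x⁻¹ := by rw [h]
      _ = y * d := by rw [hy]; group
  have hYp : IsPGroup p ↥(zpowers y) := by
    have hle : zpowers y ≤ (P : Subgroup G).map (MulAut.conj x).toMonoidHom :=
      zpowers_le.2 ⟨z, hz'.1, rfl⟩
    exact (P.2.map _).to_le hle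
  obtain ⟨S, hS, hyS⟩ := exists_isSylIn_ge (H := normalizer (D : Set G)) hYp
    (zpowers_le.2 (centralizer_le_normalizer _ hyC))
  obtain ⟨n, hn, hne⟩ := hS.exists_conj hD.fn.syl
  have h1 : n * y * n⁻¹ ∈ (P : Subgroup G) ⊓ normalizer (D : Set G) :=
    hne ▸ Cfsg.Agent.Transfer.Fusion.conj_mem_map_conj (hyS (mem_zpowers y)) n
  have hnC : n * y * n⁻¹ ∈ centralizer (D : Set G) := fun d hd => by
    have h := hyC (n⁻¹ * d * n) (by simpa using (mem_normalizer_iff.mp (inv_mem hn) d).mp hd)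
    calc d * (n * y * n⁻¹) = n * ((n⁻¹ * d * n) * y) * n⁻¹ := by group
      _ = n * (y * (n⁻¹ * d * n)) * n⁻¹ := by rw [h]
      _ = n * y * n⁻¹ * d := by group
  exact (mem_normalizer_iff.mp hn y).mpr (hD.centric ⟨h1.1, hnC⟩)

variable {W : Subgroup G → Subgroup G}

omit [Finite G] hp in
theorem map_cv (hW : Cfsg.IsConjugacyFunctor p W) {Q : Subgroup G} (hQ : IsPGroup p ↥Q) (g : G) :
    W (cv g Q) = cv g (W Q) :=
  (hW Q hQ).2.2 g⁻¹

omit [Finite G] hp in
theorem normalizer_le_normalizer (hW : Cfsg.IsConjugacyFunctor p W) {Q : Subgroup G}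
    (hQ : IsPGroup p ↥Q) : normalizer (Q : Set G) ≤ normalizer (W Q : Set G) := fun g hg =>
  cv_eq_self_iff.mp (by rw [← map_cv hW hQ, cv_of_mem hg])

/-- Replacing `W(N_P(H))` by a fully normalized conjugate enlarges the normalizer in `P`. -/
theorem descend (hW : Cfsg.IsConjugacyFunctor p W)
    (hWZ : ∀ H : Subgroup G, IsPGroup p ↥H → zc H ≤ W H) {H : Subgroup G} (hH : Pre P H)
    (hne : np P H ≠ P) :
    ∃ g : G, Nat.card (np P H) < Nat.card (np P (W (np P H))) ∧
      cv g (np P (W (np P H))) ≤ (P : Subgroup G) ∧ np P H ≤ np P (W (np P H)) ∧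
      Pre P (cv g (W (np P H))) ∧
      cv g (np P (W (np P H))) ≤ np P (cv g (W (np P H))) := by
  set Q := np P H with hQ
  have hQP : Q ≤ (P : Subgroup G) := inf_le_left
  have hQp : IsPGroup p ↥Q := P.2.to_le hQP
  have hlt : Q < np P Q := Cfsg.Agent.Transfer.Frobenius.lt_inf_normalizer P.2
    (lt_of_le_of_ne hQP hne)
  have hle : np P Q ≤ np P (W Q) := inf_le_inf_left _ (normalizer_le_normalizer hW hQp)
  have hQR : Q < np P (W Q) := lt_of_lt_of_le hlt hle
  obtain ⟨g, hgP, hgF⟩ := exists_fullyNormalized (P := P) ((hW Q hQp).1.trans hQP)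
  have hRg : cv g (np P (W Q)) ≤ np P (cv g (W Q)) :=
    le_inf hgP ((cv_mono g inf_le_right).trans (cv_normalizer g _).le)
  have hQg : cv g Q ≤ (P : Subgroup G) := (cv_mono g hQR.le).trans hgP
  refine ⟨g, lt_of_le_of_ne (card_le_of_le hQR.le) fun e => hQR.ne (eq_of_le_of_card_ge hQR.le e.ge),
    hgP, hQR.le, ⟨hgF, ?_, ?_⟩, hRg⟩
  · intro z hz
    have hzQ : z ∈ zc (cv g Q) := ⟨hH.big g hQg hz, centralizer_le hQg hz.2⟩
    exact mem_cv.mpr (hWZ Q hQp (zc_conj_mem hzQ))
  · intro x hx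
    have h1 : cv x (cv g Q) ≤ cv x (np P (cv g (W Q))) :=
      cv_mono x ((cv_mono g hQR.le).trans hRg)
    rw [cv_cv] at h1
    exact (hH.big (g * x) (h1.trans hx)).trans h1

theorem ne_bot_of_zle {Q : Subgroup G} (hP : (P : Subgroup G) ≠ ⊥)
    (h : zc (P : Subgroup G) ≤ Q) : Q ≠ ⊥ := by
  obtain ⟨z, hzP, hzo, hzC⟩ := exists_order_prime_central P.2 le_rfl le_normalizer hP
  rintro rfl
  have := mem_bot.mp (h ⟨hzP, hzC⟩)
  rw [this, orderOf_one] at hzo
  exact hp.out.ne_one hzo.symm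

theorem centralizer_V_le {V : Subgroup G → Subgroup G}
    (hVmono : ∀ H K : Subgroup G, IsPGroup p ↥H → IsPGroup p ↥K → H ≠ ⊥ → K ≠ ⊥ →
      zc H ≤ zc K → V H ≤ V K) (hP : (P : Subgroup G) ≠ ⊥) {H : Subgroup G} (hH : Pre P H) :
    centralizer (V (np P H) : Set G) ≤ centralizer (V (P : Subgroup G) : Set G) :=
  centralizer_le (hVmono _ _ P.2 (P.2.to_le inf_le_left) hP
    (ne_bot_of_zle hP (hH.zle.trans (le_inf hH.fn.le le_normalizer)))
    (zc_le_zc inf_le_left hH.zle (le_inf hH.fn.le le_normalizer)))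

/-! ### Transfer -/

omit [Finite G] hp in
theorem commutator_conj_mem {K : Subgroup G} {x y : G} (hx : x ∈ K) (hy : y ∈ K) :
    x * (y⁻¹ * x * y)⁻¹ ∈ ⁅K, K⁆ := by
  have := commutator_mem_commutator hx (inv_mem hy)
  rw [commutatorElement_def, inv_inv] at this
  simpa [mul_assoc] using this

theorem transfer_global (hW : Cfsg.IsConjugacyFunctor p W) {V : Subgroup G → Subgroup G}
    (hV : Cfsg.IsConjugacyFunctor p V) (hWZ : ∀ H : Subgroup G, IsPGroup p ↥H → zc H ≤ W H)
    (hVmono : ∀ H K : Subgroup G, IsPGroup p ↥H → IsPGroup p ↥K → H ≠ ⊥ → K ≠ ⊥ →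
      zc H ≤ zc K → V H ≤ V K) (hP : (P : Subgroup G) ≠ ⊥)
    (hloc : ∀ H : Subgroup G, zc (P : Subgroup G) ≤ H → H ≤ (P : Subgroup G) →
      ∃ Q : Subgroup G, IsSylIn p Q (normalizer (H : Set G)) ∧
        ∀ x ∈ Q ⊓ ⁅normalizer (H : Set G), normalizer (H : Set G)⁆,
          ∃ a ∈ ⁅normalizer (H : Set G) ⊓ normalizer (W Q : Set G),
              normalizer (H : Set G) ⊓ normalizer (W Q : Set G)⁆,
          ∃ b ∈ ⁅normalizer (H : Set G) ⊓ centralizer (V Q : Set G),
              normalizer (H : Set G) ⊓ centralizer (V Q : Set G)⁆,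
            a ∈ Q ∧ b ∈ Q ∧ x = a * b)
    (M : Subgroup G)
    (hMW : (P : Subgroup G) ⊓ ⁅normalizer (W (P : Subgroup G) : Set G),
      normalizer (W (P : Subgroup G) : Set G)⁆ ≤ M)
    (hMV : (P : Subgroup G) ⊓ ⁅centralizer (V (P : Subgroup G) : Set G),
      centralizer (V (P : Subgroup G) : Set G)⁆ ≤ M) :
    (P : Subgroup G) ⊓ commutator G ≤ M := by
  -- fusion of a subgroup of order above `m`, from the local statement above `m`
  have key : ∀ m : ℕ, (∀ H, Pre P H → m < Nat.card (np P H) →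
      np P H ⊓ ⁅normalizer (H : Set G), normalizer (H : Set G)⁆ ≤ M) →
      ∀ (A : Set G) (a : G), A ⊆ (P : Subgroup G) → cs a A ⊆ (P : Subgroup G) →
        (∀ D : Subgroup G, A ⊆ (D : Set G) → m < Nat.card D) →
        ∀ x ∈ A, x * (a⁻¹ * x * a)⁻¹ ∈ M := by
    intro m hm A a hA hAa hbig x hx
    obtain ⟨c, hc, g, rfl, hch⟩ := goldschmidt_chain P A a hA hAa
    have hxc : c⁻¹ * x * c = x := by
      rw [mul_assoc, mem_centralizer_iff.1 hc x hx, inv_mul_cancel_left]
    have e : (c * g)⁻¹ * x * (c * g) = g⁻¹ * (c⁻¹ * x * c) * g := by group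
    rw [e, hxc]
    clear hc hAa e hxc
    induction hch generalizing x with
    | one _ => simp
    | @step A D u g hD hu hOk hAD hch ih =>
      have hpre := pre_of_isCR hOk
      have hxD : x ∈ D := hAD hx
      have hx' : u⁻¹ * x * u ∈ D := by
        simpa using (mem_normalizer_iff.mp (inv_mem hu) x).mp hxD
      have h1 : x * (u⁻¹ * x * u)⁻¹ ∈ M := by
        refine hm D hpre (lt_of_lt_of_le (hbig D hAD) (card_le_of_le (le_inf hD le_normalizer))) ?_
        exact ⟨⟨hD (mul_mem hxD (inv_mem hx')), le_normalizer (mul_mem hxD (inv_mem hx'))⟩,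
          commutator_conj_mem (le_normalizer hxD) hu⟩
      have hsub : cs u A ⊆ (D : Set G) := cs_subset_of_mem hu hAD
      have hbig' : ∀ E : Subgroup G, cs u A ⊆ (E : Set G) → m < Nat.card E := by
        intro E hE
        have : A ⊆ (cv u⁻¹ E : Set G) := fun y hy =>
          mem_cv.mpr (by simpa using hE ⟨y, hy, rfl⟩)
        rw [← card_cv u⁻¹ E]
        exact hbig _ this
      have h2 := ih (hsub.trans hD) hbig' (u⁻¹ * x * u) ⟨x, hx, rfl⟩
      have := mul_mem h1 h2
      convert this using 1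
      group
  have psi : ∀ (n : ℕ) (H : Subgroup G), Pre P H →
      Nat.card (P : Subgroup G) - Nat.card (np P H) = n →
      np P H ⊓ ⁅normalizer (H : Set G), normalizer (H : Set G)⁆ ≤ M := by
    intro n
    induction n using Nat.strong_induction_on with
    | _ n ih =>
      intro H hH hn x hx
      obtain ⟨Q, hQ, hdec⟩ := hloc H hH.zle hH.fn.le
      obtain ⟨k, hk, hke⟩ := hQ.exists_conj hH.fn.syl
      have hkQ : cv k⁻¹ Q = np P H := by rw [cv, inv_inv]; exact hke
      have hN : ∀ y, y ∈ ⁅normalizer (H : Set G), normalizer (H : Set G)⁆ →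
          k⁻¹ * y * k ∈ ⁅normalizer (H : Set G), normalizer (H : Set G)⁆ := fun y hy => by
        have := conj_mem_cv (g := k) hy
        rwa [cv, map_commutator, ← cv, cv_normalizer, cv_of_mem hk] at this
      have hx1 : k⁻¹ * x * k ∈ Q ⊓ ⁅normalizer (H : Set G), normalizer (H : Set G)⁆ := by
        refine ⟨?_, hN x hx.2⟩
        have : x ∈ np P H := hx.1
        rw [← hkQ, mem_cv, inv_inv] at this
        exact this
      obtain ⟨a, ha, b, hb, haQ, hbQ, hab⟩ := hdec _ hx1
      have hcv : ∀ (S : Subgroup G) y, y ∈ S → k * y * k⁻¹ ∈ cv k⁻¹ S := fun S y hy => by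
        rw [mem_cv]; simpa [mul_assoc] using hy
      have hcomm : ∀ (S : Subgroup G), cv k⁻¹ ⁅S, S⁆ = ⁅cv k⁻¹ S, cv k⁻¹ S⁆ := fun S =>
        map_commutator _ _ _
      have hQp : IsPGroup p ↥Q := hQ.isPGroup
      have ha' : k * a * k⁻¹ ∈ np P H ⊓
          ⁅normalizer (H : Set G) ⊓ normalizer (W (np P H) : Set G),
            normalizer (H : Set G) ⊓ normalizer (W (np P H) : Set G)⁆ := by
        refine ⟨hkQ ▸ hcv _ _ haQ, ?_⟩
        have := hcv _ _ ha
        rw [hcomm, cv, map_inf _ _ _ (MulAut.conj k⁻¹⁻¹).injective] at this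
        change k * a * k⁻¹ ∈ ⁅cv k⁻¹ (normalizer (H : Set G)) ⊓ cv k⁻¹ (normalizer (W Q : Set G)),
          cv k⁻¹ (normalizer (H : Set G)) ⊓ cv k⁻¹ (normalizer (W Q : Set G))⁆ at this
        rwa [cv_normalizer, cv_normalizer, cv_of_mem (inv_mem hk), ← map_cv hW hQp, hkQ] at this
      have hb' : k * b * k⁻¹ ∈ np P H ⊓
          ⁅centralizer (V (np P H) : Set G), centralizer (V (np P H) : Set G)⁆ := by
        refine ⟨hkQ ▸ hcv _ _ hbQ, ?_⟩
        have := hcv _ _ hb
        rw [hcomm] at this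
        refine commutator_mono ?_ ?_ this <;>
        · intro y hy q hq
          rw [← hkQ, map_cv hV hQp] at hq
          have hq' := mem_cv.mp hq
          have h := (mem_cv.mp hy).2 _ hq'
          calc q * y = k⁻¹⁻¹ * ((k⁻¹ * q * k⁻¹⁻¹) * (k⁻¹ * y * k⁻¹⁻¹)) * k⁻¹ := by group
            _ = k⁻¹⁻¹ * ((k⁻¹ * y * k⁻¹⁻¹) * (k⁻¹ * q * k⁻¹⁻¹)) * k⁻¹ := by rw [h]
            _ = y * q := by group
      have hxe : x = (k * a * k⁻¹) * (k * b * k⁻¹) := by
        have := congrArg (fun t => k * t * k⁻¹) hab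
        simpa [mul_assoc] using this
      rw [hxe]
      refine mul_mem ?_ (hMV ⟨hb'.1.1, commutator_mono (centralizer_V_le hVmono hP hH)
        (centralizer_V_le hVmono hP hH) hb'.2⟩)
      by_cases hQ0 : np P H = (P : Subgroup G)
      · rw [hQ0] at ha'
        exact hMW ⟨ha'.1, commutator_mono inf_le_right inf_le_right ha'.2⟩
      · obtain ⟨g, hlt, hgP, hQR, hpre, hgR⟩ := descend hW hWZ hH hQ0
        set y := k * a * k⁻¹ with hy
        have hlt' : Nat.card (np P H) < Nat.card (np P (cv g (W (np P H)))) :=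
          lt_of_lt_of_le (hlt.trans_eq (card_cv g _).symm) (card_le_of_le hgR)
        have hm : ∀ H', Pre P H' → Nat.card (np P H) < Nat.card (np P H') →
            np P H' ⊓ ⁅normalizer (H' : Set G), normalizer (H' : Set G)⁆ ≤ M := by
          intro H' hH' hc
          refine ih _ ?_ H' hH' rfl
          have : Nat.card (np P H') ≤ Nat.card (P : Subgroup G) := card_le_of_le inf_le_left
          omega
        have h1 : y * (g⁻¹ * y * g)⁻¹ ∈ M := by
          refine key _ hm (np P (W (np P H)) : Set G) g inf_le_left ?_ ?_ y (hQR ha'.1)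
          · rw [← coe_cv]; exact hgP
          · intro D hD
            exact hlt.trans_le (card_le_of_le hD)
        have h2 : g⁻¹ * y * g ∈ M := by
          refine hm _ hpre hlt' ⟨hgR (conj_mem_cv (hQR ha'.1)), ?_⟩
          have := conj_mem_cv (g := g) (commutator_mono inf_le_right inf_le_right ha'.2)
          rwa [cv, map_commutator, ← cv, cv_normalizer] at this
        simpa only [inv_mul_cancel_right] using mul_mem h1 h2
  intro x hx
  refine Cfsg.Agent.Transfer.Fusion.focal_le_of_fusion P (fun y hy g hgy => ⟨g, rfl, ?_⟩)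
    ⟨hx.2, hx.1⟩
  have := key 0 (fun H hH _ => psi _ H hH rfl) {y} g⁻¹ (by simpa using hy)
    (by simpa [cs] using hgy) (fun D _ => Nat.card_pos) y rfl
  simpa [commutatorElement_def, mul_assoc] using this

end Cfsg.Agent.Techniques.TwoFunctor
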