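import Cfsg.Agent.Techniques.TwoFunctor

/-!
Local-to-global passage for strong fusion controlled by a pair of functors.
-/

set_option autoImplicit false

namespace Cfsg.Agent.Techniques.TwoFunctor

open Subgroup Cfsg.Agent.CharP
open Cfsg.Agent.Techniques.Alperin.Basic
open Cfsg.Agent.Techniques.Alperin.Chain
open Cfsg.Agent.Techniques.Alperin.Radical

variable {G : Type*} [Group G]

/-- `A` is carried along the factors of `g`, which lie in `S`, without leaving `T`. -/
inductive Path (T : Set G) (S : G → Prop) : Set G → G → Prop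
  | one {A : Set G} : A ⊆ T → Path T S A 1
  | step {A : Set G} {b g : G} : S b → A ⊆ T → Path T S (cs b A) g → Path T S A (b * g)

/-- `a` agrees on `A` with the composite of a path. -/
def Good (T : Set G) (S : G → Prop) (A : Set G) (a : G) : Prop :=
  ∃ c ∈ centralizer A, ∃ g, a = c * g ∧ Path T S A g

variable {T : Set G} {S : G → Prop} {A B : Set G} {a b g h : G}

theorem Path.trans (hg : Path T S A g) (hh : Path T S (cs g A) h) : Path T S A (g * h) := by
  induction hg with
  | one _ => rw [cs_one] at hh; rwa [one_mul]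
  | @step A x g hx hA _ ih =>
    rw [mul_assoc]
    exact .step hx hA (ih (by rwa [cs_cs]))

theorem Path.mono (hg : Path T S A g) (hB : B ⊆ A) : Path T S B g := by
  induction hg generalizing B with
  | one h => exact .one (hB.trans h)
  | step hx hA _ ih => exact .step hx (hB.trans hA) (ih (cs_mono _ hB))

theorem Path.toList (hg : Path T S A g) : ∃ l : List G, (∀ b ∈ l, S b) ∧ g = l.prod ∧
    ∀ k, cs (l.take k).prod A ⊆ T := by
  induction hg with
  | @one A h => exact ⟨[], by simp, rfl, fun k => by simpa [cs_one] using h⟩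
  | @step A b g hb hA _ ih =>
    obtain ⟨l, hl, rfl, hk⟩ := ih
    refine ⟨b :: l, ?_, rfl, fun k => ?_⟩
    · rintro x hx
      rcases List.mem_cons.1 hx with rfl | hx
      · exact hb
      · exact hl x hx
    · cases k with
      | zero => simpa [cs_one] using hA
      | succ k => rw [List.take_succ_cons, List.prod_cons, ← cs_cs]; exact hk k

theorem Good.one (hA : A ⊆ T) : Good T S A 1 :=
  ⟨1, one_mem _, 1, (one_mul _).symm, .one hA⟩

theorem Good.single (hb : S b) (hA : A ⊆ T) (hAb : cs b A ⊆ T) : Good T S A b :=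
  ⟨1, one_mem _, b * 1, by simp, .step hb hA (.one hAb)⟩

theorem Good.mono (h : Good T S A a) (hB : B ⊆ A) : Good T S B a := by
  obtain ⟨c, hc, g, hg, hp⟩ := h
  exact ⟨c, centralizer_le hB hc, g, hg, hp.mono hB⟩

theorem Good.centralize_left {c : G} (hc : c ∈ centralizer A) (h : Good T S A a) :
    Good T S A (c * a) := by
  obtain ⟨d, hd, g, rfl, hp⟩ := h
  exact ⟨c * d, mul_mem hc hd, g, (mul_assoc _ _ _).symm, hp⟩

theorem Good.trans (ha : Good T S A a) (hb : Good T S (cs a A) b) : Good T S A (a * b) := by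
  obtain ⟨c, hc, g, rfl, hp⟩ := ha
  obtain ⟨d, hd, h, rfl, hq⟩ := hb
  rw [← cs_cs, cs_of_mem_centralizer hc] at hd hq
  refine ⟨c * (g * d * g⁻¹), mul_mem hc fun x hx => ?_, g * h, by group, hp.trans hq⟩
  have e := hd _ ⟨x, hx, rfl⟩
  calc x * (g * d * g⁻¹) = g * ((g⁻¹ * x * g) * d) * g⁻¹ := by group
    _ = g * (d * (g⁻¹ * x * g)) * g⁻¹ := by rw [e]
    _ = g * d * g⁻¹ * x := by group

theorem Good.of_list {U : Set G} (hUT : U ⊆ T) (l : List G) (A : Set G)
    (hl : ∀ b ∈ l, ∀ Y : Set G, Y ⊆ U → cs b Y ⊆ U → Good T S Y b)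
    (hk : ∀ k, k ≤ l.length → cs (l.take k).prod A ⊆ U) : Good T S A l.prod := by
  induction l generalizing A with
  | nil => exact .one ((by simpa [cs_one] using hk 0 le_rfl : A ⊆ U).trans hUT)
  | cons b l ih =>
    rw [List.prod_cons]
    refine Good.trans (hl b (by simp) A ?_ ?_)
      (ih _ (fun x hx => hl x (List.mem_cons_of_mem _ hx)) fun k hk' => ?_)
    · simpa [cs_one] using hk 0 (Nat.zero_le _)
    · simpa using hk 1 (by simp)
    · have := hk (k + 1) (by simpa using hk')
      rwa [List.take_succ_cons, List.prod_cons, ← cs_cs] at this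

variable [Finite G] {p : ℕ} [hp : Fact p.Prime] {P : Sylow p G}

theorem fusion_global {W V : Subgroup G → Subgroup G} (hW : Cfsg.IsConjugacyFunctor p W)
    (hV : Cfsg.IsConjugacyFunctor p V) (hWZ : ∀ H : Subgroup G, IsPGroup p ↥H → zc H ≤ W H)
    (hVmono : ∀ H K : Subgroup G, IsPGroup p ↥H → IsPGroup p ↥K → H ≠ ⊥ → K ≠ ⊥ →
      zc H ≤ zc K → V H ≤ V K) (hP : (P : Subgroup G) ≠ ⊥)
    (hloc : ∀ H : Subgroup G, zc (P : Subgroup G) ≤ H → H ≤ (P : Subgroup G) →
      ∃ Q : Subgroup G, IsSylIn p Q (normalizer (H : Set G)) ∧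
        ∀ (X : Set G) (a : G), X ⊆ Q → a ∈ normalizer (H : Set G) → cs a X ⊆ Q →
          ∃ c ∈ centralizer X, ∃ l : List G,
            (∀ b ∈ l, (b ∈ normalizer (H : Set G) ∧ b ∈ normalizer (W Q : Set G)) ∨
              b ∈ centralizer (V Q : Set G)) ∧
            a = c * l.prod ∧ ∀ k, k ≤ l.length → cs (l.take k).prod X ⊆ Q)
    (A : Set G) (a : G) (hA : A ⊆ (P : Subgroup G)) (hAa : cs a A ⊆ (P : Subgroup G)) :
    Good ((P : Subgroup G) : Set G)
      (fun b => b ∈ normalizer (W (P : Subgroup G) : Set G) ∨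
        b ∈ centralizer (V (P : Subgroup G) : Set G)) A a := by
  set Sg : G → Prop := fun b => b ∈ normalizer (W (P : Subgroup G) : Set G) ∨
    b ∈ centralizer (V (P : Subgroup G) : Set G) with hSg
  have key : ∀ m : ℕ, (∀ H, Pre P H → m < Nat.card (np P H) →
      ∀ (Y : Set G) (b : G), Y ⊆ np P H → b ∈ normalizer (H : Set G) → cs b Y ⊆ np P H →
        Good ((P : Subgroup G) : Set G) Sg Y b) →
      ∀ (X : Set G) (x : G), X ⊆ (P : Subgroup G) → cs x X ⊆ (P : Subgroup G) →
        (∀ D : Subgroup G, X ⊆ (D : Set G) → m < Nat.card D) →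
        Good ((P : Subgroup G) : Set G) Sg X x := by
    intro m hm X x hX hXx hbig
    obtain ⟨c, hc, g, rfl, hch⟩ := goldschmidt_chain P X x hX hXx
    refine Good.centralize_left hc ?_
    clear hc hXx
    induction hch with
    | one h => exact .one h
    | @step X D u g hD hu hOk hXD _ ih =>
      have hsub : cs u X ⊆ (D : Set G) := cs_subset_of_mem hu hXD
      have hDN : (D : Set G) ⊆ np P D := fun y hy => ⟨hD hy, le_normalizer hy⟩
      refine Good.trans ?_ (ih (hsub.trans hD) fun E hE => ?_)
      · exact hm D (pre_of_isCR hOk)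
          (lt_of_lt_of_le (hbig D hXD) (card_le_of_le (le_inf hD le_normalizer))) X u
          (hXD.trans hDN) hu (hsub.trans hDN)
      · have : X ⊆ (cv u⁻¹ E : Set G) := fun y hy =>
          mem_cv.mpr (by simpa using hE ⟨y, hy, rfl⟩)
        rw [← card_cv u⁻¹ E]
        exact hbig _ this
  have psi : ∀ (n : ℕ) (H : Subgroup G), Pre P H →
      Nat.card (P : Subgroup G) - Nat.card (np P H) = n →
      ∀ (Y : Set G) (y : G), Y ⊆ np P H → y ∈ normalizer (H : Set G) → cs y Y ⊆ np P H →
        Good ((P : Subgroup G) : Set G) Sg Y y := by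
    intro n
    induction n using Nat.strong_induction_on with
    | _ n ih =>
      intro H hH hn Y y hY hyN hYy
      obtain ⟨Q, hQ, hdec⟩ := hloc H hH.zle hH.fn.le
      obtain ⟨k, hk, hke⟩ := hQ.exists_conj hH.fn.syl
      have hkQ : cv k⁻¹ Q = np P H := by rw [cv, inv_inv]; exact hke
      have hcsQ : ∀ Z : Set G, cs k Z ⊆ (Q : Set G) ↔ Z ⊆ (np P H : Set G) := by
        intro Z
        rw [← hkQ, coe_cv]
        constructor
        · intro h
          have := cs_mono k⁻¹ h
          rwa [cs_cs, mul_inv_cancel, cs_one] at this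
        · intro h
          have := cs_mono k h
          rwa [cs_cs, inv_mul_cancel, cs_one] at this
      have hQp : IsPGroup p ↥Q := hQ.isPGroup
      have hPT : ((np P H : Subgroup G) : Set G) ⊆ (P : Subgroup G) := fun x hx => hx.1
      obtain ⟨c, hc, l, hl, hyl, hlk⟩ := hdec (cs k Y) (k⁻¹ * y * k) ((hcsQ Y).2 hY)
        (mul_mem (mul_mem (inv_mem hk) hyN) hk) (by
          rw [cs_cs, ← mul_assoc, mul_inv_cancel_left, ← cs_cs]
          exact (hcsQ _).2 hYy)
      set l' := l.map fun b => k * b * k⁻¹ with hl'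
      have hprod : ∀ j, (l'.take j).prod = k * (l.take j).prod * k⁻¹ := by
        intro j
        rw [hl', ← List.map_take]
        exact (map_list_prod (MulAut.conj k).toMonoidHom _).symm
      have hy : y = (k * c * k⁻¹) * l'.prod := by
        have h1 := hprod l'.length
        rw [List.take_length, hl', List.length_map, List.take_length] at h1
        rw [h1]
        calc y = k * (k⁻¹ * y * k) * k⁻¹ := by group
          _ = k * (c * l.prod) * k⁻¹ := by rw [hyl]
          _ = _ := by group
      rw [hy]
      refine Good.centralize_left (fun v hv => ?_) (Good.of_list (U := (np P H : Set G)) hPT l' Y ?_ ?_)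
      · have e := hc _ ⟨v, hv, rfl⟩
        calc v * (k * c * k⁻¹) = k * ((k⁻¹ * v * k) * c) * k⁻¹ := by group
          _ = k * (c * (k⁻¹ * v * k)) * k⁻¹ := by rw [e]
          _ = k * c * k⁻¹ * v := by group
      · intro b' hb' Z hZ hZb
        obtain ⟨b, hb, rfl⟩ := List.mem_map.1 hb'
        rcases hl b hb with ⟨hbH, hbW⟩ | hbV
        · have hbW' : k * b * k⁻¹ ∈ normalizer (W (np P H) : Set G) := by
            have := conj_mem_cv (g := k⁻¹) hbW
            rw [cv_normalizer, ← map_cv hW hQp, hkQ, inv_inv] at this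
            exact this
          set b' := k * b * k⁻¹ with hb'def
          by_cases hQ0 : np P H = (P : Subgroup G)
          · exact Good.single (Or.inl (hQ0 ▸ hbW')) (hZ.trans hPT) (hZb.trans hPT)
          obtain ⟨g, hlt, hgP, hQR, hpre, hgR⟩ := descend hW hWZ hH hQ0
          have hlt' : Nat.card (np P H) < Nat.card (np P (cv g (W (np P H)))) :=
            lt_of_lt_of_le (hlt.trans_eq (card_cv g _).symm) (card_le_of_le hgR)
          have hm : ∀ H', Pre P H' → Nat.card (np P H) < Nat.card (np P H') →
              ∀ (Y : Set G) (b : G), Y ⊆ np P H' → b ∈ normalizer (H' : Set G) →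
                cs b Y ⊆ np P H' → Good ((P : Subgroup G) : Set G) Sg Y b := by
            intro H' hH' hc'
            refine ih _ ?_ H' hH' rfl
            have : Nat.card (np P H') ≤ Nat.card (P : Subgroup G) := card_le_of_le inf_le_left
            omega
          set R := np P (W (np P H)) with hR
          have hRg : cs g (R : Set G) ⊆ (cv g R : Set G) := (coe_cv g R).ge
          have h1 : Good ((P : Subgroup G) : Set G) Sg (R : Set G) g :=
            key _ hm _ g inf_le_left (hRg.trans hgP) fun D hD => hlt.trans_le (card_le_of_le hD)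
          have h3 : Good ((P : Subgroup G) : Set G) Sg (cv g R : Set G) g⁻¹ := by
            refine key _ hm _ g⁻¹ hgP ?_ fun D hD => ?_
            · rw [coe_cv, cs_cs, mul_inv_cancel, cs_one]; exact inf_le_left
            · rw [← card_cv g R] at hlt
              exact hlt.trans_le (card_le_of_le hD)
          have hb2 : g⁻¹ * b' * g ∈ normalizer (cv g (W (np P H)) : Set G) := by
            rw [← cv_normalizer]; exact conj_mem_cv hbW'
          have hZg : cs g Z ⊆ (np P (cv g (W (np P H))) : Set G) :=
            ((cs_mono g (hZ.trans hQR)).trans hRg).trans hgR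
          have hZg' : cs (g⁻¹ * b' * g) (cs g Z) ⊆ (np P (cv g (W (np P H))) : Set G) := by
            rw [cs_cs, ← mul_assoc, mul_inv_cancel_left, ← cs_cs]
            exact ((cs_mono g (hZb.trans hQR)).trans hRg).trans hgR
          have h2 := hm _ hpre hlt' _ _ hZg hb2 hZg'
          have h12 := (h1.mono (hZ.trans hQR)).trans h2
          rw [← mul_assoc, mul_inv_cancel_left] at h12
          have h123 := h12.trans (h3.mono (by
            rw [← cs_cs]; exact (cs_mono g (hZb.trans hQR)).trans hRg))
          rwa [mul_inv_cancel_right] at h123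
        · refine Good.single (Or.inr ?_) (hZ.trans hPT) (hZb.trans hPT)
          refine centralizer_V_le hVmono hP hH fun q hq => ?_
          rw [← hkQ, map_cv hV hQp] at hq
          have hq' := mem_cv.mp hq
          rw [inv_inv] at hq'
          have e := hbV _ hq'
          calc q * (k * b * k⁻¹) = k * ((k⁻¹ * q * k) * b) * k⁻¹ := by group
            _ = k * (b * (k⁻¹ * q * k)) * k⁻¹ := by rw [e]
            _ = k * b * k⁻¹ * q := by group
      · intro j hj
        rw [hprod, ← hcsQ, cs_cs, inv_mul_cancel_right, ← cs_cs]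
        exact hlk j (by simpa [hl'] using hj)
  rcases A.eq_empty_or_nonempty with rfl | hne
  · exact ⟨a, fun v hv => absurd hv (Set.notMem_empty v), 1, (mul_one a).symm, .one hA⟩
  · exact key 0 (fun H hH _ => psi _ H hH rfl) A a hA hAa (fun D _ => Nat.card_pos)

end Cfsg.Agent.Techniques.TwoFunctor
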