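import Mathlib

/-!
A group with centre of prime order and commutators in the centre needs dimension at least `n * m` over a field
with `r` elements, where `m * m` is the index of the centre.
-/

set_option autoImplicit false

namespace Cfsg.Agent.Techniques.ExtraspecialModule

open Subgroup Module
open scoped commutatorElement

theorem linearIndependent_of_characters {S M ι H : Type*} [Field S] [AddCommGroup M] [Module S M] (C : H → M →ₗ[S] M)
    (v : ι → M) (χ : H → ι → S) (hv : ∀ i, v i ≠ 0) (hC : ∀ h i, C h (v i) = χ h i • v i)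
    (hsep : ∀ i j, i ≠ j → ∃ h, χ h i ≠ χ h j) : LinearIndependent S v := by
  classical
  rw [linearIndependent_iff']
  intro s
  induction s using Finset.induction_on with
  | empty => intro a _ i hi; simp at hi
  | @insert k t hk ih =>
    intro a hsum
    rw [Finset.sum_insert hk] at hsum
    have ht : ∀ i ∈ t, a i = 0 := by
      intro i hi
      obtain ⟨h, hne⟩ := hsep i k fun e => hk (e ▸ hi)
      have e1 := congrArg (C h) hsum
      rw [map_add, map_sum, map_zero, map_smul, hC] at e1
      simp only [map_smul, hC, smul_smul] at e1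
      have e2 := congrArg (fun x => χ h k • x) hsum
      simp only [smul_add, Finset.smul_sum, smul_smul, smul_zero] at e2
      have e3 : ∑ j ∈ t, (a j * (χ h j - χ h k)) • v j = 0 := by
        simp only [mul_sub, sub_smul, Finset.sum_sub_distrib]
        rw [sub_eq_zero]
        have e4 := e1.trans e2.symm
        rw [mul_comm (χ h k) (a k)] at e4
        have e5 := add_left_cancel e4
        simpa [mul_comm] using e5
      exact (mul_eq_zero.mp (ih _ e3 i hi)).resolve_right (sub_ne_zero.mpr hne)
    intro i hi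
    rcases Finset.mem_insert.mp hi with rfl | hi
    · rw [Finset.sum_eq_zero fun j hj => by rw [ht j hj, zero_smul], add_zero] at hsum
      exact (smul_eq_zero.mp hsum).resolve_right (hv i)
    · exact ht i hi

theorem card_ge {H V : Type*} [Group H] [Finite H] {p r : ℕ} [Fact p.Prime] (hr : r.Prime) (hpr : p ≠ r)
    [AddCommGroup V] [Module (ZMod r) V] [Finite V]
    (ρ : H →* Module.End (ZMod r) V) (hcomm : commutator H ≤ center H) (hZ : Nat.card (center H) = p)
    (hfaith : ∀ x : H, ρ x = 1 → x = 1) (m : ℕ) (hidx : (center H).index = m * m) (n : ℕ)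
    (hmin : ∀ k : ℕ, 1 ≤ k → p ∣ r ^ k - 1 → n ≤ k) : r ^ (n * m) ≤ Nat.card V := by
  classical
  haveI : Fact r.Prime := ⟨hr⟩
  obtain ⟨z, hz⟩ : ∃ z : center H, z ≠ 1 := by
    have : Nontrivial (center H) := Finite.one_lt_card_iff_nontrivial.mp (hZ ▸ (Fact.out : p.Prime).one_lt)
    exact exists_ne 1
  have hzo : orderOf (z : H) = p := by
    rw [Subgroup.orderOf_coe]
    exact orderOf_eq_prime (by rw [← hZ]; exact pow_card_eq_one') hz
  have hcT : ∀ (x : H) (v : V), ρ x (ρ z v) = ρ z (ρ x v) := fun x v => by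
    rw [← Module.End.mul_apply, ← Module.End.mul_apply, ← map_mul, ← map_mul, mem_center_iff.mp z.2 x]
  have hp0 : (p : ZMod r) ≠ 0 := fun h => hpr (((Nat.prime_dvd_prime_iff_eq (Fact.out : r.Prime) Fact.out).mp
    ((ZMod.natCast_eq_zero_iff p r).mp h)).symm)
  have hfix : ∀ v u : V, u = ρ z v - v → ρ z u = u → u = 0 := by
    intro v u hu hfu
    have hk : ∀ k : ℕ, ρ ((z : H) ^ k) v = v + (k : ZMod r) • u := by
      intro k
      induction k with
      | zero => simp
      | succ k ih =>
        rw [pow_succ', map_mul, Module.End.mul_apply, ih, map_add, map_smul, hfu, Nat.cast_succ, add_smul, one_smul,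
          hu]
        abel
    have h := hk p
    rw [← hzo, pow_orderOf_eq_one, map_one, Module.End.one_apply, hzo] at h
    exact (smul_eq_zero.mp (left_eq_add.mp h)).resolve_left hp0
  -- an irreducible constituent on which the centre acts nontrivially
  let P : Submodule (ZMod r) V → Prop := fun W => (∀ x : H, ∀ v ∈ W, ρ x v ∈ W) ∧ ∃ v ∈ W, ρ z v ≠ v
  obtain ⟨W, -, hW, hWmin⟩ := Finite.exists_le_minimal (p := P) (a := ⊤) ⟨fun _ _ _ => trivial, by
    by_contra h
    push Not at h
    have : (z : H) = 1 := hfaith z (LinearMap.ext fun v => h v trivial)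
    exact hz (Subtype.ext this)⟩
  have hWfree : ∀ u ∈ W, ρ z u = u → u = 0 := by
    let W' : Submodule (ZMod r) V := W.map (ρ z - 1)
    have hle : W' ≤ W := by
      rintro _ ⟨v, hv, rfl⟩
      exact W.sub_mem (hW.1 z v hv) hv
    have hP : P W' := by
      refine ⟨?_, ?_⟩
      · rintro x _ ⟨v, hv, rfl⟩
        exact ⟨ρ x v, hW.1 x v hv, by simp [hcT]⟩
      · obtain ⟨v, hv, hne⟩ := hW.2
        refine ⟨ρ z v - v, ⟨v, hv, by simp⟩, fun h => hne (sub_eq_zero.mp (hfix v _ rfl h))⟩
    intro u hu hfu
    obtain ⟨v, hv, rfl⟩ := hWmin hP hle hu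
    exact hfix v _ (by simp) hfu
  have hirr : ∀ U : Submodule (ZMod r) V, U ≤ W → (∀ x : H, ∀ v ∈ U, ρ x v ∈ U) → U ≠ ⊥ → U = W := by
    intro U hU hinv hne
    obtain ⟨u, hu, hu0⟩ := (Submodule.ne_bot_iff U).mp hne
    exact le_antisymm hU (hWmin ⟨hinv, u, hu, fun h => hu0 (hWfree u (hU hu) h)⟩ hU)
  let σ : H →* Module.End (ZMod r) W :=
    { toFun := fun x => (ρ x).restrict (hW.1 x)
      map_one' := by ext v; simp
      map_mul' := fun x y => by ext v; simp }
  have hσ : ∀ x (v : W), (σ x v : V) = ρ x v := fun _ _ => rfl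
  set T := σ z with hT
  have hTc : ∀ x, Commute (σ x) T := fun x => by
    rw [commute_iff_eq, hT, ← map_mul, ← map_mul, mem_center_iff.mp z.2 x]
  set S := Algebra.adjoin (ZMod r) ({T} : Set (Module.End (ZMod r) W)) with hS
  have hSc : ∀ f ∈ S, ∀ x, Commute (σ x) f := fun f hf x => by
    refine Algebra.adjoin_induction (fun g hg => by rw [Set.mem_singleton_iff.mp hg]; exact hTc x)
      (fun c => (Algebra.commutes c (σ x)).symm) (fun a b _ _ ha hb => ha.add_right hb)
      (fun a b _ _ ha hb => ha.mul_right hb) hf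
  have hinj : ∀ f ∈ S, f ≠ 0 → Function.Injective f := by
    intro f hf hf0
    rw [← LinearMap.ker_eq_bot]
    by_contra hk
    have h1 : (LinearMap.ker f).map W.subtype = W := by
      refine hirr _ (W.map_subtype_le _) ?_ ?_
      · rintro x _ ⟨v, hv, rfl⟩
        refine ⟨σ x v, ?_, hσ x v⟩
        rw [SetLike.mem_coe, LinearMap.mem_ker] at hv
        rw [SetLike.mem_coe, LinearMap.mem_ker, ← Module.End.mul_apply, ← (hSc f hf x).eq, Module.End.mul_apply, hv,
          map_zero]
      · rw [Ne, ← Submodule.map_bot W.subtype]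
        exact fun h => hk (Submodule.map_injective_of_injective W.injective_subtype h)
    refine hf0 (LinearMap.ext fun v => ?_)
    obtain ⟨u, hu, huv⟩ := h1.ge v.2
    rw [W.injective_subtype huv] at hu
    exact hu
  obtain ⟨v0, hv0, hv0'⟩ := hW.2
  haveI : Nontrivial W := ⟨⟨⟨v0, hv0⟩, 0, fun h => hv0' (by
    have : v0 = 0 := congrArg Subtype.val h
    simp [this])⟩⟩
  haveI : Finite (Module.End (ZMod r) W) := Finite.of_injective _ DFunLike.coe_injective
  letI : Fintype S := Fintype.ofFinite S
  letI : CommRing S :=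
    { (inferInstance : Ring S) with
      mul_comm := fun a b => Subtype.ext (by
        have key : ∀ f ∈ S, Commute f T := fun f hf => (hSc f hf z).symm
        refine (Algebra.adjoin_induction (fun g hg => by rw [Set.mem_singleton_iff.mp hg]; exact key _ a.2)
          (fun c => (Algebra.commutes c (a : Module.End (ZMod r) W)).symm) (fun x y _ _ hx hy => hx.add_right hy)
          (fun x y _ _ hx hy => hx.mul_right hy) b.2 : Commute (a : Module.End (ZMod r) W) b).eq) }
  haveI : Nontrivial S := ⟨⟨0, 1, fun h => zero_ne_one (congrArg Subtype.val h)⟩⟩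
  haveI : NoZeroDivisors S := ⟨fun {a b} hab => by
    by_cases ha : a = 0
    · exact Or.inl ha
    · refine Or.inr (Subtype.ext (LinearMap.ext fun v => hinj a a.2 (fun h => ha (Subtype.ext h)) ?_))
      have := LinearMap.congr_fun (congrArg Subtype.val hab) v
      simpa using this⟩
  haveI : IsDomain S := NoZeroDivisors.to_isDomain S
  letI : Field S := Fintype.fieldOfDomain S
  -- the action commutes with the scalars
  let L : H → Module.End S W := fun x =>
    { toFun := σ x
      map_add' := map_add _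
      map_smul' := fun c v => LinearMap.congr_fun (hSc c c.2 x).eq v }
  have hL : ∀ x y v, L (x * y) v = L x (L y v) := fun x y v => by
    show σ (x * y) v = σ x (σ y v)
    rw [map_mul]; rfl
  let ι := H ⧸ center H
  -- commutators as scalars
  have hω : ∀ y x : H, ∃ c : S, (c : Module.End (ZMod r) W) = σ ⁅y, x⁆ := by
    intro y x
    have h1 : ⁅y, x⁆ ∈ center H := hcomm (commutator_mem_commutator (mem_top y) (mem_top x))
    obtain ⟨k, hk⟩ := mem_powers_iff_mem_zpowers.mpr (mem_zpowers_of_prime_card hZ hz (g' := ⟨_, h1⟩))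
    refine ⟨⟨T ^ k, pow_mem (Algebra.self_mem_adjoin_singleton _ T) k⟩, ?_⟩
    show T ^ k = σ ⁅y, x⁆
    have : ⁅y, x⁆ = (z : H) ^ k := (congrArg Subtype.val hk).symm
    rw [this, map_pow]
  choose ω hω using hω
  let C : H → Module.End S W →ₗ[S] Module.End S W := fun y =>
    { toFun := fun f => L y * f * L y⁻¹
      map_add' := fun a b => by rw [mul_add, add_mul]
      map_smul' := fun c f => LinearMap.ext fun v => by simp }
  have hli : LinearIndependent S (fun q : ι => L q.out) := by
    refine linearIndependent_of_characters C _ (fun y q => ω y q.out) ?_ ?_ ?_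
    · intro q h
      obtain ⟨v, hv⟩ := exists_ne (0 : W)
      refine hv ?_
      have h1 : L q.out v = 0 := by rw [h]; rfl
      have h2 : L (q.out⁻¹ * q.out) v = v := by
        rw [inv_mul_cancel]
        show σ 1 v = v
        rw [map_one]; rfl
      rw [← h2, hL, h1, map_zero]
    · intro y q
      refine LinearMap.ext fun v => ?_
      show L y (L q.out (L y⁻¹ v)) = (ω y q.out : Module.End (ZMod r) W) (σ q.out v)
      rw [hω, ← hL, ← hL]
      show σ _ v = (σ _ * σ _) v
      rw [← map_mul]
      congr 2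
      rw [commutatorElement_def]
      group
    · intro i j hij
      have hnc : j.out⁻¹ * i.out ∉ center H := fun h => hij (by
        rw [← i.out_eq', ← j.out_eq']; exact (QuotientGroup.eq.mpr h).symm)
      rw [mem_center_iff] at hnc
      push Not at hnc
      obtain ⟨y, hy⟩ := hnc
      refine ⟨y, fun he => ?_⟩
      have h1 : σ ⁅y, i.out⁆ = σ ⁅y, j.out⁆ := by rw [← hω, ← hω, he]
      have h2 : σ (⁅y, j.out⁆⁻¹ * ⁅y, i.out⁆) = 1 := by rw [map_mul, h1, ← map_mul, inv_mul_cancel, map_one]
      have hc : ∀ a : H, ⁅y, a⁆ ∈ center H := fun a =>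
        hcomm (commutator_mem_commutator (mem_top y) (mem_top a))
      set c := ⁅y, j.out⁆⁻¹ * ⁅y, i.out⁆ with hcdef
      have hcz : c ∈ center H := mul_mem (inv_mem (hc _)) (hc _)
      have hc1 : c = 1 := by
        by_contra hne
        obtain ⟨k, hk⟩ := mem_powers_iff_mem_zpowers.mpr
          (mem_zpowers_of_prime_card hZ (g := ⟨c, hcz⟩) (fun h => hne (congrArg Subtype.val h)) (g' := z))
        have hz' : c ^ k = (z : H) := congrArg Subtype.val hk
        apply hv0'
        have h3 : σ z = 1 := by rw [← hz', map_pow, h2, one_pow]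
        exact congrArg Subtype.val (LinearMap.congr_fun h3 ⟨v0, hv0⟩)
      rw [hcdef, inv_mul_eq_one] at hc1
      apply hy
      calc y * (j.out⁻¹ * i.out) = j.out⁻¹ * ((⁅y, j.out⁆)⁻¹ * (y * i.out)) := by
            rw [commutatorElement_def]; group
        _ = j.out⁻¹ * ((⁅y, i.out⁆)⁻¹ * (y * i.out)) := by rw [hc1]
        _ = j.out⁻¹ * i.out * y := by rw [commutatorElement_def]; group
  have hfr : m * m ≤ finrank S W * finrank S W := by
    letI : Fintype ι := Fintype.ofFinite ι
    have h1 := hli.fintype_card_le_finrank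
    rw [Module.finrank_linearMap, ← Nat.card_eq_fintype_card, ← Subgroup.index, hidx] at h1
    exact h1
  have hd : m ≤ finrank S W := Nat.mul_self_le_mul_self_iff.mp hfr
  have hW' : Nat.card W = Nat.card S ^ finrank S W := Module.natCard_eq_pow_finrank
  have hS' : Nat.card S = r ^ finrank (ZMod r) S := by
    rw [Module.natCard_eq_pow_finrank (K := ZMod r) (V := S), Nat.card_zmod]
  have hk : n ≤ finrank (ZMod r) S := by
    refine hmin _ Module.finrank_pos ?_
    rw [← hS']
    have hT1 : (⟨T, Algebra.self_mem_adjoin_singleton _ T⟩ : S) ^ p = 1 := by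
      refine Subtype.ext ?_
      show T ^ p = 1
      rw [hT, ← map_pow, ← hzo, pow_orderOf_eq_one, map_one]
    have hT0 : (⟨T, Algebra.self_mem_adjoin_singleton _ T⟩ : S) ≠ 1 := fun h => hv0'
      (congrArg Subtype.val (LinearMap.congr_fun (congrArg Subtype.val h) ⟨v0, hv0⟩))
    have h1 := orderOf_dvd_natCard (Units.ofPowEqOne _ p hT1 (Fact.out : p.Prime).ne_zero)
    rw [← orderOf_units, Units.val_ofPowEqOne, orderOf_eq_prime hT1 hT0, Nat.card_units] at h1
    exact h1
  calc r ^ (n * m) ≤ r ^ (finrank (ZMod r) S * finrank S W) :=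
        Nat.pow_le_pow_right (Fact.out : r.Prime).pos (Nat.mul_le_mul hk hd)
    _ = Nat.card W := by rw [hW', hS', pow_mul]
    _ ≤ Nat.card V := Nat.card_le_card_of_injective _ W.injective_subtype

theorem card_ge_addEnd_of_module {H V : Type*} [Group H] [Finite H] [AddCommGroup V] [Finite V] {p r : ℕ}
    [Fact p.Prime] (hr : r.Prime) (hpr : p ≠ r) [Module (ZMod r) V] (φ : H →* AddMonoid.End V)
    (hcomm : commutator H ≤ center H) (hZ : Nat.card (center H) = p) (hfaith : ∀ x : H, φ x = 1 → x = 1) (m : ℕ)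
    (hidx : (center H).index = m * m) (n : ℕ) (hmin : ∀ k : ℕ, 1 ≤ k → p ∣ r ^ k - 1 → n ≤ k) :
    r ^ (n * m) ≤ Nat.card V := by
  let ρ : H →* Module.End (ZMod r) V :=
    { toFun := fun x => AddMonoidHom.toZModLinearMap r (φ x : V →+ V)
      map_one' := by
        refine LinearMap.ext fun v => ?_
        show φ 1 v = v
        rw [map_one]; rfl
      map_mul' := fun x y => by
        refine LinearMap.ext fun v => ?_
        show φ (x * y) v = φ x (φ y v)
        rw [map_mul]; rfl }
  exact card_ge hr hpr ρ hcomm hZ (fun x hx => hfaith x (AddMonoidHom.ext fun v => LinearMap.congr_fun hx v))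
    m hidx n hmin

/-- The additive form. -/
theorem card_ge_addEnd {H V : Type*} [Group H] [Finite H] [AddCommGroup V] [Finite V] {p r : ℕ} [Fact p.Prime]
    (hr : r.Prime) (hpr : p ≠ r) (h0 : ∀ v : V, r • v = 0) (φ : H →* AddMonoid.End V)
    (hcomm : commutator H ≤ center H) (hZ : Nat.card (center H) = p) (hfaith : ∀ x : H, φ x = 1 → x = 1) (m : ℕ)
    (hidx : (center H).index = m * m) (n : ℕ) (hmin : ∀ k : ℕ, 1 ≤ k → p ∣ r ^ k - 1 → n ≤ k) :
    r ^ (n * m) ≤ Nat.card V :=
  @card_ge_addEnd_of_module H V _ _ _ _ p r _ hr hpr (AddCommGroup.zmodModule h0) φ hcomm hZ hfaith m hidx n hmin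

/-- The multiplicative form. -/
theorem card_ge_mulAut {H A : Type*} [Group H] [Finite H] [CommGroup A] [Finite A] {p r : ℕ} [Fact p.Prime]
    (hr : r.Prime) (hpr : p ≠ r) (hexp : ∀ a : A, a ^ r = 1) (φ : H →* MulAut A) (hcomm : commutator H ≤ center H)
    (hZ : Nat.card (center H) = p) (hfaith : ∀ x : H, φ x = 1 → x = 1) (m : ℕ)
    (hidx : (center H).index = m * m) (n : ℕ) (hmin : ∀ k : ℕ, 1 ≤ k → p ∣ r ^ k - 1 → n ≤ k) :
    r ^ (n * m) ≤ Nat.card A := by
  let ψ : H →* AddMonoid.End (Additive A) :=
    { toFun := fun x => MonoidHom.toAdditive (φ x).toMonoidHom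
      map_one' := by
        refine AddMonoidHom.ext fun v => ?_
        show Additive.ofMul (φ 1 (Additive.toMul v)) = v
        rw [map_one]; rfl
      map_mul' := fun x y => by
        refine AddMonoidHom.ext fun v => ?_
        show Additive.ofMul (φ (x * y) (Additive.toMul v)) = Additive.ofMul (φ x (φ y (Additive.toMul v)))
        rw [map_mul]; rfl }
  exact card_ge_addEnd (V := Additive A) hr hpr (fun v => congrArg Additive.ofMul (hexp (Additive.toMul v))) ψ hcomm hZ
    (fun x hx => hfaith x (MulEquiv.ext fun a => congrArg Additive.toMul (DFunLike.congr_fun hx (Additive.ofMul a))))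
    m hidx n hmin

end Cfsg.Agent.Techniques.ExtraspecialModule
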