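import Cfsg.Agent.Techniques.LinePair.Sidki
import Cfsg.Agent.Lib.Components.Fitting
import Cfsg.Agent.Lib.Cores.Basic
import Cfsg.Agent.Lib.Cores.Nilpotent

/-!
A minimal counterexample for Sidki pairs has simple generalized Fitting subgroup.
-/

set_option autoImplicit false

namespace Cfsg.Agent.Techniques.SidkiMinimal

open Subgroup
open scoped commutatorElement

universe u

variable {G : Type u} [Group G] [Finite G]

/-- The hypotheses on a minimal counterexample. -/
structure Ctx (V : Subgroup G) : Prop where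
  hV : Cfsg.IsElementaryAbelian 2 V
  hV1 : V ≠ ⊥
  hS : Cfsg.IsSidkiPair V
  hO : Cfsg.pCore 2 G = ⊥
  hminG : ∀ (H : Type u) [Group H] [Finite H] (W : Subgroup H), Nat.card H < Nat.card G →
    Cfsg.IsElementaryAbelian 2 W → W ≠ ⊥ → Cfsg.IsSidkiPair W → W ⊓ Cfsg.pCore 2 H ≠ ⊥
  hminV : ∀ W : Subgroup G, W ≤ V → W ≠ V → W ≠ ⊥ → ¬ Cfsg.IsSidkiPair W

omit [Finite G] in
theorem elementary_of_le {V W : Subgroup G} (hV : Cfsg.IsElementaryAbelian 2 V) (h : W ≤ V) :
    Cfsg.IsElementaryAbelian 2 W :=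
  ⟨isMulCommutative_iff.2 fun a b => Subtype.ext (by
      haveI := hV.1
      exact (congrArg Subtype.val (mul_comm' (⟨a, h a.2⟩ : V) ⟨b, h b.2⟩) :)),
    fun a ha => hV.2 a (h ha)⟩

omit [Finite G] in
theorem elementary_map {H : Type*} [Group H] {V : Subgroup G} (hV : Cfsg.IsElementaryAbelian 2 V) (f : G →* H) :
    Cfsg.IsElementaryAbelian 2 (V.map f) := by
  refine ⟨isMulCommutative_iff.2 ?_, ?_⟩
  · rintro ⟨_, a, ha, rfl⟩ ⟨_, b, hb, rfl⟩
    haveI := hV.1
    refine Subtype.ext ?_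
    show f a * f b = f b * f a
    rw [← map_mul, ← map_mul]
    exact congrArg f (congrArg Subtype.val (mul_comm' (⟨a, ha⟩ : V) ⟨b, hb⟩))
  · rintro _ ⟨a, ha, rfl⟩
    rw [← map_pow, hV.2 a ha, map_one]

theorem mem_of_pow_mem {K : Subgroup G} {h : G} (ho : Odd (orderOf h)) {k : ℕ} (hk : h ^ 2 ^ k ∈ K) : h ∈ K := by
  obtain ⟨m, hm⟩ := exists_pow_eq_self_of_coprime (Nat.Coprime.pow_left k (Nat.coprime_two_left.2 ho))
  exact hm ▸ pow_mem hk m

/-- An element of odd order in `W N`, `W` of exponent two, lies in `N`. -/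
theorem odd_mem {W N : Subgroup G} (hW : ∀ w ∈ W, w ^ 2 = 1) (hn : W ≤ normalizer (N : Set G)) {h : G}
    (ho : Odd (orderOf h)) (hh : h ∈ W ⊔ N) : h ∈ N := by
  obtain ⟨w, hw, n, hn', rfl⟩ : ∃ w ∈ W, ∃ n ∈ N, w * n = h := by
    rw [← SetLike.mem_coe, coe_mul_of_left_le_normalizer_right W N hn] at hh
    exact Set.mem_mul.1 hh
  refine mem_of_pow_mem ho (k := 1) ?_
  rw [pow_one, pow_two]
  have e : w * n * (w * n) = (w ^ 2) * (w⁻¹ * n * w) * n := by rw [pow_two]; group
  rw [e, hW w hw, one_mul]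
  refine mul_mem ?_ hn'
  have := (mem_normalizer_iff.1 (hn (inv_mem hw)) n).1 hn'
  rwa [inv_inv] at this

/-- A `2`-subgroup normalized by `N` meets `N` in `O₂(N)`. -/
theorem inf_eq_bot {N M : Subgroup G} (hN : Cfsg.pCore 2 N = ⊥) (hM : IsPGroup 2 M)
    (hn : N ≤ normalizer (M : Set G)) : M ⊓ N = ⊥ := by
  haveI : (M.subgroupOf N).Normal := normal_subgroupOf_of_le_normalizer hn
  have h : M.subgroupOf N ≤ Cfsg.pCore 2 N := Cores.le_pCore hM.comap_subtype
  rw [hN, le_bot_iff, subgroupOf_eq_bot] at h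
  exact h.eq_bot

theorem pCore_of_normal (hO : Cfsg.pCore 2 G = ⊥) (N : Subgroup G) [N.Normal] : Cfsg.pCore 2 N = ⊥ := by
  have h := Cores.map_pCore_subtype_le (G := G) 2 N
  rw [hO, le_bot_iff, map_eq_bot_iff_of_injective _ N.subtype_injective] at h
  exact h

variable {V : Subgroup G}

theorem comm_of_mem (c : Ctx V) {a b : G} (ha : a ∈ V) (hb : b ∈ V) : a * b = b * a := by
  haveI := c.hV.1
  exact congrArg Subtype.val (mul_comm' (⟨a, ha⟩ : V) ⟨b, hb⟩)

theorem inv_of_mem (c : Ctx V) {a : G} (ha : a ∈ V) : a⁻¹ = a :=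
  inv_eq_of_mul_eq_one_right (by rw [← pow_two]; exact c.hV.2 a ha)

/-- A smaller pair is no Sidki pair, seen inside an invariant subgroup. -/
theorem exists_inverted (c : Ctx V) (W N : Subgroup G) (hWV : W ≤ V) (hWne : W ≠ V) (hW1 : W ≠ ⊥)
    (hn : W ≤ normalizer (N : Set G)) (hN : Cfsg.pCore 2 N = ⊥)
    (hfaith : ∀ w ∈ W, (∀ n ∈ N, w * n = n * w) → w = 1) :
    ∃ h ∈ N, Odd (orderOf h) ∧ ∃ v ∈ W, v * h * v⁻¹ = h⁻¹ ∧ ∀ u ∈ W, u * h = h * u → u = 1 := by
  by_contra hc
  push Not at hc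
  set H := W ⊔ N with hH
  have hsid : ∀ x ∈ H, Odd (orderOf x) → ∀ v ∈ W, v * x * v⁻¹ = x⁻¹ → ∃ u ∈ W, u ≠ 1 ∧ u * x = x * u := by
    intro x hx ho v hv hvx
    obtain ⟨u, hu, hux, hu1⟩ := hc x (odd_mem (fun w hw => c.hV.2 w (hWV hw)) hn ho hx) ho v hv hvx
    exact ⟨u, hu, hu1, hux⟩
  by_cases hlt : Nat.card H < Nat.card G
  · have hWH : W ≤ H := le_sup_left
    have he : Cfsg.IsElementaryAbelian 2 (W.subgroupOf H) := by
      obtain ⟨h1, h2⟩ := elementary_of_le c.hV hWV
      exact ⟨isMulCommutative_iff.2 fun a b => Subtype.ext (Subtype.ext (by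
          exact (congrArg Subtype.val (mul_comm' (⟨(a : H), a.2⟩ : W) ⟨(b : H), b.2⟩) :))),
        fun a ha => Subtype.ext (h2 _ ha)⟩
    refine c.hminG H (W.subgroupOf H) hlt he (fun h => hW1 ?_) ?_ ?_
    · rw [subgroupOf_eq_bot] at h
      exact eq_bot_iff.2 fun w hw => h.le_bot ⟨hw, hWH hw⟩
    · intro x v hv ho hvx
      obtain ⟨u, hu, hu1, hux⟩ := hsid x x.2 (by rwa [Subgroup.orderOf_coe]) v hv (congrArg Subtype.val hvx)
      exact ⟨⟨u, hWH hu⟩, hu, fun e => hu1 (congrArg Subtype.val e), Subtype.ext hux⟩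
    · rw [eq_bot_iff]
      rintro w ⟨hw, hwO⟩
      refine mem_bot.2 (Subtype.ext (hfaith _ hw fun n hn' => ?_))
      set M := (Cfsg.pCore 2 H).map H.subtype with hM
      have hHM : H ≤ normalizer (M : Set G) := fun x hx => by
        rw [mem_normalizer_iff]
        intro y
        constructor
        · rintro ⟨z, hz, rfl⟩
          exact ⟨⟨x, hx⟩ * z * ⟨x, hx⟩⁻¹, Subgroup.Normal.conj_mem inferInstance z hz _, rfl⟩
        · rintro ⟨z, hz, hzy⟩
          refine ⟨⟨x, hx⟩⁻¹ * z * ⟨x, hx⟩, ?_, ?_⟩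
          · simpa using Subgroup.Normal.conj_mem (inferInstance : (Cfsg.pCore 2 H).Normal) z hz (⟨x, hx⟩ : H)⁻¹
          · show x⁻¹ * (z : G) * x = y
            rw [show (z : G) = x * y * x⁻¹ from hzy]
            group
      have hNH : N ≤ H := le_sup_right
      have hcomm : ⁅(w : G), n⁆ ∈ M ⊓ N := by
        constructor
        · have hwM : (w : G) ∈ M := ⟨w, hwO, rfl⟩
          have := (mem_normalizer_iff.1 (hHM (hNH hn')) _).1 (M.inv_mem hwM)
          have h2 := mul_mem hwM this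
          rwa [show (w : G) * (n * (w : G)⁻¹ * n⁻¹) = ⁅(w : G), n⁆ by rw [commutatorElement_def]; group] at h2
        · rw [commutatorElement_def]
          exact mul_mem ((mem_normalizer_iff.1 (hn hw) n).1 hn') (N.inv_mem hn')
      rw [inf_eq_bot hN ((Cores.pCore_isPGroup 2).map _) (hNH.trans hHM), mem_bot] at hcomm
      exact commutatorElement_eq_one_iff_mul_comm.1 hcomm
  · have htop : H = ⊤ := Subgroup.eq_top_of_card_eq H (le_antisymm H.card_le_card_group (not_lt.1 hlt))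
    exact c.hminV W hWV hWne hW1 fun x v hv ho hvx => by
      obtain ⟨u, hu, hu1, hux⟩ := hsid x (htop ▸ mem_top x) ho v hv hvx
      exact ⟨u, hu, hu1, hux⟩

/-- Some involution of `V` lands in the largest normal `2`-subgroup of a proper quotient. -/
theorem exists_near_quotient {V : Subgroup G} (hV : Cfsg.IsElementaryAbelian 2 V) (hV1 : V ≠ ⊥)
    (hS : Cfsg.IsSidkiPair V)
    (hminG : ∀ (H : Type u) [Group H] [Finite H] (W : Subgroup H), Nat.card H < Nat.card G →
      Cfsg.IsElementaryAbelian 2 W → W ≠ ⊥ → Cfsg.IsSidkiPair W → W ⊓ Cfsg.pCore 2 H ≠ ⊥)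
    (N : Subgroup G) [N.Normal] (hN : N ≠ ⊥) (hVN : ∀ v ∈ V, v ∈ N → v = 1) :
    ∃ v ∈ V, v ≠ 1 ∧ QuotientGroup.mk' N v ∈ Cfsg.pCore 2 (G ⧸ N) := by
  set π := QuotientGroup.mk' N
  have hsid : Cfsg.IsSidkiPair (V.map π) := by
    rintro hbar _ ⟨v, hv, rfl⟩ ho hvx
    obtain ⟨w₀, hw₀⟩ : ∃ w : V, w ≠ 1 := V.ne_bot_iff_exists_ne_one.1 hV1
    have hne : ∀ w ∈ V, w ≠ 1 → π w ≠ 1 := fun w hw hw1 e => hw1 (hVN w hw ((QuotientGroup.eq_one_iff w).1 e))
    by_cases hb : hbar = 1
    · exact ⟨π w₀, ⟨w₀, w₀.2, rfl⟩, hne _ w₀.2 fun e => hw₀ (Subtype.ext e), by rw [hb, mul_one, one_mul]⟩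
    obtain ⟨g, rfl⟩ := QuotientGroup.mk'_surjective N hbar
    replace hvx : π v * π g * (π v)⁻¹ = (π g)⁻¹ := hvx
    set d := v * (g * v * g⁻¹) with hd
    have hvv : v⁻¹ = v := inv_eq_of_mul_eq_one_right (by rw [← pow_two]; exact hV.2 v hv)
    have hdi : v * d * v⁻¹ = d⁻¹ := by
      calc v * d * v⁻¹ = (v * v) * g * v * g⁻¹ * v⁻¹ := by rw [hd]; group
        _ = g * v⁻¹ * g⁻¹ * v⁻¹ := by rw [show v * v = 1 by rw [← pow_two]; exact hV.2 v hv, one_mul, hvv]
        _ = d⁻¹ := by rw [hd]; group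
    obtain ⟨k, m, hm, hkm⟩ := Nat.exists_eq_two_pow_mul_odd (orderOf_pos d).ne'
    set h := d ^ 2 ^ k
    have hho : Odd (orderOf h) := by
      have : orderOf h = m := by
        rw [orderOf_pow' _ (by positivity), hkm, Nat.gcd_mul_right_left, Nat.mul_div_cancel_left m (by positivity)]
      rwa [this]
    have hhi : v * h * v⁻¹ = h⁻¹ := by rw [← conj_pow, hdi, inv_pow]
    obtain ⟨w, hw, hw1, hwh⟩ := hS h v hv hho hhi
    refine ⟨π w, ⟨w, hw, rfl⟩, hne w hw hw1, ?_⟩
    have hπd : π d = ((π g) ^ 2)⁻¹ := by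
      have e : π g * π v * (π g)⁻¹ = π v * ((π v)⁻¹ * (π g * π v * (π g)⁻¹)) := by group
      calc π d = (π v * π g * (π v)⁻¹) * (π v * π v) * (π g)⁻¹ := by
            simp only [hd, map_mul, map_inv]; group
        _ = _ := by
          rw [hvx, show π v * π v = 1 by rw [← map_mul, ← pow_two, hV.2 v hv, map_one]]
          group
    have hmem : π g ∈ Subgroup.zpowers (π h) := by
      refine mem_of_pow_mem ho (k := k + 1) ?_
      have : (π g) ^ 2 ^ (k + 1) = (π h)⁻¹ := by
        rw [map_pow, hπd, inv_pow, inv_inv, ← pow_mul, pow_succ']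
      rw [this]
      exact inv_mem (mem_zpowers _)
    obtain ⟨n, hn⟩ := mem_zpowers_iff.1 hmem
    rw [← hn]
    exact ((show Commute w h from hwh).map π).zpow_right n
  have hlt : Nat.card (G ⧸ N) < Nat.card G := by
    rw [← Subgroup.index_eq_card, ← N.card_mul_index]
    have h1 : 1 < Nat.card N := (Subgroup.one_lt_card_iff_ne_bot N).2 hN
    have h2 : 0 < N.index := Nat.pos_of_ne_zero Subgroup.index_ne_zero_of_finite
    nlinarith
  have hVb : V.map π ≠ ⊥ := fun e => hV1 (eq_bot_iff.2 fun w hw => by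
    have : π w ∈ V.map π := ⟨w, hw, rfl⟩
    rw [e, mem_bot] at this
    exact mem_bot.2 (hVN w hw ((QuotientGroup.eq_one_iff w).1 this)))
  obtain ⟨⟨_, ⟨v, hv, rfl⟩, hvO⟩, hv1⟩ := Subgroup.ne_bot_iff_exists_ne_one.1
    (hminG (G ⧸ N) (V.map π) hlt (elementary_map hV π) hVb hsid)
  exact ⟨v, hv, fun e => hv1 (Subtype.ext (by simp [e])), hvO⟩

/-- The quotient by a nontrivial normal subgroup: some involution of `V` nearly centralizes. -/
theorem exists_near (c : Ctx V) (N : Subgroup G) [N.Normal] (hN : N ≠ ⊥)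
    (hNF : N ≤ Cfsg.generalizedFittingSubgroup G) :
    ∃ M : Subgroup G, M.Normal ∧ N ≤ M ∧ M ≤ Cfsg.generalizedFittingSubgroup G ∧
      (∀ m ∈ M, ∃ k, m ^ 2 ^ k ∈ N) ∧
      ∃ v ∈ V, v ≠ 1 ∧ ∀ f ∈ Cfsg.generalizedFittingSubgroup G, ⁅v, f⁆ ∈ M := by
  set F := Cfsg.generalizedFittingSubgroup G
  haveI : F.Normal := by
    show (Cfsg.generalizedFittingSubgroup G).Normal
    infer_instance
  by_cases hVN : ∀ v ∈ V, v ∈ N → v = 1
  swap
  · push Not at hVN
    obtain ⟨v, hv, hvN, hv1⟩ := hVN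
    refine ⟨N, inferInstance, le_rfl, hNF, fun m hm => ⟨0, by rwa [pow_zero, pow_one]⟩, v, hv, hv1, fun f _ => ?_⟩
    rw [commutatorElement_def]
    have := mul_mem hvN (Subgroup.Normal.conj_mem inferInstance _ (inv_mem hvN) f)
    rwa [show v * (f * v⁻¹ * f⁻¹) = v * f * v⁻¹ * f⁻¹ by group] at this
  set π := QuotientGroup.mk' N
  obtain ⟨v, hv, hv1, hvO⟩ := exists_near_quotient c.hV c.hV1 c.hS c.hminG N hN hVN
  refine ⟨(Cfsg.pCore 2 (G ⧸ N)).comap π ⊓ F, inferInstance, le_inf (fun n hn => ?_) hNF, inf_le_right,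
    fun m hm => ?_, v, hv, hv1, fun f hf => ⟨?_, ?_⟩⟩
  · show π n ∈ Cfsg.pCore 2 (G ⧸ N)
    rw [show π n = 1 from (QuotientGroup.eq_one_iff n).2 hn]
    exact one_mem _
  · obtain ⟨k, hk⟩ := Cores.pCore_isPGroup (G := G ⧸ N) 2 ⟨π m, hm.1⟩
    refine ⟨k, (QuotientGroup.eq_one_iff _).1 ?_⟩
    rw [← QuotientGroup.mk'_apply, map_pow]
    exact congrArg Subtype.val hk
  · show π ⁅v, f⁆ ∈ Cfsg.pCore 2 (G ⧸ N)
    rw [map_commutatorElement, commutatorElement_def]
    have := mul_mem hvO (Subgroup.Normal.conj_mem inferInstance _ (inv_mem hvO) (π f))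
    rwa [show π v * (π f * (π v)⁻¹ * (π f)⁻¹) = π v * π f * (π v)⁻¹ * (π f)⁻¹ by group] at this
  · rw [commutatorElement_def]
    exact mul_mem (Subgroup.Normal.conj_mem inferInstance f hf v) (Subgroup.inv_mem _ hf)

omit [Finite G] in
theorem map_conj_of_mem {L : Subgroup G} {g : G} (hg : g ∈ normalizer (L : Set G)) :
    L.map (MulAut.conj g).toMonoidHom = L := mem_normalizer_iff_map_conj_eq.1 hg

/-- An element of order two centralizing modulo fixed elements of odd order centralizes. -/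
theorem stable {v f z : G} (hv : v ^ 2 = 1) (hz : z = ⁅v, f⁆) (hvz : v * z = z * v) (ho : Odd (orderOf z)) :
    v * f = f * v := by
  suffices h : z = 1 by exact commutatorElement_eq_one_iff_mul_comm.1 (hz ▸ h)
  refine LinePair.Sidki.eq_one_of_sq ho ?_
  have e1 : v * f * v⁻¹ = z * f := by rw [hz, commutatorElement_def]; group
  have e2 : f = z * (z * f) := by
    calc f = (v ^ 2) * f * (v ^ 2)⁻¹ := by rw [hv]; group
      _ = v * (v * f * v⁻¹) * v⁻¹ := by rw [pow_two]; group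
      _ = (v * z * v⁻¹) * (v * f * v⁻¹) := by nth_rewrite 1 [e1]; group
      _ = _ := by rw [hvz, mul_inv_cancel_right, e1]
  rw [← mul_assoc] at e2
  exact mul_eq_right.1 e2.symm

theorem fitting_odd (hO : Cfsg.pCore 2 G = ⊥) {f : G} (hf : f ∈ Cfsg.fittingSubgroup G) : Odd (orderOf f) := by
  haveI : Fact (Nat.Prime 2) := ⟨Nat.prime_two⟩
  set F := Cfsg.fittingSubgroup G with hFdef
  haveI : F.Normal := Components.Fitting.fitting_normal
  haveI : Group.IsNilpotent F := Components.Fitting.fitting_isNilpotent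
  by_contra h
  rw [Nat.not_odd_iff_even, even_iff_two_dvd] at h
  obtain ⟨m, hm⟩ := h
  have hpos := orderOf_pos f
  set x : F := ⟨f ^ m, pow_mem hf m⟩
  have hx2 : orderOf x = 2 := by
    rw [← Subgroup.orderOf_coe]
    show orderOf (f ^ m) = 2
    rw [orderOf_pow_of_dvd (by omega) ⟨2, by rw [hm]; ring⟩, hm, Nat.mul_div_cancel _ (by omega)]
  obtain ⟨P, hP⟩ := (IsPGroup.of_card (G := zpowers x) (n := 1) (by rw [Nat.card_zpowers, hx2, pow_one])).exists_le_sylow
  haveI : (P : Subgroup F).Normal :=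
    ((Group.isNilpotent_of_finite_tfae (G := F)).out 0 3 rfl rfl).mp ‹Group.IsNilpotent F› 2 ‹_› P
  have hxb : x ∈ Cfsg.pCore 2 F := Cores.le_pCore P.2 (hP (mem_zpowers x))
  rw [pCore_of_normal hO F, mem_bot] at hxb
  rw [hxb, orderOf_one] at hx2
  norm_num at hx2

theorem fix_eq_one (c : Ctx V) {v : G} (hv : v ∈ V)
    (h : ∀ f ∈ Cfsg.generalizedFittingSubgroup G, v * f = f * v) : v = 1 := by
  set F := Cfsg.generalizedFittingSubgroup G
  haveI : F.Normal := by show (Cfsg.generalizedFittingSubgroup G).Normal; infer_instance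
  have hvC : v ∈ centralizer (F : Set G) := mem_centralizer_iff.2 fun f hf => (h f hf).symm
  set Z := F ⊓ centralizer (F : Set G) with hZ
  haveI : Z.Normal := by rw [hZ]; infer_instance
  haveI : IsMulCommutative Z := isMulCommutative_iff.2 fun a b =>
    Subtype.ext ((mem_centralizer_iff.1 a.2.2 b b.2.1).symm)
  have hvZ : v ∈ Z := ⟨Components.Fitting.centralizer_genFitting_le hvC, hvC⟩
  have ho := fitting_odd c.hO (Components.Fitting.le_fitting (Components.Fitting.isNilpotent_of_isMulCommutative Z) hvZ)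
  exact LinePair.Sidki.eq_one_of_sq ho (by rw [← pow_two]; exact c.hV.2 v hv)

/-- The group is generated by `V` and the generalized Fitting subgroup. -/
theorem sup_eq_top (c : Ctx V) : V ⊔ Cfsg.generalizedFittingSubgroup G = ⊤ := by
  set F := Cfsg.generalizedFittingSubgroup G
  haveI : F.Normal := by show (Cfsg.generalizedFittingSubgroup G).Normal; infer_instance
  set H := V ⊔ F
  by_contra htop
  have hlt : Nat.card H < Nat.card G :=
    lt_of_le_of_ne H.card_le_card_group fun e => htop (Subgroup.eq_top_of_card_eq H e)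
  have hVH : V ≤ H := le_sup_left
  refine c.hminG H (V.subgroupOf H) hlt ?_ (fun h => c.hV1 ?_) ?_ ?_
  · exact ⟨isMulCommutative_iff.2 fun a b => Subtype.ext (Subtype.ext (comm_of_mem c a.2 b.2)),
      fun a ha => Subtype.ext (c.hV.2 _ ha)⟩
  · rw [subgroupOf_eq_bot] at h
    exact eq_bot_iff.2 fun w hw => h.le_bot ⟨hw, hVH hw⟩
  · intro x v hv ho hvx
    obtain ⟨u, hu, hu1, hux⟩ := c.hS x v hv (by rwa [Subgroup.orderOf_coe]) (congrArg Subtype.val hvx)
    exact ⟨⟨u, hVH hu⟩, hu, fun e => hu1 (congrArg Subtype.val e), Subtype.ext hux⟩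
  · rw [eq_bot_iff]
    rintro w ⟨hw, hwO⟩
    refine mem_bot.2 (Subtype.ext (fix_eq_one c hw fun f hf => ?_))
    have hfH : f ∈ H := le_sup_right (a := V) hf
    set u : H := ⁅w, ⟨f, hfH⟩⁆ with hu
    have huO : u ∈ Cfsg.pCore 2 H := by
      rw [hu, commutatorElement_def]
      have := mul_mem hwO (Subgroup.Normal.conj_mem inferInstance _ (Subgroup.inv_mem _ hwO) (⟨f, hfH⟩ : H))
      rwa [show w * ((⟨f, hfH⟩ : H) * w⁻¹ * (⟨f, hfH⟩ : H)⁻¹) = w * ⟨f, hfH⟩ * w⁻¹ * (⟨f, hfH⟩ : H)⁻¹ by group] at this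
    set M := (Cfsg.pCore 2 H).map H.subtype with hM
    have hFM : F ≤ normalizer (M : Set G) := fun x hx => by
      rw [mem_normalizer_iff]
      have hxH : x ∈ H := le_sup_right (a := V) hx
      intro y
      constructor
      · rintro ⟨z, hz, rfl⟩
        exact ⟨⟨x, hxH⟩ * z * ⟨x, hxH⟩⁻¹, Subgroup.Normal.conj_mem inferInstance z hz _, rfl⟩
      · rintro ⟨z, hz, hzy⟩
        refine ⟨⟨x, hxH⟩⁻¹ * z * ⟨x, hxH⟩, ?_, ?_⟩
        · simpa using Subgroup.Normal.conj_mem (inferInstance : (Cfsg.pCore 2 H).Normal) z hz (⟨x, hxH⟩ : H)⁻¹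
        · show x⁻¹ * (z : G) * x = y
          rw [show (z : G) = x * y * x⁻¹ from hzy]
          group
    have hmem : (u : G) ∈ M ⊓ F := by
      refine ⟨⟨u, huO, rfl⟩, ?_⟩
      show (w : G) * f * (w : G)⁻¹ * f⁻¹ ∈ F
      exact mul_mem (Subgroup.Normal.conj_mem inferInstance f hf _) (Subgroup.inv_mem _ hf)
    rw [inf_eq_bot (pCore_of_normal c.hO F) ((Cores.pCore_isPGroup 2).map _) hFM, mem_bot] at hmem
    exact commutatorElement_eq_one_iff_mul_comm.1 (show ⁅(w : G), f⁆ = 1 from hmem)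

/-- Two commuting normal factors are impossible. -/
theorem two_factor (c : Ctx V) (N₁ N₂ : Subgroup G) [N₁.Normal] [N₂.Normal] (hdis : N₁ ⊓ N₂ = ⊥)
    (hsup : N₁ ⊔ N₂ = Cfsg.generalizedFittingSubgroup G) (h1 : N₁ ≠ ⊥) (h2 : N₂ ≠ ⊥) : False := by
  have hd : Disjoint N₁ N₂ := disjoint_iff.2 hdis
  have hcm : ∀ a ∈ N₁, ∀ b ∈ N₂, Commute a b := fun a ha b hb =>
    Subgroup.commute_of_normal_of_disjoint N₁ N₂ inferInstance inferInstance hd a b ha hb
  have hall : ∀ v ∈ V, (∀ a ∈ N₁, v * a = a * v) → (∀ b ∈ N₂, v * b = b * v) → v = 1 := fun v hv e1 e2 =>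
    fix_eq_one c hv fun f hf => by
      rw [← hsup] at hf
      obtain ⟨a, ha, b, hb, rfl⟩ := mem_sup_of_normal_left.1 hf
      exact (show Commute v (a * b) from (show Commute v a from e1 a ha).mul_right (e2 b hb))
  have hnear : ∀ A B : Subgroup G, A.Normal → B.Normal → A ⊓ B = ⊥ →
      A ⊔ B = Cfsg.generalizedFittingSubgroup G → A ≠ ⊥ → ∃ v ∈ V, v ≠ 1 ∧ ∀ b ∈ B, v * b = b * v := by
    intro A B hA hB hAB hABs hA1
    haveI := hA
    haveI := hB
    obtain ⟨M, hM, hAM, hMF, hpow, v, hv, hv1, hvM⟩ := exists_near c A hA1 (hABs ▸ le_sup_left)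
    haveI := hM
    have hMB : M ⊓ B = ⊥ := by
      have h2g : IsPGroup 2 ↥(M ⊓ B) := fun m => by
        obtain ⟨k, hk⟩ := hpow m m.2.1
        refine ⟨k, Subtype.ext ?_⟩
        have : (m : G) ^ 2 ^ k ∈ A ⊓ B := ⟨hk, pow_mem m.2.2 _⟩
        rw [hAB, mem_bot] at this
        exact this
      exact le_bot_iff.1 (c.hO ▸ Cores.le_pCore h2g)
    refine ⟨v, hv, hv1, fun b hb => commutatorElement_eq_one_iff_mul_comm.1 ?_⟩
    have : ⁅v, b⁆ ∈ M ⊓ B := by
      refine ⟨hvM b (hABs ▸ le_sup_right (a := A) hb), ?_⟩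
      rw [commutatorElement_def]
      exact mul_mem (Subgroup.Normal.conj_mem inferInstance b hb v) (B.inv_mem hb)
    rwa [hMB, mem_bot] at this
  set K := V ⊓ centralizer (N₁ : Set G) with hK
  have hK1 : K ≠ ⊥ := by
    obtain ⟨v, hv, hv1, hvb⟩ := hnear N₂ N₁ inferInstance inferInstance (by rw [inf_comm, hdis])
      (by rw [sup_comm, hsup]) h2
    intro e
    have : v ∈ K := ⟨hv, mem_centralizer_iff.2 fun a ha => (hvb a ha).symm⟩
    rw [e, mem_bot] at this
    exact hv1 this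
  have hKN : ∀ w ∈ K, ∀ a ∈ N₁, w * a = a * w := fun w hw a ha => (mem_centralizer_iff.1 hw.2 a ha).symm
  have hKV : K ≠ V := fun e => by
    obtain ⟨v, hv, hv1, hvb⟩ := hnear N₁ N₂ inferInstance inferInstance hdis hsup h1
    exact hv1 (hall v hv (hKN v (e ▸ hv)) hvb)
  have hnorm : ∀ (W N : Subgroup G), N.Normal → W ≤ normalizer (N : Set G) := fun W N hN => by
    rw [normalizer_eq_top_iff.2 hN]
    exact le_top
  obtain ⟨h, hh, hho, v', hv', hvh, hhK⟩ := exists_inverted c K N₂ inf_le_left hKV hK1 (hnorm _ _ inferInstance)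
    (pCore_of_normal c.hO N₂) fun w hw e => hall w hw.1 (hKN w hw) e
  set C := V ⊓ centralizer ({h} : Set G) with hC
  obtain ⟨u₀, hu₀, hu₀1, hu₀h⟩ := c.hS h v' hv'.1 hho hvh
  have hC1 : C ≠ ⊥ := fun e => by
    have : u₀ ∈ C := ⟨hu₀, mem_centralizer_singleton_iff.2 hu₀h⟩
    rw [e, mem_bot] at this
    exact hu₀1 this
  have hCh : ∀ w ∈ C, w * h = h * w := fun w hw => mem_centralizer_singleton_iff.1 hw.2
  have hCV : C ≠ V := fun e => hK1 (eq_bot_iff.2 fun w hw => mem_bot.2 (hhK w hw (hCh w (e ▸ hw.1))))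
  obtain ⟨a, ha, hao, c', hc', hca, haC⟩ := exists_inverted c C N₁ inf_le_left hCV hC1 (hnorm _ _ inferInstance)
    (pCore_of_normal c.hO N₁) fun w hw e =>
      hhK w ⟨hw.1, mem_centralizer_iff.2 fun a ha => (e a ha).symm⟩ (hCh w hw)
  have hy : (v' * c') * (a * h) * (v' * c')⁻¹ = (a * h)⁻¹ := by
    calc (v' * c') * (a * h) * (v' * c')⁻¹ = (v' * (c' * a * c'⁻¹) * v'⁻¹) * (v' * (c' * h * c'⁻¹) * v'⁻¹) := by group
      _ = (v' * a⁻¹ * v'⁻¹) * (v' * h * v'⁻¹) := by rw [hca, hCh c' hc', mul_inv_cancel_right]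
      _ = a⁻¹ * h⁻¹ := by rw [hKN v' hv' _ (N₁.inv_mem ha), mul_inv_cancel_right, hvh]
      _ = (a * h)⁻¹ := by rw [mul_inv_rev, (hcm a ha h hh).inv_inv.eq]
  have hyo : Odd (orderOf (a * h)) :=
    Odd.of_dvd_nat (hao.mul hho) ((hcm a ha h hh).orderOf_mul_dvd_lcm.trans (Nat.lcm_dvd_mul _ _))
  obtain ⟨w, hw, hw1, hwy⟩ := c.hS (a * h) (v' * c') (mul_mem hv'.1 hc'.1) hyo hy
  have e : (w * a * w⁻¹) * (w * h * w⁻¹) = a * h := by
    calc (w * a * w⁻¹) * (w * h * w⁻¹) = w * (a * h) * w⁻¹ := by group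
      _ = a * h := by rw [hwy, mul_inv_cancel_right]
  have e2 : a⁻¹ * (w * a * w⁻¹) = h * (w * h * w⁻¹)⁻¹ := by
    rw [inv_mul_eq_iff_eq_mul, ← mul_assoc, eq_mul_inv_iff_mul_eq]
    exact e
  have hmem : a⁻¹ * (w * a * w⁻¹) ∈ N₁ ⊓ N₂ :=
    ⟨N₁.mul_mem (N₁.inv_mem ha) (Subgroup.Normal.conj_mem inferInstance a ha w), by
      rw [e2]
      exact N₂.mul_mem hh (N₂.inv_mem (Subgroup.Normal.conj_mem inferInstance h hh w))⟩
  rw [hdis, mem_bot] at hmem
  have hwa : w * a = a * w := mul_inv_eq_iff_eq_mul.1 (inv_mul_eq_one.1 hmem).symm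
  have hwh : w * h = h * w := by
    rw [hmem, eq_comm, mul_inv_eq_one] at e2
    exact mul_inv_eq_iff_eq_mul.1 e2.symm
  exact hw1 (haC w ⟨hw, mem_centralizer_singleton_iff.2 hwh⟩ hwa)

/-- A near centralizing involution modulo a subgroup of the Fitting subgroup. -/
theorem exists_near_fitting (c : Ctx V) (N : Subgroup G) [N.Normal] (hN : N ≠ ⊥)
    (hNF : N ≤ Cfsg.fittingSubgroup G) :
    ∃ v ∈ V, v ≠ 1 ∧ ∀ f ∈ Cfsg.generalizedFittingSubgroup G, ⁅v, f⁆ ∈ N := by
  obtain ⟨M, hM, hNM, hMF, hpow, v, hv, hv1, hvM⟩ :=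
    exists_near c N hN (hNF.trans Components.Fitting.fitting_le_genFitting)
  haveI := hM
  have hMsn : M.IsSubnormal := hM.isSubnormal
  have hcen : M ≤ centralizer (Cfsg.layer G : Set G) := by
    refine commutator_eq_bot_iff_le_centralizer.1 ?_
    rw [commutator_comm]
    refine Components.Basic.commutator_layer_eq_bot fun L hL => ?_
    refine (Components.Basic.component_le_or_commutator_eq_bot hL hMsn).resolve_left fun hLM => ?_
    haveI := hL.2.1
    haveI := hL.2.2
    haveI : Group.IsPerfect (L ⧸ Subgroup.center L) :=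
      Group.IsPerfect.ofSurjective (f := QuotientGroup.mk' (Subgroup.center L)) (QuotientGroup.mk'_surjective _)
    have hcz : ∀ l : L, (l : G) ∈ Cfsg.fittingSubgroup G → l ∈ Subgroup.center L := fun l hl => by
      have h := Components.Fitting.component_commutator_fitting hL
      rw [commutator_eq_bot_iff_le_centralizer] at h
      exact mem_center_iff.2 fun k => Subtype.ext ((mem_centralizer_iff.1 (h k.2)) l hl).symm
    have hp : IsPGroup 2 (L ⧸ Subgroup.center L) := fun x => by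
      obtain ⟨l, rfl⟩ := QuotientGroup.mk'_surjective _ x
      obtain ⟨k, hk⟩ := hpow l (hLM l.2)
      refine ⟨k, ?_⟩
      rw [← map_pow]
      exact (QuotientGroup.eq_one_iff _).2 (hcz _ (hNF (by rw [SubmonoidClass.coe_pow]; exact hk)))
    haveI : Fact (Nat.Prime 2) := ⟨Nat.prime_two⟩
    haveI : Group.IsNilpotent (L ⧸ Subgroup.center L) := hp.isNilpotent
    exact Group.IsPerfect.not_isSolvable (L ⧸ Subgroup.center L) inferInstance
  refine ⟨v, hv, hv1, fun f hf => ?_⟩
  have hm := hvM f hf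
  obtain ⟨k, hk⟩ := hpow _ hm
  refine mem_of_pow_mem (fitting_odd c.hO ?_) hk
  haveI : (Cfsg.fittingSubgroup G).Normal := Components.Fitting.fitting_normal
  obtain ⟨e, he, u, hu, heu⟩ := mem_sup_of_normal_right.1
    (show ⁅v, f⁆ ∈ Cfsg.layer G ⊔ Cfsg.fittingSubgroup G from hMF hm)
  rw [← heu]
  refine mul_mem (Components.Fitting.layer_inf_centralizer_le_fitting ⟨he, ?_⟩) hu
  have h1 : e * u ∈ centralizer (Cfsg.layer G : Set G) := hcen (heu ▸ hm)
  have h2 := mul_mem h1 (inv_mem (Components.Fitting.fitting_le_centralizer_layer hu))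
  rwa [mul_inv_cancel_right] at h2

/-- An elementary abelian group faithful on an abelian group of odd order. -/
theorem abelian_case (c : Ctx V) (hlay : Cfsg.layer G = ⊥) (hF1 : Cfsg.fittingSubgroup G ≠ ⊥)
    (hab : ∀ a ∈ Cfsg.fittingSubgroup G, ∀ b ∈ Cfsg.fittingSubgroup G, a * b = b * a) : False := by
  set F := Cfsg.fittingSubgroup G with hFdef
  haveI : F.Normal := Components.Fitting.fitting_normal
  have hgen : Cfsg.generalizedFittingSubgroup G = F := by
    show Cfsg.layer G ⊔ _ = _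
    rw [hlay, bot_sup_eq]
  have htop : V ⊔ F = ⊤ := hgen ▸ sup_eq_top c
  have hnormal : ∀ N : Subgroup G, N ≤ F → (∀ w ∈ V, ∀ n ∈ N, w * n * w⁻¹ ∈ N) → N.Normal := by
    intro N hNF hVN
    refine normalizer_eq_top_iff.1 (eq_top_iff.2 (htop ▸ sup_le (fun w hw => ?_) fun f hf => ?_))
    · refine mem_normalizer_iff.2 fun n => ⟨fun hn => hVN w hw n hn, fun hn => ?_⟩
      have := hVN w hw _ hn
      rwa [show w * (w * n * w⁻¹) * w⁻¹ = (w ^ 2) * n * (w ^ 2)⁻¹ by rw [pow_two]; group, c.hV.2 w hw, one_mul,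
        inv_one, mul_one] at this
    · refine centralizer_le_normalizer (s := (N : Set G)) (mem_centralizer_iff.2 fun n hn => ?_)
      exact hab n (hNF hn) f hf
  have hsplit : ∀ v ∈ V, v ≠ 1 → (∃ f ∈ F, f ≠ 1 ∧ v * f = f * v) → False := by
    rintro v hv hv1 ⟨f0, hf0, hf01, hvf0⟩
    let N₁ : Subgroup G := F ⊓ centralizer {v}
    let N₂ : Subgroup G :=
      { carrier := {f | f ∈ F ∧ v * f * v⁻¹ = f⁻¹}
        one_mem' := ⟨one_mem _, by group⟩
        mul_mem' := by
          rintro a b ⟨ha, ha'⟩ ⟨hb, hb'⟩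
          refine ⟨mul_mem ha hb, ?_⟩
          rw [← conj_mul, ha', hb', mul_inv_rev, hab _ (F.inv_mem ha) _ (F.inv_mem hb)]
        inv_mem' := by
          rintro a ⟨ha, ha'⟩
          exact ⟨inv_mem ha, by rw [← conj_inv, ha']⟩ }
    have hvv : ∀ w ∈ V, w * v = v * w := fun w hw => comm_of_mem c hw hv
    haveI : N₁.Normal := hnormal N₁ inf_le_left fun w hw n hn => by
      refine ⟨Subgroup.Normal.conj_mem inferInstance n hn.1 w, mem_centralizer_singleton_iff.2 ?_⟩
      exact (((show Commute v w from (hvv w hw).symm).mul_right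
        (mem_centralizer_singleton_iff.1 hn.2).symm).mul_right (show Commute v w from (hvv w hw).symm).inv_right).eq.symm
    haveI : N₂.Normal := hnormal N₂ (fun f hf => hf.1) fun w hw n hn => by
      refine ⟨Subgroup.Normal.conj_mem inferInstance n hn.1 w, ?_⟩
      calc v * (w * n * w⁻¹) * v⁻¹ = (v * w) * n * (v * w)⁻¹ := by group
        _ = (w * v) * n * (w * v)⁻¹ := by rw [(hvv w hw)]
        _ = w * (v * n * v⁻¹) * w⁻¹ := by group
        _ = _ := by rw [hn.2]; group
    have hdis : N₁ ⊓ N₂ = ⊥ := eq_bot_iff.2 fun f hf => mem_bot.2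
      (LinePair.Sidki.inverted_not_fixed (fitting_odd c.hO hf.1.1) hf.2.2
        (mem_centralizer_singleton_iff.1 hf.1.2).symm)
    have hsup : N₁ ⊔ N₂ = Cfsg.generalizedFittingSubgroup G := by
      rw [hgen]
      refine le_antisymm (sup_le inf_le_left fun f hf => hf.1) fun f hf => ?_
      set g := v * f * v⁻¹ with hg
      have hgF : g ∈ F := Subgroup.Normal.conj_mem inferInstance f hf v
      have hgg : v * g * v⁻¹ = f := by
        calc v * g * v⁻¹ = v ^ 2 * f * (v ^ 2)⁻¹ := by rw [hg, pow_two]; group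
          _ = f := by rw [c.hV.2 v hv]; group
      have ha : f * g ∈ N₁ := by
        refine ⟨mul_mem hf hgF, mem_centralizer_singleton_iff.2 (Eq.symm ?_)⟩
        refine mul_inv_eq_iff_eq_mul.1 ?_
        rw [← conj_mul, ← hg, hgg, hab g hgF f hf]
      have hb : f * g⁻¹ ∈ N₂ := by
        refine ⟨mul_mem hf (inv_mem hgF), ?_⟩
        rw [← conj_mul, ← conj_inv, ← hg, hgg, mul_inv_rev, inv_inv]
      refine mem_of_pow_mem (fitting_odd c.hO hf) (k := 1) ?_
      rw [pow_one, pow_two]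
      have e : f * f = (f * g) * (f * g⁻¹) := by
        rw [mul_assoc, ← mul_assoc g, hab g hgF f hf]
        group
      rw [e]
      exact mul_mem_sup ha hb
    refine two_factor c N₁ N₂ hdis hsup (fun e => hf01 ?_) (fun e => hv1 (fix_eq_one c hv fun f hf => ?_))
    · have : f0 ∈ N₁ := ⟨hf0, mem_centralizer_singleton_iff.2 hvf0.symm⟩
      rwa [e, mem_bot] at this
    · rw [← hsup, e, sup_bot_eq] at hf
      exact (mem_centralizer_singleton_iff.1 hf.2).symm
  have hinv : ∀ v ∈ V, v ≠ 1 → ∀ f ∈ F, v * f * v⁻¹ = f⁻¹ := by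
    intro v hv hv1 f hf
    by_contra h
    set g := v * f * v⁻¹ with hg
    have hgF : g ∈ F := Subgroup.Normal.conj_mem inferInstance f hf v
    refine hsplit v hv hv1 ⟨f * g, mul_mem hf hgF, fun e => h (eq_inv_of_mul_eq_one_right e), ?_⟩
    refine mul_inv_eq_iff_eq_mul.1 ?_
    calc v * (f * g) * v⁻¹ = g * (v ^ 2 * f * (v ^ 2)⁻¹) := by rw [hg, pow_two]; group
      _ = g * f := by rw [c.hV.2 v hv]; group
      _ = f * g := hab g hgF f hf
  obtain ⟨⟨f, hf⟩, hf1⟩ := Subgroup.ne_bot_iff_exists_ne_one.1 hF1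
  replace hf1 : f ≠ 1 := fun e => hf1 (Subtype.ext e)
  obtain ⟨⟨v, hv⟩, hv1⟩ := Subgroup.ne_bot_iff_exists_ne_one.1 c.hV1
  replace hv1 : v ≠ 1 := fun e => hv1 (Subtype.ext e)
  have ho := fitting_odd c.hO hf
  obtain ⟨w, hw, hw1, hwf⟩ := c.hS f v hv ho (hinv v hv hv1 f hf)
  exact hf1 (LinePair.Sidki.inverted_not_fixed ho (hinv w hw hw1 f hf) hwf)

/-- The Fitting subgroup is trivial. -/
theorem fitting_eq_bot (c : Ctx V) : Cfsg.fittingSubgroup G = ⊥ := by
  by_contra hF1
  set F := Cfsg.fittingSubgroup G with hFdef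
  haveI : F.Normal := Components.Fitting.fitting_normal
  haveI : (Cfsg.layer G).Normal := inferInstance
  by_cases hlay : Cfsg.layer G = ⊥
  · have hgen : Cfsg.generalizedFittingSubgroup G = F := by
      show Cfsg.layer G ⊔ _ = _
      rw [hlay, bot_sup_eq]
    by_cases hab : ∀ a ∈ F, ∀ b ∈ F, a * b = b * a
    · exact abelian_case c hlay hF1 hab
    set D := ⁅F, F⁆ with hD
    set N := D ⊓ centralizer (F : Set G) with hNdef
    haveI : D.Normal := by rw [hD]; infer_instance
    haveI : N.Normal := by rw [hNdef]; infer_instance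
    have hDF : D ≤ F := Subgroup.commutator_le_right _ _
    have hD1 : D ≠ ⊥ := fun e => hab fun a ha b hb => by
      have := Subgroup.commutator_mem_commutator ha hb
      rw [← hD, e, mem_bot] at this
      exact commutatorElement_eq_one_iff_mul_comm.1 this
    have hN1 : N ≠ ⊥ := by
      haveI : Group.IsNilpotent F := Components.Fitting.fitting_isNilpotent
      have hD1' : D.subgroupOf F ≠ ⊥ := fun h => hD1 (by
        rw [subgroupOf_eq_bot] at h
        exact eq_bot_iff.2 fun w hw => h.le_bot ⟨hw, hDF hw⟩)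
      obtain ⟨⟨w, hw⟩, hw1⟩ := Subgroup.ne_bot_iff_exists_ne_one.1
        (Cores.inf_center_ne_bot (N := D.subgroupOf F) hD1')
      intro e
      have : (w : G) ∈ N := ⟨hw.1, mem_centralizer_iff.2 fun f hf =>
        congrArg Subtype.val (mem_center_iff.1 hw.2 ⟨f, hf⟩)⟩
      rw [e, mem_bot] at this
      exact hw1 (Subtype.ext (Subtype.ext this))
    obtain ⟨v, hv, hv1, hvN⟩ := exists_near_fitting c N hN1 (inf_le_left.trans hDF)
    have hz : ∀ f ∈ F, ⁅v, f⁆ ∈ N := fun f hf => hvN f (hgen ▸ hf)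
    have hle : ⁅zpowers v, F⁆ ≤ N := commutator_le.2 fun w hw f hf => by
      obtain ⟨n, rfl⟩ := mem_zpowers_iff.1 hw
      rcases Int.even_or_odd n with ⟨m, rfl⟩ | ⟨m, rfl⟩
      · rw [← two_mul, zpow_mul, zpow_two, ← pow_two, c.hV.2 v hv, one_zpow, commutatorElement_one_left]
        exact one_mem _
      · rw [zpow_add, zpow_mul, zpow_two, ← pow_two, c.hV.2 v hv, one_zpow, one_mul, zpow_one]
        exact hz f hf
    have hNF : ⁅N, F⁆ = ⊥ := commutator_eq_bot_iff_le_centralizer.2 inf_le_right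
    have hfixD : ⁅D, zpowers v⁆ = ⊥ := by
      rw [hD]
      refine commutator_commutator_eq_bot_of_rotate ?_ ?_
      · refine le_bot_iff.1 (le_trans (commutator_mono (?_ : ⁅F, zpowers v⁆ ≤ N) le_rfl) hNF.le)
        rw [commutator_comm]; exact hle
      · exact le_bot_iff.1 (le_trans (commutator_mono hle le_rfl) hNF.le)
    refine hv1 (fix_eq_one c hv fun f hf => ?_)
    have hm := hvN f hf
    refine stable (c.hV.2 v hv) rfl ?_ (fitting_odd c.hO (hDF hm.1))
    rw [commutator_eq_bot_iff_le_centralizer] at hfixD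
    exact mem_centralizer_iff.1 (hfixD hm.1) v (mem_zpowers v)
  · set E := Cfsg.layer G with hE
    by_cases hZ : E ⊓ F = ⊥
    · exact two_factor c F E (by rw [inf_comm, hZ]) (by show F ⊔ E = E ⊔ F; exact sup_comm _ _) hF1 hlay
    obtain ⟨v, hv, hv1, hvN⟩ := exists_near_fitting c (E ⊓ F) hZ inf_le_right
    have hzE : ∀ z ∈ E ⊓ F, ∀ e ∈ E, Commute z e := fun z hz e he =>
      ((mem_centralizer_iff.1 (Components.Fitting.fitting_le_centralizer_layer hz.2)) e he).symm
    have hve : ∀ e ∈ E, v * e = e * v := by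
      have hle : ⁅E, zpowers v⁆ ≤ E ⊓ F := commutator_le.2 fun e he w hw => by
        obtain ⟨n, rfl⟩ := mem_zpowers_iff.1 hw
        rcases Int.even_or_odd n with ⟨m, rfl⟩ | ⟨m, rfl⟩
        · rw [← two_mul, zpow_mul, zpow_two, ← pow_two, c.hV.2 v hv, one_zpow, commutatorElement_one_right]
          exact one_mem _
        · rw [zpow_add, zpow_mul, zpow_two, ← pow_two, c.hV.2 v hv, one_zpow, one_mul, zpow_one]
          have := inv_mem (hvN e (Components.Fitting.layer_le_genFitting he))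
          rwa [commutatorElement_inv] at this
      have h0 : ⁅E ⊓ F, E⁆ = ⊥ := commutator_eq_bot_iff_le_centralizer.2 fun z hz =>
        mem_centralizer_iff.2 fun e he => (hzE z hz e he).eq.symm
      have h := Components.Basic.commutator_eq_bot_of_perfect (M := zpowers v) Components.Basic.commutator_layer_self
        (le_bot_iff.1 (le_trans (commutator_mono hle le_rfl) h0.le))
      rw [commutator_eq_bot_iff_le_centralizer] at h
      exact fun e he => mem_centralizer_iff.1 (h he) v (mem_zpowers v)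
    refine hv1 (fix_eq_one c hv fun f hf => ?_)
    have hm := hvN f hf
    exact stable (c.hV.2 v hv) rfl (hve _ hm.1) (fitting_odd c.hO hm.2)

/-- The conclusion for a minimal counterexample. -/
theorem main (c : Ctx V) : IsSimpleGroup ↥(Cfsg.generalizedFittingSubgroup G) ∧
    ¬ IsMulCommutative ↥(Cfsg.generalizedFittingSubgroup G) ∧ V ⊔ Cfsg.generalizedFittingSubgroup G = ⊤ := by
  classical
  have hF := fitting_eq_bot c
  have hgen : Cfsg.generalizedFittingSubgroup G = Cfsg.layer G := by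
    show Cfsg.layer G ⊔ _ = _
    rw [hF, sup_bot_eq]
  have htop := sup_eq_top c
  obtain ⟨L, hL⟩ : ∃ L : Subgroup G, Cfsg.IsComponent L := by
    by_contra h
    push Not at h
    have hlay := Components.Basic.layer_eq_bot_iff.2 h
    obtain ⟨⟨v, hv⟩, hv1⟩ := Subgroup.ne_bot_iff_exists_ne_one.1 c.hV1
    refine hv1 (Subtype.ext (fix_eq_one c hv fun f hf => ?_))
    rw [hgen, hlay, mem_bot] at hf
    rw [hf, one_mul, mul_one]
  have hdis : ∀ M N : Subgroup G, Cfsg.IsComponent M → Cfsg.IsComponent N → M ≠ N →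
      ∀ a ∈ M, ∀ b ∈ N, Commute a b := fun M N hM hN hne a ha b hb => by
    have h := Components.Basic.component_commutator_eq_bot_of_ne hM hN hne
    rw [commutator_eq_bot_iff_le_centralizer] at h
    exact ((mem_centralizer_iff.1 (h ha)) b hb).symm
  have hcenter : ∀ M : Subgroup G, Cfsg.IsComponent M → Subgroup.center M = ⊥ := by
    intro M hM
    have hle : (Subgroup.center M).map M.subtype ≤ Cfsg.fittingSubgroup G :=
      Components.Fitting.le_fitting_of_isSubnormal
        ((Components.Basic.isSubnormal_map_subtype_iff hM.1 _).mpr (Subgroup.Normal.isSubnormal inferInstance))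
        (@Group.nilpotent_of_mulEquiv _ _ _ _ (Components.Fitting.isNilpotent_of_isMulCommutative (Subgroup.center M))
          (equivMapOfInjective _ M.subtype M.subtype_injective))
    rw [hF, le_bot_iff, Subgroup.map_eq_bot_iff_of_injective _ M.subtype_injective] at hle
    exact hle
  have hsimple : ∀ M : Subgroup G, Cfsg.IsComponent M → IsSimpleGroup M := by
    intro M hM
    haveI := hM.2.2
    haveI : Nontrivial M := Components.Basic.quasisimple_nontrivial hM.2
    exact ((QuotientGroup.quotientMulEquivOfEq (hcenter M hM)).trans QuotientGroup.quotientBot).symm.isSimpleGroup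
  have hinter : ∀ M N : Subgroup G, Cfsg.IsComponent M → Cfsg.IsComponent N → M ≠ N →
      ∀ a, a ∈ M → a ∈ N → a = 1 := by
    intro M N hM hN hne a ha ha'
    have : (⟨a, ha⟩ : M) ∈ Subgroup.center M :=
      mem_center_iff.2 fun k => Subtype.ext (hdis M N hM hN hne k k.2 a ha')
    rw [hcenter M hM, mem_bot] at this
    exact congrArg Subtype.val this
  have hnormL : ∀ M : Subgroup G, Cfsg.IsComponent M →
      Cfsg.generalizedFittingSubgroup G ≤ normalizer (M : Set G) := fun M hM => by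
    rw [hgen]
    exact Components.Basic.layer_le_normalizer hM
  -- all components are conjugate
  let P : Subgroup G → Prop := fun M => ∃ g : G, L.map (MulAut.conj g).toMonoidHom = M
  have hPiff : ∀ M, ∀ g : G, P (M.map (MulAut.conj g).toMonoidHom) ↔ P M := by
    intro M g
    constructor
    · rintro ⟨k, hk⟩
      refine ⟨g⁻¹ * k, ?_⟩
      rw [← Involutions.BaerSuzuki.map_conj_map_conj, hk, Involutions.BaerSuzuki.map_conj_map_conj, inv_mul_cancel]
      ext x
      simp
    · rintro ⟨k, rfl⟩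
      exact ⟨g * k, (Involutions.BaerSuzuki.map_conj_map_conj L k g).symm⟩
  have hnormal : ∀ Q : Subgroup G → Prop, (∀ M g, Q M → Q (M.map (MulAut.conj g).toMonoidHom)) →
      (sSup {M : Subgroup G | Cfsg.IsComponent M ∧ Q M}).Normal := fun Q hQ =>
    ⟨fun x hx g => by
      have hle : sSup {M : Subgroup G | Cfsg.IsComponent M ∧ Q M} ≤
          (sSup {M : Subgroup G | Cfsg.IsComponent M ∧ Q M}).comap (MulAut.conj g).toMonoidHom :=
        sSup_le fun M hM => map_le_iff_le_comap.1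
          (le_sSup ⟨Components.Basic.component_conj hM.1 g, hQ M g hM.2⟩)
      exact hle hx⟩
  have hall : ∀ M, Cfsg.IsComponent M → P M := by
    by_contra h
    push Not at h
    obtain ⟨M₀, hM₀, hM₀P⟩ := h
    set N₁ := sSup {M : Subgroup G | Cfsg.IsComponent M ∧ P M} with hN₁
    set N₂ := sSup {M : Subgroup G | Cfsg.IsComponent M ∧ ¬ P M} with hN₂
    haveI h1n : N₁.Normal := hnormal P fun M g h => (hPiff M g).2 h
    haveI h2n : N₂.Normal := hnormal (fun M => ¬ P M) fun M g h => fun e => h ((hPiff M g).1 e)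
    have hsup : N₁ ⊔ N₂ = Cfsg.generalizedFittingSubgroup G := by
      rw [hgen]
      refine le_antisymm (sup_le (sSup_le fun M hM => Components.Basic.le_layer hM.1)
        (sSup_le fun M hM => Components.Basic.le_layer hM.1)) (Components.Basic.layer_le fun M hM => ?_)
      by_cases hp : P M
      · exact le_sup_of_le_left (le_sSup ⟨hM, hp⟩)
      · exact le_sup_of_le_right (le_sSup ⟨hM, hp⟩)
    have hcomm : N₁ ≤ centralizer (N₂ : Set G) := by
      refine sSup_le fun M hM => ?_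
      rw [Subgroup.le_centralizer_iff]
      refine sSup_le fun N hN => ?_
      exact fun b hb => mem_centralizer_iff.2 fun a ha =>
        (hdis M N hM.1 hN.1 (fun e => hN.2 (e ▸ hM.2)) a ha b hb).eq
    have hdis' : N₁ ⊓ N₂ = ⊥ := by
      haveI : IsMulCommutative (N₁ ⊓ N₂ : Subgroup G) := isMulCommutative_iff.2 fun a b =>
        Subtype.ext ((mem_centralizer_iff.1 (hcomm a.2.1)) b b.2.2).symm
      exact le_bot_iff.1 (hF ▸ Components.Fitting.le_fitting (Components.Fitting.isNilpotent_of_isMulCommutative _))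
    refine two_factor c N₁ N₂ hdis' hsup (fun e => ?_) (fun e => ?_)
    · exact Components.Basic.component_ne_bot hL
        (le_bot_iff.1 (e ▸ le_sSup ⟨hL, 1, by ext x; simp⟩))
    · exact Components.Basic.component_ne_bot hM₀ (le_bot_iff.1 (e ▸ le_sSup ⟨hM₀, hM₀P⟩))
  have hallV : ∀ M, Cfsg.IsComponent M → ∃ v ∈ V, L.map (MulAut.conj v).toMonoidHom = M := by
    intro M hM
    obtain ⟨g, rfl⟩ := hall M hM
    have hg : g ∈ V ⊔ Cfsg.generalizedFittingSubgroup G := htop ▸ mem_top g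
    haveI : (Cfsg.generalizedFittingSubgroup G).Normal := inferInstance
    obtain ⟨v, hv, f, hf, rfl⟩ := mem_sup_of_normal_right.1 hg
    exact ⟨v, hv, by rw [← Involutions.BaerSuzuki.map_conj_map_conj, map_conj_of_mem (hnormL L hL hf)]⟩
  by_cases huniq : ∀ M, Cfsg.IsComponent M → M = L
  · have hE : Cfsg.generalizedFittingSubgroup G = L := by
      rw [hgen]
      exact le_antisymm (Components.Basic.layer_le fun M hM => (huniq M hM).le) (Components.Basic.le_layer hL)
    refine ⟨hE ▸ hsimple L hL, fun h => ?_, htop⟩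
    rw [hE] at h
    exact Components.Basic.quasisimple_center_ne_top hL.2
      (eq_top_iff.2 fun u _ => mem_center_iff.2 fun v => mul_comm' v u)
  exfalso
  push Not at huniq
  obtain ⟨M₁, hM₁, hM₁L⟩ := huniq
  set B := V ⊓ normalizer (L : Set G) with hB
  have hBV : B ≠ V := fun e => by
    obtain ⟨v, hv, hvM⟩ := hallV M₁ hM₁
    exact hM₁L (hvM ▸ map_conj_of_mem (e ▸ hv : v ∈ B).2)
  have hfix : ∀ u ∈ V, ∀ h ∈ L, h ≠ 1 → u * h = h * u → u ∈ B := by
    intro u hu h hh hh1 huh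
    refine ⟨hu, mem_normalizer_iff_map_conj_eq.2 ?_⟩
    by_contra hne
    exact hh1 (hinter _ L (Components.Basic.component_conj hL u) hL hne h
      ⟨h, hh, by show u * h * u⁻¹ = h; rw [huh, mul_inv_cancel_right]⟩ hh)
  have hpcore : Cfsg.pCore 2 L = ⊥ := by
    haveI := hsimple L hL
    refine (IsSimpleGroup.eq_bot_or_eq_top_of_normal _ inferInstance).resolve_right fun e => ?_
    have h2 : IsPGroup 2 L := (e ▸ Cores.pCore_isPGroup (G := L) 2).of_equiv topEquiv
    haveI : Fact (Nat.Prime 2) := ⟨Nat.prime_two⟩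
    haveI := h2.isNilpotent
    exact Components.Basic.component_not_isSolvable hL inferInstance
  by_cases hB1 : B = ⊥
  · -- regular action
    obtain ⟨⟨a, ha⟩, ha1⟩ := Subgroup.ne_bot_iff_exists_ne_one.1 c.hV1
    replace ha1 : a ≠ 1 := fun e => ha1 (Subtype.ext e)
    obtain ⟨k, hkL, hko, hk1⟩ : ∃ k ∈ L, Odd (orderOf k) ∧ k ≠ 1 := by
      by_contra hno
      push Not at hno
      have h2 : IsPGroup 2 L := fun x => by
        obtain ⟨e, m, hm, hem⟩ := Nat.exists_eq_two_pow_mul_odd (orderOf_pos (x : G)).ne'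
        refine ⟨e, Subtype.ext ?_⟩
        rw [SubmonoidClass.coe_pow]
        refine hno _ (pow_mem x.2 _) ?_
        rw [orderOf_pow' _ (by positivity), hem, Nat.gcd_mul_right_left, Nat.mul_div_cancel_left m (by positivity)]
        exact hm
      haveI : Fact (Nat.Prime 2) := ⟨Nat.prime_two⟩
      haveI := h2.isNilpotent
      exact Components.Basic.component_not_isSolvable hL inferInstance
    have hnotB : ∀ u ∈ V, u ≠ 1 → L.map (MulAut.conj u).toMonoidHom ≠ L := fun u hu hu1 e => by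
      have : u ∈ B := ⟨hu, mem_normalizer_iff_map_conj_eq.2 e⟩
      rw [hB1, mem_bot] at this
      exact hu1 this
    set M := L.map (MulAut.conj a).toMonoidHom with hMdef
    have hM : Cfsg.IsComponent M := Components.Basic.component_conj hL a
    have hML : M ≠ L := hnotB a ha ha1
    set k' := a * k⁻¹ * a⁻¹ with hk'
    have hk'M : k' ∈ M := ⟨k⁻¹, inv_mem hkL, rfl⟩
    have hck : Commute k k' := hdis L M hL hM hML.symm k hkL k' hk'M
    set h := k * k' with hh
    have hho : Odd (orderOf h) := by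
      refine Odd.of_dvd_nat (hko.mul ?_) (hck.orderOf_mul_dvd_lcm.trans (Nat.lcm_dvd_mul _ _))
      rw [hk', Involutions.Basic.orderOf_conj, orderOf_inv]
      exact hko
    have hah : a * h * a⁻¹ = h⁻¹ := by
      have haa : a * k' * a⁻¹ = k⁻¹ := by
        calc a * k' * a⁻¹ = a ^ 2 * k⁻¹ * (a ^ 2)⁻¹ := by rw [hk', pow_two]; group
          _ = _ := by rw [c.hV.2 a ha]; group
      calc a * h * a⁻¹ = (a * k * a⁻¹) * (a * k' * a⁻¹) := by rw [hh]; group
        _ = k'⁻¹ * k⁻¹ := by rw [haa, hk']; group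
        _ = _ := by rw [hh]; exact (mul_inv_rev k k').symm
    obtain ⟨u, hu, hu1, huh⟩ := c.hS h a ha hho hah
    have hua : u ≠ a := fun e => hk1 (by
      have := LinePair.Sidki.inverted_not_fixed hho hah (e ▸ huh)
      rw [hh, mul_eq_one_iff_eq_inv] at this
      exact hinter L M hL hM hML.symm k hkL (this ▸ inv_mem hk'M))
    have hL' := Components.Basic.component_conj hL u
    have hM' : Cfsg.IsComponent (M.map (MulAut.conj u).toMonoidHom) := Components.Basic.component_conj hM u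
    have hM'L : M.map (MulAut.conj u).toMonoidHom ≠ L := by
      rw [hMdef, Involutions.BaerSuzuki.map_conj_map_conj]
      refine hnotB _ (mul_mem hu ha) fun e => hua ?_
      rw [mul_eq_one_iff_eq_inv, inv_of_mem c ha] at e
      exact e
    -- `h` centralizes `L`
    have hhL : ∀ l ∈ L, Commute l h := fun l hl => by
      have e : h = (u * k * u⁻¹) * (u * k' * u⁻¹) := by
        rw [conj_mul, ← hh, huh, mul_inv_cancel_right]
      rw [e]
      exact (hdis L _ hL hL' (hnotB u hu hu1).symm l hl _ ⟨k, hkL, rfl⟩).mul_right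
        (hdis L _ hL hM' hM'L.symm l hl _ ⟨k', hk'M, rfl⟩)
    have : (⟨k, hkL⟩ : L) ∈ Subgroup.center L := mem_center_iff.2 fun l => Subtype.ext (by
      have h1 := (hhL l l.2).mul_right (hdis L M hL hM hML.symm l l.2 k' hk'M).inv_right
      rw [hh, mul_inv_cancel_right] at h1
      exact h1.eq)
    rw [hcenter L hL, mem_bot] at this
    exact hk1 (congrArg Subtype.val this)
  · obtain ⟨h, hh, hho, v, hv, hvh, hBh⟩ := exists_inverted c B L inf_le_left hBV hB1 inf_le_right hpcore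
      (fun w hw e => fix_eq_one c hw.1 fun f hf => by
        have hle : Cfsg.layer G ≤ centralizer ({w} : Set G) := by
          refine Components.Basic.layer_le fun M hM => ?_
          obtain ⟨x, hx, rfl⟩ := hallV M hM
          rintro _ ⟨l, hl, rfl⟩
          refine mem_centralizer_singleton_iff.2 ?_
          have hwx : Commute w x := comm_of_mem c hw.1 hx
          exact ((hwx.mul_right (show Commute w l from e l hl)).mul_right hwx.inv_right).eq.symm
        rw [hgen] at hf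
        exact (mem_centralizer_singleton_iff.1 (hle hf)).symm)
    have hh1 : h ≠ 1 := fun e => hB1 (eq_bot_iff.2 fun w hw => mem_bot.2 (hBh w hw (by rw [e, one_mul, mul_one])))
    obtain ⟨u, hu, hu1, huh⟩ := c.hS h v hv.1 hho hvh
    exact hu1 (hBh u (hfix u hu h hh hh1 huh) huh)

/-- The largest normal `2`-subgroup of a minimal counterexample is trivial. -/
theorem pCore_trivial {V : Subgroup G} (hV : Cfsg.IsElementaryAbelian 2 V) (hV1 : V ≠ ⊥) (hS : Cfsg.IsSidkiPair V)
    (hVO : V ⊓ Cfsg.pCore 2 G = ⊥)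
    (hminG : ∀ (H : Type u) [Group H] [Finite H] (W : Subgroup H), Nat.card H < Nat.card G →
      Cfsg.IsElementaryAbelian 2 W → W ≠ ⊥ → Cfsg.IsSidkiPair W → W ⊓ Cfsg.pCore 2 H ≠ ⊥) :
    Cfsg.pCore 2 G = ⊥ := by
  by_contra hne
  set Q := Cfsg.pCore 2 G with hQ
  haveI : Q.Normal := Cores.pCore_normal 2
  have hVQ : ∀ v ∈ V, v ∈ Q → v = 1 := fun v hv hvQ => mem_bot.1 (hVO ▸ ⟨hv, hvQ⟩)
  obtain ⟨v, hv, hv1, hvO⟩ := exists_near_quotient hV hV1 hS hminG Q hne hVQ
  refine hv1 (hVQ v hv (Cores.le_pCore (N := (Cfsg.pCore 2 (G ⧸ Q)).comap (QuotientGroup.mk' Q)) ?_ hvO))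
  exact (Cores.pCore_isPGroup 2).comap_of_ker_isPGroup _
    (by rw [QuotientGroup.ker_mk']; exact Cores.pCore_isPGroup 2)

end Cfsg.Agent.Techniques.SidkiMinimal
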