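import Mathlib
import Cfsg.Agent.Lib.LargeExtra.ExtFormTypes

/-!
The signed monomial representation of the extraspecial group of plus type and its normalizer in
the real orthogonal group.
-/

set_option autoImplicit false

namespace Cfsg.Agent.Techniques.PlusExtension

open Matrix LargeExtra.ExtForm

variable {n : ℕ}

/-- The index set of the representation. -/
abbrev V (n : ℕ) := Fin n → ZMod 2

/-- The sign of a bit. -/
noncomputable def sgn (a : ZMod 2) : ℝ := if a = 0 then 1 else -1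

theorem vadd_self {m : Type*} (a : m → ZMod 2) : a + a = 0 := funext fun _ => CharTwo.add_self_eq_zero _

theorem eq_of_vadd {m : Type*} {a b : m → ZMod 2} (h : a + b = 0) : a = b :=
  funext fun k => CharTwo.add_eq_zero.mp (congrFun h k)

theorem sgn_add (a b : ZMod 2) : sgn (a + b) = sgn a * sgn b := by
  revert a b
  have h : ∀ a b : ZMod 2, (a = 0 ∨ a = 1) ∧ (b = 0 ∨ b = 1) := by decide
  intro a b
  obtain ⟨rfl | rfl, rfl | rfl⟩ := h a b <;> simp [sgn, show (1 : ZMod 2) + 1 = 0 from rfl]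

theorem sgn_zero : sgn 0 = 1 := if_pos rfl

theorem sgn_one : sgn 1 = -1 := if_neg one_ne_zero

theorem sgn_sq (a : ZMod 2) : sgn a * sgn a = 1 := by
  rw [← sgn_add, CharTwo.add_self_eq_zero, sgn_zero]

theorem sgn_ne (a : ZMod 2) : sgn a ≠ 0 := by
  intro h
  simpa [h] using sgn_sq a

theorem sgn_injective {a b : ZMod 2} (h : sgn a = sgn b) : a = b := by
  have hab : sgn (a + b) = 1 := by rw [sgn_add, h, sgn_sq]
  by_contra hne
  have : a + b = 1 := by
    rcases LargeExtra.AffineLinear.zmod_two_cases (a + b) with e | e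
    · exact absurd (CharTwo.add_eq_zero.mp e) hne
    · exact e
  rw [this, sgn_one] at hab
  norm_num at hab

/-- The translation part. -/
def tp (v : Fin n ⊕ Fin n → ZMod 2) : V n := fun i => v (.inr i)

/-- The character part. -/
def fp (v : Fin n ⊕ Fin n → ZMod 2) : V n := fun i => v (.inl i)

theorem β_plus' (v w : Fin n ⊕ Fin n → ZMod 2) : β (Bplus n) v w = fp v ⬝ᵥ tp w := β_plus v w

theorem tp_add (v w : Fin n ⊕ Fin n → ZMod 2) : tp (v + w) = tp v + tp w := rfl

theorem fp_add (v w : Fin n ⊕ Fin n → ZMod 2) : fp (v + w) = fp v + fp w := rfl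

theorem tp_zero : tp (0 : Fin n ⊕ Fin n → ZMod 2) = 0 := rfl

theorem fp_zero : fp (0 : Fin n ⊕ Fin n → ZMod 2) = 0 := rfl

/-- The signed monomial matrix of an element. -/
noncomputable def rep (x : Ext (Bplus n)) : Matrix (V n) (V n) ℝ :=
  fun i j => if i = j + tp x.v then sgn (x.a + fp x.v ⬝ᵥ j) else 0

theorem rep_mulVec (x : Ext (Bplus n)) (u : V n → ℝ) (i : V n) :
    (rep x *ᵥ u) i = sgn (x.a + fp x.v ⬝ᵥ (i + tp x.v)) * u (i + tp x.v) := by
  rw [mulVec, dotProduct, Finset.sum_eq_single (i + tp x.v)]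
  · rw [rep, if_pos (by rw [add_assoc, vadd_self, add_zero])]
  · intro j _ hj
    rw [rep, if_neg, zero_mul]
    intro h
    exact hj (by rw [h, add_assoc, vadd_self, add_zero])
  · intro h; exact absurd (Finset.mem_univ _) h

theorem rep_one : rep (1 : Ext (Bplus n)) = 1 := by
  ext i j
  rw [rep, one_v, one_a, tp_zero, fp_zero, add_zero, zero_dotProduct, add_zero, sgn_zero,
    Matrix.one_apply]

theorem rep_mul (x y : Ext (Bplus n)) : rep (x * y) = rep x * rep y := by
  refine Matrix.toLin'.injective (LinearMap.ext fun u => funext fun i => ?_)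
  rw [toLin'_apply, toLin'_apply, ← mulVec_mulVec, rep_mulVec, rep_mulVec, rep_mulVec, mul_v,
    mul_a, tp_add, fp_add, β_plus', ← mul_assoc, ← sgn_add, ← add_assoc i]
  congr 2
  simp only [dotProduct_add, add_dotProduct]
  have h2 := CharTwo.add_self_eq_zero (fp x.v ⬝ᵥ tp y.v)
  linear_combination h2

/-- The representation as a monoid homomorphism. -/
noncomputable def repHom (n : ℕ) : Ext (Bplus n) →* Matrix (V n) (V n) ℝ where
  toFun := rep
  map_one' := rep_one
  map_mul' := rep_mul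

theorem rep_center (c : ZMod 2) : rep (⟨c, 0⟩ : Ext (Bplus n)) = sgn c • 1 := by
  ext i j
  rw [rep, tp_zero, fp_zero, add_zero, zero_dotProduct, add_zero, Matrix.smul_apply,
    Matrix.one_apply, smul_eq_mul, mul_ite, mul_one, mul_zero]

theorem rep_orth (x : Ext (Bplus n)) : (rep x)ᵀ * rep x = 1 := by
  ext i j
  rw [Matrix.mul_apply, Finset.sum_eq_single (i + tp x.v)]
  · rw [transpose_apply, rep, if_pos rfl, Matrix.one_apply, rep]
    by_cases h : i = j
    · rw [if_pos h, if_pos (by rw [h]), h, sgn_sq]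
    · rw [if_neg h, if_neg (fun e => h (add_right_cancel e)), mul_zero]
  · intro k _ hk
    rw [transpose_apply, rep, if_neg hk, zero_mul]
  · intro h; exact absurd (Finset.mem_univ _) h

theorem rep_injective : Function.Injective (rep : Ext (Bplus n) → Matrix (V n) (V n) ℝ) := by
  intro x y h
  have ht : tp x.v = tp y.v := by
    by_contra hne
    have h1 := congrFun (congrFun h (tp x.v)) 0
    rw [rep, rep, zero_add, zero_add, if_pos rfl, if_neg hne] at h1
    exact sgn_ne _ h1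
  have hj : ∀ j, x.a + fp x.v ⬝ᵥ j = y.a + fp y.v ⬝ᵥ j := fun j => by
    have h1 := congrFun (congrFun h (j + tp x.v)) j
    rw [rep, rep, if_pos rfl, ← ht, if_pos rfl] at h1
    exact sgn_injective h1
  have ha : x.a = y.a := by simpa using hj 0
  refine Ext.ext ha (funext fun k => ?_)
  rcases k with i | i
  · have := hj (Pi.single i 1)
    rw [ha, add_right_inj, dotProduct_single_one, dotProduct_single_one] at this
    exact this
  · exact congrFun ht i

theorem exists_dot_ne_zero {f : V n} (hf : f ≠ 0) : ∃ j : V n, f ⬝ᵥ j = 1 := by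
  obtain ⟨i, hi⟩ := Function.ne_iff.1 hf
  refine ⟨Pi.single i 1, ?_⟩
  rw [dotProduct_single_one]
  rcases LargeExtra.AffineLinear.zmod_two_cases (f i) with e | e
  · exact absurd e hi
  · exact e

theorem trace_rep {x : Ext (Bplus n)} (hx : x.v ≠ 0) : (rep x).trace = 0 := by
  by_cases ht : tp x.v = 0
  · have hf : fp x.v ≠ 0 := fun hf => hx (funext fun k => by
      rcases k with i | i
      · exact congrFun hf i
      · exact congrFun ht i)
    obtain ⟨j, hj⟩ := exists_dot_ne_zero hf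
    have key : ∑ i : V n, sgn (x.a + fp x.v ⬝ᵥ i) = -∑ i : V n, sgn (x.a + fp x.v ⬝ᵥ i) := by
      rw [← Finset.sum_neg_distrib]
      refine Fintype.sum_equiv (Equiv.addRight j) _ _ fun i => ?_
      rw [Equiv.coe_addRight, dotProduct_add, hj, ← add_assoc, sgn_add (x.a + _) 1, sgn_one, mul_neg,
        mul_one, neg_neg]
    have : (rep x).trace = ∑ i : V n, sgn (x.a + fp x.v ⬝ᵥ i) := by
      refine Finset.sum_congr rfl fun i _ => ?_
      rw [Matrix.diag_apply, rep, ht, add_zero, if_pos rfl]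
    rw [this]
    linarith
  · refine Finset.sum_eq_zero fun i _ => ?_
    rw [Matrix.diag_apply, rep, if_neg (fun h => ht (add_eq_left.mp h.symm))]

/-- The element with character part `f`. -/
def df (f : V n) : Ext (Bplus n) := ⟨0, Sum.elim f 0⟩

/-- The element with translation part `p`. -/
def tr (p : V n) : Ext (Bplus n) := ⟨0, Sum.elim 0 p⟩

theorem df_mul (f g : V n) : df f * df g = df (f + g) := by
  refine Ext.ext ?_ ?_
  · rw [mul_a, β_plus']
    show (0 : ZMod 2) + 0 + f ⬝ᵥ 0 = 0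
    rw [dotProduct_zero, add_zero, add_zero]
  · funext k; rcases k with i | i
    · rfl
    · exact add_zero _

theorem df_tr (f p : V n) : df f * tr p = ⟨f ⬝ᵥ p, Sum.elim f p⟩ := by
  refine Ext.ext ?_ ?_
  · rw [mul_a, β_plus']
    show (0 : ZMod 2) + 0 + f ⬝ᵥ p = f ⬝ᵥ p
    rw [add_zero, zero_add]
  · funext k; rcases k with i | i
    · exact add_zero _
    · exact zero_add _

theorem tr_df (f p : V n) : tr p * df f = ⟨0, Sum.elim f p⟩ := by
  refine Ext.ext ?_ ?_
  · rw [mul_a, β_plus']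
    show (0 : ZMod 2) + 0 + (0 : V n) ⬝ᵥ 0 = 0
    rw [dotProduct_zero, add_zero, add_zero]
  · funext k; rcases k with i | i
    · exact zero_add _
    · exact add_zero _

theorem mul_tr (x : Ext (Bplus n)) (y : V n) :
    x * tr y = (⟨x.a + fp x.v ⬝ᵥ y, 0⟩ : Ext (Bplus n)) * (tr (y + tp x.v) * df (fp x.v)) := by
  rw [tr_df]
  refine Ext.ext ?_ ?_
  · rw [mul_a, mul_a, β_plus', β_plus', fp_zero, zero_dotProduct, add_zero, add_zero]
    show x.a + 0 + fp x.v ⬝ᵥ y = x.a + fp x.v ⬝ᵥ y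
    rw [add_zero]
  · rw [mul_v, mul_v, zero_add]
    funext k; rcases k with i | i
    · exact add_zero _
    · exact add_comm _ _

/-- Any automorphism of the extension is induced by an orthogonal matrix. -/
theorem exists_intertwiner (φ : MulAut (Ext (Bplus n))) :
    ∃ M : Matrix (V n) (V n) ℝ, Mᵀ * M = 1 ∧ ∀ x, M * rep x = rep (φ x) * M := by
  have hB := nondeg_plus n
  set σ : Ext (Bplus n) →* Matrix (V n) (V n) ℝ := (repHom n).comp φ.toMonoidHom with hσ
  have hσc : ∀ c, σ ⟨c, 0⟩ = sgn c • 1 := fun c => by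
    show rep (φ ⟨c, 0⟩) = _
    rcases LargeExtra.AffineLinear.zmod_two_cases c with rfl | rfl
    · rw [show (⟨0, 0⟩ : Ext (Bplus n)) = 1 from rfl, map_one, rep_one, sgn_zero, one_smul]
    · rw [show φ ⟨1, 0⟩ = ⟨1, 0⟩ from φ_zz hB φ, rep_center]
  set P := ∑ f : V n, σ (df f) with hP
  have htr : P.trace ≠ 0 := by
    rw [hP, Matrix.trace_sum, Finset.sum_eq_single 0]
    · rw [show df (0 : V n) = 1 from Ext.ext rfl (funext fun k => by rcases k with i | i <;> rfl),
        map_one, Matrix.trace_one]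
      exact_mod_cast (Fintype.card_pos (α := V n)).ne'
    · intro f _ hf
      refine trace_rep fun h => hf ?_
      rcases eq_or_eq_of_v (x := φ (df f)) h with h1 | h1
      · have := (φ.map_eq_one_iff).mp h1
        exact congrArg (fun x : Ext (Bplus n) => fp x.v) this
      · have := φ.injective (h1.trans (φ_zz hB φ).symm)
        exact congrArg (fun x : Ext (Bplus n) => fp x.v) this
    · intro h; exact absurd (Finset.mem_univ _) h
  obtain ⟨y₀, hy₀⟩ : ∃ y₀, (fun i => P i y₀) ≠ 0 := by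
    by_contra h
    push Not at h
    exact htr (Finset.sum_eq_zero fun i _ => congrFun (h i) i)
  set v : V n → ℝ := fun i => P i y₀ with hv
  have hfix : ∀ g, σ (df g) *ᵥ v = v := by
    intro g
    have hgP : σ (df g) * P = P := by
      rw [hP, Finset.mul_sum]
      refine Fintype.sum_equiv (Equiv.addLeft g) _ _ fun f => ?_
      rw [← map_mul, df_mul, Equiv.coe_addLeft]
    exact funext fun i => congrFun (congrFun hgP i) y₀
  have hpos : 0 < v ⬝ᵥ v := by
    obtain ⟨i, hi⟩ := Function.ne_iff.1 hy₀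
    refine Finset.sum_pos' (fun j _ => mul_self_nonneg (v j)) ⟨i, Finset.mem_univ _, ?_⟩
    exact mul_self_pos.mpr hi
  set u : V n → ℝ := (Real.sqrt (v ⬝ᵥ v))⁻¹ • v with hu
  have hu1 : u ⬝ᵥ u = 1 := by
    rw [hu, smul_dotProduct, dotProduct_smul, smul_eq_mul, smul_eq_mul, ← mul_assoc, ← mul_inv,
      Real.mul_self_sqrt hpos.le, inv_mul_cancel₀ hpos.ne']
  have hufix : ∀ g, σ (df g) *ᵥ u = u := fun g => by rw [hu, mulVec_smul, hfix]
  have horth : ∀ x a b, (σ x *ᵥ a) ⬝ᵥ (σ x *ᵥ b) = a ⬝ᵥ b := fun x a b => by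
    rw [dotProduct_mulVec, ← mulVec_transpose, mulVec_mulVec,
      show (σ x)ᵀ * σ x = 1 from rep_orth _, one_mulVec]
  set M : Matrix (V n) (V n) ℝ := fun i y => (σ (tr y) *ᵥ u) i with hM
  have heig : ∀ f y, σ (df f) *ᵥ (σ (tr y) *ᵥ u) = sgn (f ⬝ᵥ y) • (σ (tr y) *ᵥ u) := by
    intro f y
    have : df f * tr y = ⟨f ⬝ᵥ y, 0⟩ * (tr y * df f) := by
      rw [tr_df, df_tr]
      refine Ext.ext ?_ ?_
      · rw [mul_a, β_plus', fp_zero, zero_dotProduct, add_zero, add_zero]
      · rw [mul_v, zero_add]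
    rw [mulVec_mulVec, ← map_mul, this, map_mul, hσc, map_mul, smul_mul, Matrix.one_mul,
      smul_mulVec, ← mulVec_mulVec, hufix]
  refine ⟨M, ?_, fun x => ?_⟩
  · ext y z
    show (σ (tr y) *ᵥ u) ⬝ᵥ (σ (tr z) *ᵥ u) = _
    rw [Matrix.one_apply]
    by_cases hyz : y = z
    · rw [if_pos hyz, hyz, horth, hu1]
    · rw [if_neg hyz]
      obtain ⟨f, hf⟩ := exists_dot_ne_zero (f := y + z) (fun h => hyz (eq_of_vadd h))
      have h := horth (df f) (σ (tr y) *ᵥ u) (σ (tr z) *ᵥ u)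
      rw [heig, heig, smul_dotProduct, dotProduct_smul, smul_eq_mul, smul_eq_mul, ← mul_assoc,
        ← sgn_add, ← dotProduct_add, dotProduct_comm f, hf, sgn_one] at h
      linarith
  · ext i y
    have hl : (M * rep x) i y = sgn (x.a + fp x.v ⬝ᵥ y) * M i (y + tp x.v) := by
      rw [Matrix.mul_apply, Finset.sum_eq_single (y + tp x.v)]
      · rw [rep, if_pos rfl, mul_comm]
      · intro k _ hk; rw [rep, if_neg hk, mul_zero]
      · intro h; exact absurd (Finset.mem_univ _) h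
    have hr : (rep (φ x) * M) i y = (σ x *ᵥ (σ (tr y) *ᵥ u)) i := rfl
    rw [hl, hr, mulVec_mulVec, ← map_mul, mul_tr, map_mul, hσc, map_mul, smul_mul, Matrix.one_mul,
      smul_mulVec, ← mulVec_mulVec, hufix]
    rfl

theorem eq_or_eq_neg {x y : Ext (Bplus n)} (h : x.v = y.v) : rep x = rep y ∨ rep x = -rep y := by
  have e : x = ⟨x.a + y.a, 0⟩ * y := by
    refine Ext.ext ?_ ?_
    · rw [mul_a, β_zero_left, add_zero, add_assoc, CharTwo.add_self_eq_zero, add_zero]
    · rw [mul_v, zero_add, h]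
  rw [e, rep_mul, rep_center, smul_mul, Matrix.one_mul]
  rcases LargeExtra.AffineLinear.zmod_two_cases (x.a + y.a) with e | e <;> rw [e]
  · left; rw [sgn_zero, one_smul]
  · right; rw [sgn_one, neg_smul, one_smul]

theorem rep_comm (z x : Ext (Bplus n)) :
    rep z * rep x = sgn (β (Bplus n) z.v x.v + β (Bplus n) x.v z.v) • (rep x * rep z) := by
  have e : z * x = ⟨β (Bplus n) z.v x.v + β (Bplus n) x.v z.v, 0⟩ * (x * z) := by
    refine Ext.ext ?_ ?_
    · rw [mul_a, mul_a, mul_a, β_zero_left]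
      have h2 := CharTwo.add_self_eq_zero (β (Bplus n) x.v z.v)
      linear_combination -h2
    · rw [mul_v, mul_v, mul_v, zero_add, add_comm]
  rw [← rep_mul, ← rep_mul, e, rep_mul, rep_center, smul_mul, Matrix.one_mul]

/-- An orthogonal matrix acting trivially on the central quotient lies in the image. -/
theorem mem_range_of_trivial {M : Matrix (V n) (V n) ℝ} (hM : Mᵀ * M = 1)
    (h : ∀ v, ∃ a : ZMod 2, M * rep ⟨0, v⟩ = sgn a • (rep ⟨0, v⟩ * M)) : ∃ z, rep z = M := by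
  choose χ hχ using h
  have hMM : M * Mᵀ = 1 := mul_eq_one_comm.mp hM
  have hne : ∀ (x : Ext (Bplus n)) {a b : ℝ}, a • (rep x * M) = b • (rep x * M) → a = b := by
    intro x a b h
    have h1 := congrArg (fun N => (rep x)ᵀ * N * Mᵀ) h
    simp only [Matrix.mul_smul, Matrix.smul_mul, ← Matrix.mul_assoc, rep_orth, Matrix.one_mul,
      hMM] at h1
    have h2 := congrFun (congrFun h1 0) 0
    simpa using h2
  have hadd : ∀ v w, χ (v + w) = χ v + χ w := by
    intro v w
    refine sgn_injective (hne ⟨0, v + w⟩ ?_)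
    set c := β (Bplus n) v w
    have e : (⟨0, v⟩ : Ext (Bplus n)) * ⟨0, w⟩ = ⟨c, 0⟩ * ⟨0, v + w⟩ := by
      refine Ext.ext ?_ ?_
      · rw [mul_a, mul_a, β_zero_left, zero_add, zero_add, add_zero, add_zero]
      · rw [mul_v, mul_v, zero_add]
    have e1 : rep ⟨0, v⟩ * rep ⟨0, w⟩ = sgn c • rep ⟨0, v + w⟩ := by
      rw [← rep_mul, e, rep_mul, rep_center, smul_mul, Matrix.one_mul]
    have h1 : M * (rep ⟨0, v⟩ * rep ⟨0, w⟩) = (sgn (χ v) * sgn (χ w)) • (rep ⟨0, v⟩ * rep ⟨0, w⟩ * M) := by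
      rw [← Matrix.mul_assoc, hχ, smul_mul, Matrix.mul_assoc, hχ, Matrix.mul_smul, smul_smul,
        Matrix.mul_assoc]
    rw [e1, Matrix.mul_smul, hχ, smul_mul, smul_smul, smul_smul, ← sgn_add (χ v)] at h1
    rw [mul_comm (sgn (χ v + χ w))] at h1
    simpa [← smul_smul, smul_right_inj (sgn_ne c)] using h1
  let f : (Fin n ⊕ Fin n → ZMod 2) →ₗ[ZMod 2] ZMod 2 :=
    (AddMonoidHom.mk' χ hadd).toZModLinearMap 2
  let b : Fin n ⊕ Fin n → ZMod 2 := fun k => f (Pi.single k.swap 1)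
  have hb : ∀ v, χ v = β (Bplus n) b v + β (Bplus n) v b := by
    intro v
    have hsum : χ v = ∑ k, v k * f (Pi.single k 1) := by
      show f v = _
      conv_lhs => rw [pi_eq_sum_univ v]
      rw [map_sum]
      refine Finset.sum_congr rfl fun k _ => ?_
      rw [map_smul, smul_eq_mul]
      congr 2
      funext j
      simp [Pi.single_apply, eq_comm]
    rw [hsum, Fintype.sum_sum_type, β_plus, β_plus, ← Finset.sum_add_distrib,
      ← Finset.sum_add_distrib]
    refine Finset.sum_congr rfl fun i _ => ?_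
    simp only [b, Sum.swap_inl, Sum.swap_inr]
    ring
  set z : Ext (Bplus n) := ⟨0, b⟩ with hz
  set N := (rep z)ᵀ * M with hN
  have hzM : rep z * N = M := by
    rw [hN, ← Matrix.mul_assoc, mul_eq_one_comm.mp (rep_orth z), Matrix.one_mul]
  have hcomm : ∀ v, N * rep ⟨0, v⟩ = rep ⟨0, v⟩ * N := by
    intro v
    have h1 := hχ v
    rw [← hzM, Matrix.mul_assoc, ← Matrix.mul_assoc (rep ⟨0, v⟩)] at h1
    have h2 : rep ⟨0, v⟩ * rep z = sgn (χ v) • (rep z * rep ⟨0, v⟩) := by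
      rw [rep_comm ⟨0, v⟩ z, hb, add_comm]
    rw [h2, smul_mul, smul_smul, sgn_sq, one_smul, Matrix.mul_assoc] at h1
    have h3 := congrArg (fun A => (rep z)ᵀ * A) h1
    simp only [← Matrix.mul_assoc (rep z)ᵀ, rep_orth, Matrix.one_mul] at h3
    exact h3
  have hdiag : ∀ i j, i ≠ j → N i j = 0 := by
    intro i j hij
    obtain ⟨g, hg⟩ := exists_dot_ne_zero (f := i + j) (fun h => hij (eq_of_vadd h))
    have hd : rep (⟨0, Sum.elim g 0⟩ : Ext (Bplus n)) = Matrix.diagonal fun k => sgn (g ⬝ᵥ k) := by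
      ext a c
      rw [rep, Matrix.diagonal_apply]
      show (if a = c + 0 then sgn (0 + g ⬝ᵥ c) else 0) = _
      rw [add_zero, zero_add]
      split_ifs with h
      · rw [h]
      · rfl
    have h1 := congrFun (congrFun (hcomm (Sum.elim g 0)) i) j
    rw [hd, Matrix.mul_diagonal, Matrix.diagonal_mul] at h1
    rw [dotProduct_comm, dotProduct_add] at hg
    have h2 : sgn (g ⬝ᵥ i) = -sgn (g ⬝ᵥ j) := by
      rw [show g ⬝ᵥ i = 1 + g ⬝ᵥ j from by rw [← hg, add_assoc, CharTwo.add_self_eq_zero, add_zero],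
        sgn_add, sgn_one, neg_one_mul]
    rw [h2] at h1
    have : sgn (g ⬝ᵥ j) * N i j = 0 := by linarith
    exact (mul_eq_zero.mp this).resolve_left (sgn_ne _)
  have hconst : ∀ i, N i i = N 0 0 := by
    intro i
    have h1 := congrFun (congrFun (hcomm (Sum.elim 0 i)) i) 0
    rw [Matrix.mul_apply, Matrix.mul_apply, Finset.sum_eq_single i, Finset.sum_eq_single 0] at h1
    · have e : rep (⟨0, Sum.elim 0 i⟩ : Ext (Bplus n)) i 0 = 1 := by
        rw [rep, if_pos (show i = 0 + tp (Sum.elim (0 : V n) i) from (zero_add _).symm)]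
        show sgn (0 + (0 : V n) ⬝ᵥ 0) = 1
        rw [dotProduct_zero, add_zero, sgn_zero]
      rw [e, mul_one, one_mul] at h1
      exact h1
    · intro k _ hk; rw [hdiag k 0 hk, mul_zero]
    · intro h; exact absurd (Finset.mem_univ _) h
    · intro k _ hk; rw [hdiag i k (Ne.symm hk), zero_mul]
    · intro h; exact absurd (Finset.mem_univ _) h
  have hscal : N = N 0 0 • 1 := by
    ext i j
    rw [Matrix.smul_apply, Matrix.one_apply, smul_eq_mul]
    by_cases h : i = j
    · rw [if_pos h, h, mul_one, hconst]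
    · rw [if_neg h, mul_zero, hdiag i j h]
  have hN1 : N 0 0 * N 0 0 = 1 := by
    have h1 : Nᵀ * N = 1 := by
      rw [hN, transpose_mul, transpose_transpose, Matrix.mul_assoc, ← Matrix.mul_assoc (rep z),
        mul_eq_one_comm.mp (rep_orth z), Matrix.one_mul, hM]
    have h2 := congrFun (congrFun h1 0) 0
    rw [hscal] at h2
    simpa using h2
  rcases mul_self_eq_one_iff.mp hN1 with h | h
  · exact ⟨z, by rw [← hzM, hscal, h, one_smul, Matrix.mul_one]⟩
  · refine ⟨⟨1, 0⟩ * z, ?_⟩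
    rw [← hzM, hscal, h, rep_mul, rep_center, sgn_one, smul_mul, Matrix.one_mul, Matrix.mul_smul,
      Matrix.mul_one]

variable (n) in
/-- The representation into the units. -/
noncomputable def repUnits : Ext (Bplus n) →* (Matrix (V n) (V n) ℝ)ˣ := (repHom n).toHomUnits

theorem coe_repUnits (x : Ext (Bplus n)) : (repUnits n x : Matrix (V n) (V n) ℝ) = rep x := rfl

/-- Orthogonal matrices paired with the linear map they induce on the central quotient. -/
noncomputable def lifts (n : ℕ) :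
    Submonoid ((Matrix (V n) (V n) ℝ)ˣ × GL (Fin n ⊕ Fin n) (ZMod 2)) where
  carrier := {r | (r.1 : Matrix (V n) (V n) ℝ)ᵀ * (r.1 : Matrix (V n) (V n) ℝ) = 1 ∧
    ∀ x, ∃ y : Ext (Bplus n), (r.1 : Matrix (V n) (V n) ℝ) * rep x = rep y * (r.1 : Matrix (V n) (V n) ℝ) ∧
      y.v = (r.2 : Matrix (Fin n ⊕ Fin n) (Fin n ⊕ Fin n) (ZMod 2)) *ᵥ x.v}
  one_mem' := ⟨by simp, fun x => ⟨x, by simp, by simp⟩⟩
  mul_mem' := by
    rintro r s ⟨hr, hr'⟩ ⟨hs, hs'⟩
    refine ⟨?_, fun x => ?_⟩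
    · rw [Prod.fst_mul, Units.val_mul, transpose_mul, Matrix.mul_assoc,
        ← Matrix.mul_assoc (r.1 : Matrix (V n) (V n) ℝ)ᵀ, hr, Matrix.one_mul, hs]
    · obtain ⟨y, hy, hyv⟩ := hs' x
      obtain ⟨w, hw, hwv⟩ := hr' y
      refine ⟨w, ?_, ?_⟩
      · rw [Prod.fst_mul, Units.val_mul, Matrix.mul_assoc, hy, ← Matrix.mul_assoc, hw,
          Matrix.mul_assoc]
      · rw [hwv, hyv, mulVec_mulVec, Prod.snd_mul, Units.val_mul]

theorem inv_mem_lifts {r : (Matrix (V n) (V n) ℝ)ˣ × GL (Fin n ⊕ Fin n) (ZMod 2)}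
    (hr : r ∈ lifts n) : r⁻¹ ∈ lifts n := by
  obtain ⟨h1, h2⟩ := hr
  have hinv : ((r.1⁻¹ : (Matrix (V n) (V n) ℝ)ˣ) : Matrix (V n) (V n) ℝ) = (r.1 : Matrix (V n) (V n) ℝ)ᵀ :=
    Units.inv_eq_of_mul_eq_one_left h1
  refine ⟨?_, fun x => ?_⟩
  · rw [Prod.fst_inv, hinv, transpose_transpose]
    exact mul_eq_one_comm.mp h1
  · set w := ((r.2⁻¹ : GL (Fin n ⊕ Fin n) (ZMod 2)) : Matrix (Fin n ⊕ Fin n) (Fin n ⊕ Fin n) (ZMod 2)) *ᵥ x.v
    obtain ⟨y, hy, hyv⟩ := h2 ⟨0, w⟩
    have hyx : x.v = y.v := by rw [hyv, mulVec_mulVec, ← Units.val_mul, mul_inv_cancel, Units.val_one, one_mulVec]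
    have e : ((r.1⁻¹ : (Matrix (V n) (V n) ℝ)ˣ) : Matrix (V n) (V n) ℝ) * rep y =
        rep ⟨0, w⟩ * ((r.1⁻¹ : (Matrix (V n) (V n) ℝ)ˣ) : Matrix (V n) (V n) ℝ) := by
      have := congrArg (fun A => ((r.1⁻¹ : (Matrix (V n) (V n) ℝ)ˣ) : Matrix (V n) (V n) ℝ) * A *
        ((r.1⁻¹ : (Matrix (V n) (V n) ℝ)ˣ) : Matrix (V n) (V n) ℝ)) hy
      simp only [← Matrix.mul_assoc, Units.inv_mul, Matrix.one_mul] at this
      simp only [Matrix.mul_assoc, Units.mul_inv, Matrix.mul_one] at this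
      exact this.symm
    rw [Prod.fst_inv, Prod.snd_inv]
    rcases eq_or_eq_neg hyx with h | h
    · exact ⟨⟨0, w⟩, by rw [h]; exact e, rfl⟩
    · refine ⟨⟨1, 0⟩ * ⟨0, w⟩, ?_, by rw [mul_v, zero_add]⟩
      rw [h, Matrix.mul_neg, e, rep_mul, rep_center, sgn_one, smul_mul, Matrix.one_mul, neg_smul,
        one_smul, Matrix.neg_mul]

/-- The normalizer of the image, as a group of pairs. -/
noncomputable def normalizerGroup (n : ℕ) :
    Subgroup ((Matrix (V n) (V n) ℝ)ˣ × GL (Fin n ⊕ Fin n) (ZMod 2)) :=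
  { lifts n with inv_mem' := inv_mem_lifts }

theorem repUnits_mem (x : Ext (Bplus n)) : (repUnits n x, 1) ∈ normalizerGroup n := by
  refine ⟨rep_orth x, fun y => ⟨⟨β (Bplus n) x.v y.v + β (Bplus n) y.v x.v, 0⟩ * y, ?_, ?_⟩⟩
  · rw [rep_mul, rep_center, smul_mul, Matrix.one_mul, smul_mul]
    exact rep_comm x y
  · rw [mul_v, zero_add, Units.val_one, one_mulVec]

theorem exists_of_ker {r : (Matrix (V n) (V n) ℝ)ˣ × GL (Fin n ⊕ Fin n) (ZMod 2)}
    (hr : r ∈ normalizerGroup n) (h2 : r.2 = 1) : ∃ x, (repUnits n x, 1) = r := by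
  obtain ⟨h, h'⟩ := hr
  obtain ⟨z, hz⟩ := mem_range_of_trivial h fun v => by
    obtain ⟨y, hy, hyv⟩ := h' ⟨0, v⟩
    rw [h2, Units.val_one, one_mulVec] at hyv
    rcases eq_or_eq_neg hyv with e | e
    · exact ⟨0, by rw [hy, e, sgn_zero, one_smul]⟩
    · exact ⟨1, by rw [hy, e, sgn_one, neg_smul, one_smul, Matrix.neg_mul]⟩
  exact ⟨z, Prod.ext (Units.ext hz) h2.symm⟩

theorem exists_lift_mem (g : GL (Fin n ⊕ Fin n) (ZMod 2))
    (hg : ∀ v, β (Bplus n) ((g : Matrix (Fin n ⊕ Fin n) (Fin n ⊕ Fin n) (ZMod 2)) *ᵥ v)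
      ((g : Matrix (Fin n ⊕ Fin n) (Fin n ⊕ Fin n) (ZMod 2)) *ᵥ v) = β (Bplus n) v v) :
    ∃ M, (M, g) ∈ normalizerGroup n := by
  obtain ⟨φ, hφ⟩ := exists_lift (nondeg_plus n) g hg
  obtain ⟨M, hM, hMx⟩ := exists_intertwiner φ
  refine ⟨⟨M, Mᵀ, mul_eq_one_comm.mp hM, hM⟩, hM, fun x => ⟨φ x, hMx x, ?_⟩⟩
  rw [← hφ, toGL_mulVec, v_apply (nondeg_plus n)]

end Cfsg.Agent.Techniques.PlusExtension
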