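import Mathlib
import Cfsg.Agent.Lib.Coprime.Basic

/-!
An involution outside a normal extraspecial subgroup of order `32` in a group of order `320`.
-/

set_option autoImplicit false

namespace Cfsg.Agent.Techniques.MinusRadical

open Subgroup
open scoped commutatorElement

theorem card_centralizer {G : Type*} [Group G] [Finite G] (hG : Nat.card G = 320) (H : Subgroup G) [H.Normal]
    (hH : Nat.card H = 32) (hZ : Nat.card (center H) = 2) (hHc : commutator H ≤ center H)
    (hsq : ∀ h : H, h * h ∈ center H)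
    (hmax2 : ∀ N : Subgroup G, N.Normal → IsPGroup 2 N → N ≤ H)
    (hmax5 : ∀ N : Subgroup G, N.Normal → Nat.card N = 5 → N ≤ H)
    (hminus : ∀ A : Subgroup G, A ≤ H → IsMulCommutative A → (∀ a ∈ A, a ^ 2 = 1) → Nat.card A ≤ 4)
    (T : G) (hT : T * T = 1) (hTH : T ∉ H) (V : Subgroup G) (hV : V ≤ H ⊓ centralizer ({T} : Set G))
    (hV4 : Nat.card V = 4) (hVc : IsMulCommutative V) (hV2 : ∀ a ∈ V, a ^ 2 = 1) :
    H ⊓ centralizer ({T} : Set G) = V := by
  classical
  haveI : Fact (Nat.Prime 5) := ⟨by norm_num⟩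
  haveI : Fact (Nat.Prime 2) := ⟨Nat.prime_two⟩
  set Z0 := (center H).map H.subtype with hZ0
  haveI : Z0.Normal := inferInstance
  have hZ0c : Nat.card Z0 = 2 := by rw [card_map_of_injective H.subtype_injective, hZ]
  have hZ0H : Z0 ≤ H := map_subtype_le _
  have hZ0z : ∀ e ∈ Z0, ∀ g : G, g * e = e * g := by
    intro e he g
    have he' : g * e * g⁻¹ ∈ Z0 := (inferInstance : Z0.Normal).conj_mem e he g
    haveI : Fintype Z0 := Fintype.ofFinite Z0
    by_cases h1 : e = 1
    · simp [h1]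
    · have : g * e * g⁻¹ = e := by
        by_contra hne
        have h3 : ({⟨1, one_mem _⟩, ⟨e, he⟩, ⟨_, he'⟩} : Finset Z0).card = 3 := by
          rw [Finset.card_insert_of_notMem, Finset.card_pair]
          · intro h; exact hne (congrArg Subtype.val h).symm
          · simp only [Finset.mem_insert, Finset.mem_singleton, Subtype.ext_iff]
            rintro (h | h)
            · exact h1 h.symm
            · exact h1 (conj_eq_one_iff.mp h.symm)
        have := Finset.card_le_univ ({⟨1, one_mem _⟩, ⟨e, he⟩, ⟨_, he'⟩} : Finset Z0)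
        rw [h3, ← Nat.card_eq_fintype_card, hZ0c] at this
        omega
      exact mul_inv_eq_iff_eq_mul.mp this
  have hcomm : ∀ x ∈ H, ∀ y ∈ H, ⁅x, y⁆ ∈ Z0 := fun x hx y hy =>
    ⟨_, hHc (commutator_mem_commutator (mem_top (⟨x, hx⟩ : H)) (mem_top (⟨y, hy⟩ : H))), rfl⟩
  have hsq' : ∀ x ∈ H, x * x ∈ Z0 := fun x hx => ⟨_, hsq ⟨x, hx⟩, rfl⟩
  let f := QuotientGroup.mk' Z0
  set Hb := H.map f with hHb
  have hfker : ∀ x, f x = 1 ↔ x ∈ Z0 := fun x => by rw [QuotientGroup.mk'_apply, QuotientGroup.eq_one_iff]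
  have hHbc : Nat.card Hb = 16 := by
    have h1 := Subgroup.relIndex_ker f (K := H)
    rw [QuotientGroup.ker_mk'] at h1
    have h2 : Nat.card Z0 * Z0.relIndex H = Nat.card H := by
      rw [← relIndex_bot_left, ← relIndex_bot_left H]
      exact relIndex_mul_relIndex _ _ _ bot_le hZ0H
    rw [h1, hZ0c, hH, ← hHb] at h2
    omega
  have hHbab : ∀ a ∈ Hb, ∀ b ∈ Hb, Commute a b := by
    rintro _ ⟨x, hx, rfl⟩ _ ⟨y, hy, rfl⟩
    rw [← commutatorElement_eq_one_iff_commute, ← map_commutatorElement, hfker]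
    exact hcomm x hx y hy
  obtain ⟨c, hc⟩ := exists_prime_orderOf_dvd_card' (G := G) 5 (by rw [hG]; norm_num)
  have hc5 : c ^ 5 = 1 := hc ▸ pow_orderOf_eq_one c
  have hcH : c ∉ H := fun h => by
    have h1 : orderOf (⟨c, h⟩ : H) ∣ Nat.card H := orderOf_dvd_natCard _
    rw [orderOf_mk, hc, hH] at h1
    norm_num at h1
  -- the quotient of order ten
  let q := QuotientGroup.mk' H
  have hqc : orderOf (q c) = 5 := orderOf_eq_prime (by rw [← map_pow, hc5, map_one])
    (by rwa [QuotientGroup.mk'_apply, ne_eq, QuotientGroup.eq_one_iff])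
  have hqT : orderOf (q T) = 2 := orderOf_eq_prime (by rw [← map_pow, pow_two, hT, map_one])
    (by rwa [QuotientGroup.mk'_apply, ne_eq, QuotientGroup.eq_one_iff])
  have hQ : Nat.card (G ⧸ H) = 10 := by
    have := card_eq_card_quotient_mul_card_subgroup H
    rw [hG, hH] at this
    omega
  have hidx : (zpowers (q c)).index = 2 := by
    have := (zpowers (q c)).card_mul_index
    rw [Nat.card_zpowers, hqc, hQ] at this
    omega
  haveI : (zpowers (q c)).Normal := normal_of_index_eq_two hidx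
  have htop : zpowers (q c) ⊔ zpowers (q T) = ⊤ := by
    have h1 : orderOf (q T) ∣ Nat.card ↥(zpowers (q c) ⊔ zpowers (q T)) := by
      rw [← Nat.card_zpowers]; exact card_dvd_of_le le_sup_right
    have h2 : orderOf (q c) ∣ Nat.card ↥(zpowers (q c) ⊔ zpowers (q T)) := by
      rw [← Nat.card_zpowers]; exact card_dvd_of_le le_sup_left
    rw [hqT] at h1; rw [hqc] at h2
    refine eq_top_of_le_card _ ?_
    rw [hQ]
    exact Nat.le_of_dvd Nat.card_pos (Nat.Coprime.mul_dvd_of_dvd_of_dvd (by norm_num : Nat.Coprime 2 5) h1 h2)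
  -- the fixed points of `c` on the quotient are trivial
  have hfix : ∀ w ∈ Hb, f c * w * (f c)⁻¹ = w → w = 1 := by
    set W : Subgroup (G ⧸ Z0) := Hb ⊓ centralizer ({f c} : Set (G ⧸ Z0)) with hW
    haveI : Hb.Normal := Subgroup.Normal.map inferInstance f (QuotientGroup.mk'_surjective Z0)
    letI act : MulAction (zpowers (f c)) Hb :=
      { smul := fun k w => ⟨k.1 * w.1 * k.1⁻¹, (inferInstance : Hb.Normal).conj_mem _ w.2 _⟩
        one_smul := fun w => Subtype.ext (show (1 : G ⧸ Z0) * w.1 * (1 : G ⧸ Z0)⁻¹ = w.1 by simp)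
        mul_smul := fun a b w => Subtype.ext
          (show a.1 * b.1 * w.1 * (a.1 * b.1)⁻¹ = a.1 * (b.1 * w.1 * b.1⁻¹) * a.1⁻¹ by group) }
    have hp : IsPGroup 5 (zpowers (f c)) := by
      intro k
      refine ⟨1, Subtype.ext ?_⟩
      obtain ⟨m, hm⟩ := mem_zpowers_iff.mp k.2
      simp only [pow_one, SubgroupClass.coe_pow, OneMemClass.coe_one, ← hm]
      rw [← zpow_natCast, ← zpow_mul, mul_comm, zpow_mul, zpow_natCast, ← map_pow, hc5, map_one, one_zpow]
    let e : MulAction.fixedPoints (zpowers (f c)) Hb ≃ W :=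
      { toFun := fun w => ⟨w.1.1, w.1.2, mem_centralizer_singleton_iff.mpr
          (mul_inv_eq_iff_eq_mul.mp (congrArg Subtype.val (w.2 ⟨f c, mem_zpowers _⟩))).symm⟩
        invFun := fun w => ⟨⟨w.1, w.2.1⟩, fun k => Subtype.ext (by
          obtain ⟨m, hm⟩ := mem_zpowers_iff.mp k.2
          show k.1 * w.1 * k.1⁻¹ = w.1
          have : Commute (f c) w.1 := (mem_centralizer_singleton_iff.mp w.2.2).symm
          rw [← hm, (this.zpow_left m).eq, mul_inv_cancel_right])⟩
        left_inv := fun w => rfl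
        right_inv := fun w => rfl }
    have h5 := hp.card_modEq_card_fixedPoints Hb
    rw [Nat.card_congr e, hHbc] at h5
    have hd : Nat.card W ∣ 2 ^ 4 := (card_dvd_of_le inf_le_left).trans (dvd_of_eq (hHbc.trans (by norm_num)))
    obtain ⟨k, hk, hk'⟩ := (Nat.dvd_prime_pow Nat.prime_two).mp hd
    have hcases : Nat.card W = 1 ∨ Nat.card W = 16 := by
      rw [hk'] at h5 ⊢
      interval_cases k <;> simp_all [Nat.ModEq]
    rcases hcases with h | h
    · intro w hw hcw
      have : w ∈ W := ⟨hw, mem_centralizer_singleton_iff.mpr (mul_inv_eq_iff_eq_mul.mp hcw).symm⟩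
      rwa [card_eq_one.mp h, mem_bot] at this
    · exfalso
      have hall : W = Hb := eq_of_le_of_card_ge inf_le_left (by rw [h, hHbc])
      have hcz : ∀ x ∈ H, c * x * c⁻¹ * x⁻¹ ∈ Z0 := fun x hx => by
        rw [← hfker]
        have := mem_centralizer_singleton_iff.mp ((hall.ge ⟨x, hx, rfl⟩ : f x ∈ W).2)
        rw [map_mul, map_mul, map_mul, map_inv, map_inv, ← this, mul_inv_cancel_right, mul_inv_cancel]
      have hcent : ∀ x ∈ H, c * x = x * c := by
        intro x hx
        set e0 := c * x * c⁻¹ * x⁻¹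
        have hk : ∀ k : ℕ, c ^ k * x * (c ^ k)⁻¹ = e0 ^ k * x := by
          intro k
          induction k with
          | zero => simp
          | succ k ih =>
            have h1 : c * e0 ^ k = e0 ^ k * c := hZ0z _ (Z0.pow_mem (hcz x hx) k) c
            calc c ^ (k + 1) * x * (c ^ (k + 1))⁻¹ = c * (c ^ k * x * (c ^ k)⁻¹) * c⁻¹ := by
                  rw [pow_succ']; group
              _ = c * e0 ^ k * x * c⁻¹ := by rw [ih]; group
              _ = e0 ^ k * (c * x * c⁻¹) := by rw [h1]; group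
              _ = e0 ^ (k + 1) * x := by rw [pow_succ]; simp only [e0]; group
        have h5' := hk 5
        rw [hc5, one_mul, inv_one, mul_one] at h5'
        have h6 : e0 ^ 5 = 1 := mul_eq_right.mp h5'.symm
        have h7 : e0 = 1 := by
          have h8 : (⟨e0, hcz x hx⟩ : Z0) ^ Nat.card Z0 = 1 := pow_card_eq_one'
          rw [hZ0c] at h8
          have h9 : e0 ^ 2 = 1 := congrArg Subtype.val h8
          calc e0 = e0 ^ 5 * ((e0 ^ 2) ^ 2)⁻¹ := by group
            _ = 1 := by rw [h6, h9]; simp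
        exact mul_inv_eq_iff_eq_mul.mp (mul_inv_eq_one.mp h7)
      set K := (zpowers (q c)).comap q
      haveI : K.Normal := inferInstance
      have hnorm : (zpowers c).Normal := by
        refine ⟨fun x hx g => ?_⟩
        have hcK : c ∈ K := mem_zpowers (q c)
        have h1 : q (g * c * g⁻¹) ∈ zpowers (q c) := (inferInstance : K.Normal).conj_mem c hcK g
        obtain ⟨m, hm⟩ := mem_zpowers_iff.mp h1
        have h2 : (c ^ m)⁻¹ * (g * c * g⁻¹) ∈ H := by
          rw [← QuotientGroup.eq, ← QuotientGroup.mk'_apply, ← QuotientGroup.mk'_apply, map_zpow]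
          exact hm
        have hcm : Commute (c ^ m) ((c ^ m)⁻¹ * (g * c * g⁻¹)) :=
          (show Commute c _ from hcent _ h2).zpow_left m
        set h0 := (c ^ m)⁻¹ * (g * c * g⁻¹)
        have hprod : g * c * g⁻¹ = c ^ m * h0 := by simp only [h0]; group
        have h3 : h0 ^ 5 = 1 := by
          have := congrArg (· ^ 5) hprod
          simp only [hcm.mul_pow, conj_pow, hc5, mul_one, mul_inv_cancel] at this
          rw [← zpow_natCast (c ^ m), ← zpow_mul, mul_comm, zpow_mul, zpow_natCast, hc5, one_zpow, one_mul] at this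
          exact this.symm
        have h4 : h0 = 1 := by
          have h5'' : (⟨h0, h2⟩ : H) ^ Nat.card H = 1 := pow_card_eq_one'
          rw [hH] at h5''
          have h32 : h0 ^ 32 = 1 := congrArg Subtype.val h5''
          calc h0 = (h0 ^ 5) ^ 13 * ((h0 ^ 32) ^ 2)⁻¹ := by group
            _ = 1 := by rw [h3, h32]; simp
        obtain ⟨l, rfl⟩ := mem_zpowers_iff.mp hx
        rw [← conj_zpow, hprod, h4, mul_one, ← zpow_mul]
        exact zpow_mem (mem_zpowers c) _
      exact hcH (hmax5 _ hnorm (by rw [Nat.card_zpowers, hc]) (mem_zpowers c))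
  -- `T` inverts `c` modulo `H`
  have hHbn : ∀ g : G, ∀ w ∈ Hb, f g * w * (f g)⁻¹ ∈ Hb := by
    rintro g _ ⟨x, hx, rfl⟩
    exact ⟨g * x * g⁻¹, (inferInstance : H.Normal).conj_mem x hx g, by simp⟩
  have hHtriv : ∀ x ∈ H, ∀ w ∈ Hb, f x * w * (f x)⁻¹ = w := fun x hx w hw => by
    rw [(hHbab _ ⟨x, hx, rfl⟩ _ hw).eq, mul_inv_cancel_right]
  obtain ⟨j, hj⟩ : ∃ j : ℕ, q T * q c * (q T)⁻¹ = q c ^ j := by
    obtain ⟨j, hj⟩ := mem_powers_iff_mem_zpowers.mpr
      ((inferInstance : (zpowers (q c)).Normal).conj_mem _ (mem_zpowers (q c)) (q T))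
    exact ⟨j, hj.symm⟩
  have hj1 : j % 5 ≠ 1 := by
    intro h
    have hcq : Commute (q T) (q c) := by
      have : q c ^ j = q c := by rw [← pow_mod_orderOf, hqc, h, pow_one]
      rw [this] at hj
      exact mul_inv_eq_iff_eq_mul.mp hj
    set K := (zpowers (q T)).comap q
    have hKn : K.Normal := by
      haveI : (zpowers (q T)).Normal := by
        rw [← normalizer_eq_top_iff, eq_top_iff, ← htop, sup_le_iff, zpowers_le]
        refine ⟨centralizer_le_normalizer _ (mem_centralizer_iff.mpr fun y hy => ?_), le_normalizer⟩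
        obtain ⟨m, rfl⟩ := mem_zpowers_iff.mp hy
        exact (hcq.zpow_left m).eq
      infer_instance
    have hKp : IsPGroup 2 K := by
      intro k
      refine ⟨6, Subtype.ext ?_⟩
      have h1 : k.1 ^ 2 ∈ H := by
        rw [← QuotientGroup.eq_one_iff, ← QuotientGroup.mk'_apply, map_pow]
        obtain ⟨m, hm⟩ := mem_zpowers_iff.mp (k.2 : q k.1 ∈ zpowers (q T))
        rw [← hm, ← zpow_natCast, ← zpow_mul, mul_comm, zpow_mul, zpow_natCast, ← hqT, pow_orderOf_eq_one, one_zpow]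
      have h2 : (⟨k.1 ^ 2, h1⟩ : H) ^ Nat.card H = 1 := pow_card_eq_one'
      rw [hH] at h2
      have h3 : (k.1 ^ 2) ^ 32 = 1 := congrArg Subtype.val h2
      show k.1 ^ (2 ^ 6) = 1
      rw [show 2 ^ 6 = 2 * 32 from rfl, pow_mul, h3]
    exact hTH (hmax2 K hKn hKp (mem_zpowers (q T)))
  -- fixed points of `T`
  set U := Hb ⊓ centralizer ({f T} : Set (G ⧸ Z0)) with hU
  have hU4 : Nat.card U ≤ 4 := by
    let g := f c
    let φ : U × U → Hb := fun u => ⟨u.1.1 * (g * u.2.1 * g⁻¹), mul_mem u.1.2.1 (hHbn c _ u.2.2.1)⟩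
    have hinter : ∀ w ∈ U, g⁻¹ * w * g ∈ U → w = 1 := by
      intro w hw hw'
      have hwT : f T * w * (f T)⁻¹ = w := by
        rw [← mem_centralizer_singleton_iff.mp hw.2, mul_inv_cancel_right]
      have hwT' : f T * (g⁻¹ * w * g) * (f T)⁻¹ = g⁻¹ * w * g := by
        rw [← mem_centralizer_singleton_iff.mp hw'.2, mul_inv_cancel_right]
      have hwHb : w ∈ Hb := hw.1
      -- conjugation by `c ^ j * c⁻¹` fixes `w`
      have hjm : (c ^ j)⁻¹ * (T * c * T⁻¹) ∈ H := by
        rw [← QuotientGroup.eq, ← QuotientGroup.mk'_apply, ← QuotientGroup.mk'_apply, map_pow, map_mul, map_mul,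
          map_inv]
        exact hj.symm
      set x := (c ^ j)⁻¹ * (T * c * T⁻¹) with hx
      have key : f (c ^ j) * (g⁻¹ * w * g) * (f (c ^ j))⁻¹ = w := by
        have e1 : f T * g * (f T)⁻¹ = f (c ^ j) * f x := by
          rw [hx]; simp only [map_mul, map_inv, map_pow, g]; group
        have e2 : f x * (g⁻¹ * w * g) * (f x)⁻¹ = g⁻¹ * w * g := hHtriv x hjm _ hw'.1
        calc f (c ^ j) * (g⁻¹ * w * g) * (f (c ^ j))⁻¹
            = (f (c ^ j) * f x) * (g⁻¹ * w * g) * (f (c ^ j) * f x)⁻¹ := by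
              conv_lhs => rw [← e2]
              group
          _ = (f T * g * (f T)⁻¹) * (g⁻¹ * w * g) * (f T * g * (f T)⁻¹)⁻¹ := by rw [e1]
          _ = (f T * g * (f T)⁻¹) * (f T * (g⁻¹ * w * g) * (f T)⁻¹) * (f T * g * (f T)⁻¹)⁻¹ := by rw [hwT']
          _ = f T * w * (f T)⁻¹ := by group
          _ = w := hwT
      have key2 : f (c ^ (j + 4)) * w * (f (c ^ (j + 4)))⁻¹ = w := by
        have hg4 : g ^ 4 = g⁻¹ := eq_inv_of_mul_eq_one_left (by
          rw [← pow_succ, ← map_pow, hc5, map_one])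
        calc f (c ^ (j + 4)) * w * (f (c ^ (j + 4)))⁻¹ = f (c ^ j) * (g ^ 4 * w * (g ^ 4)⁻¹) * (f (c ^ j))⁻¹ := by
              rw [pow_add, map_mul, map_pow f c 4]; simp only [g]; group
          _ = f (c ^ j) * (g⁻¹ * w * g) * (f (c ^ j))⁻¹ := by rw [hg4, inv_inv]
          _ = w := key
      obtain ⟨m, hm⟩ : ∃ m : ℕ, (j + 4) * m % 5 = 1 := by
        have h1 : (j + 4) % 5 ≠ 0 := by omega
        have h2 : (j + 4) % 5 < 5 := Nat.mod_lt _ (by norm_num)
        interval_cases h3 : (j + 4) % 5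
        · exact absurd rfl h1
        · exact ⟨1, by omega⟩
        · exact ⟨3, by omega⟩
        · exact ⟨2, by omega⟩
        · exact ⟨4, by omega⟩
      refine hfix w hwHb ?_
      have hcm : Commute (f (c ^ (j + 4))) w := mul_inv_eq_iff_eq_mul.mp key2
      have : f c = f (c ^ (j + 4)) ^ m := by
        rw [← map_pow, ← pow_mul, ← pow_mod_orderOf, hc, hm, pow_one]
      rw [this, (hcm.pow_left m).eq, mul_inv_cancel_right]
    have hφ : Function.Injective φ := by
      rintro ⟨a, b⟩ ⟨a', b'⟩ h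
      have h1 : a.1 * (g * b.1 * g⁻¹) = a'.1 * (g * b'.1 * g⁻¹) := congrArg Subtype.val h
      have h2 : a'.1⁻¹ * a.1 = g * (b'.1 * b.1⁻¹) * g⁻¹ := by
        calc a'.1⁻¹ * a.1 = a'.1⁻¹ * (a.1 * (g * b.1 * g⁻¹)) * (g * b.1 * g⁻¹)⁻¹ := by group
          _ = _ := by rw [h1]; group
      have h3 : a'.1⁻¹ * a.1 = 1 := by
        refine hinter _ (mul_mem (inv_mem a'.2) a.2) ?_
        rw [h2, show g⁻¹ * (g * (b'.1 * b.1⁻¹) * g⁻¹) * g = b'.1 * b.1⁻¹ by group]
        exact mul_mem b'.2 (inv_mem b.2)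
      rw [h3, eq_comm, conj_eq_one_iff, mul_inv_eq_one] at h2
      rw [inv_mul_eq_one] at h3
      exact Prod.ext (Subtype.ext h3.symm) (Subtype.ext h2.symm)
    have := Nat.card_le_card_of_injective φ hφ
    rw [Nat.card_prod, hHbc] at this
    nlinarith
  -- the centralizer
  set C := H ⊓ centralizer ({T} : Set G) with hC
  have hZC : Z0 ≤ C := le_inf hZ0H fun e he => mem_centralizer_singleton_iff.mpr (hZ0z e he T).symm
  have hZV : Z0 ≤ V := by
    intro e he
    by_contra heV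
    have heC : e ∈ centralizer (V : Set G) := mem_centralizer_iff.mpr fun v _ => hZ0z e he v
    have he2 : e ^ 2 = 1 := by
      have h8 : (⟨e, he⟩ : Z0) ^ Nat.card Z0 = 1 := pow_card_eq_one'
      rw [hZ0c] at h8
      exact congrArg Subtype.val h8
    set A := V ⊔ zpowers e
    have hAle : A ≤ H := sup_le (hV.trans inf_le_left) (zpowers_le.mpr (hZ0H he))
    have hAab : IsMulCommutative A := by
      have hsub : ((V : Set G) ∪ {e}) ⊆ A := Set.union_subset (fun x hx => mem_sup_left hx)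
        (Set.singleton_subset_iff.mpr (mem_sup_right (mem_zpowers e)))
      have hAcl : A = closure ((V : Set G) ∪ {e}) := by
        rw [Subgroup.closure_union, closure_eq, ← zpowers_eq_closure]
      rw [hAcl]
      refine Subgroup.isMulCommutative_closure ?_
      rintro x (hx | rfl) y (hy | rfl)
      · exact congrArg Subtype.val (hVc.is_comm.comm (⟨x, hx⟩ : V) ⟨y, hy⟩)
      · exact hZ0z _ he x
      · exact (hZ0z _ he y).symm
      · rfl
    have hA2 : ∀ a ∈ A, a ^ 2 = 1 := by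
      intro a ha
      obtain ⟨v, hv, y, hy, rfl⟩ := (Coprime.mem_sup_of_le_normalizer
        ((zpowers_le.mpr (centralizer_le_normalizer _ heC)))).mp ha
      obtain ⟨m, rfl⟩ := mem_zpowers_iff.mp hy
      have hcm : Commute v (e ^ m) := ((show Commute v e from hZ0z e he v)).zpow_right m
      rw [hcm.mul_pow, hV2 v hv, one_mul, ← zpow_natCast, ← zpow_mul, mul_comm, zpow_mul, zpow_natCast, he2, one_zpow]
    have h4 := hminus A hAle hAab hA2
    have hlt : V < A := lt_of_le_of_ne le_sup_left fun h => heV (h ▸ mem_sup_right (mem_zpowers e))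
    have h5 : Nat.card V < Nat.card A := by
      by_contra hh
      exact hlt.ne (eq_of_le_of_card_ge hlt.le (not_lt.mp hh))
    omega
  have hfC : C.map f ≤ U := by
    rintro _ ⟨x, hx, rfl⟩
    exact ⟨⟨x, hx.1, rfl⟩, mem_centralizer_singleton_iff.mpr (by
      rw [← map_mul, ← map_mul, mem_centralizer_singleton_iff.mp hx.2])⟩
  have hC8 : Nat.card C = 2 * Nat.card (C.map f) := by
    have h1 := Subgroup.relIndex_ker f (K := C)
    rw [QuotientGroup.ker_mk'] at h1
    have h2 : Nat.card Z0 * Z0.relIndex C = Nat.card C := by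
      rw [← relIndex_bot_left, ← relIndex_bot_left C]
      exact relIndex_mul_relIndex _ _ _ bot_le hZC
    rw [h1, hZ0c] at h2
    omega
  refine (eq_of_le_of_card_ge hV ?_).symm
  rw [hV4]
  by_contra hlt
  push Not at hlt
  have hUC : C.map f = U := eq_of_le_of_card_ge hfC (by
    have h1 := card_le_of_le hfC
    have h3 : 3 ≤ Nat.card (C.map f) := by omega
    have h4 : Nat.card (C.map f) ∣ 2 ^ 4 := (card_dvd_of_le (hfC.trans inf_le_left)).trans (dvd_of_eq (hHbc.trans (by norm_num)))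
    obtain ⟨k, hk, hk'⟩ := (Nat.dvd_prime_pow Nat.prime_two).mp h4
    rw [hk'] at h1 h3 ⊢
    interval_cases k <;> norm_num at * <;> omega)
  have hU4' : Nat.card U = 4 := by
    have h4 : Nat.card U ∣ 2 ^ 4 := (card_dvd_of_le inf_le_left).trans (dvd_of_eq (hHbc.trans (by norm_num)))
    obtain ⟨k, hk, hk'⟩ := (Nat.dvd_prime_pow Nat.prime_two).mp h4
    rw [hUC] at hC8
    rw [hk'] at hC8 hU4 ⊢
    interval_cases k <;> simp_all
  obtain ⟨w, hw, hw2⟩ : ∃ w ∈ C, w ^ 2 ≠ 1 := by
    by_contra h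
    push Not at h
    have hab : IsMulCommutative C := ⟨⟨fun a b => Subtype.ext (by
      have ha : a.1⁻¹ = a.1 := inv_eq_of_mul_eq_one_left (by rw [← pow_two]; exact h _ a.2)
      have hb : b.1⁻¹ = b.1 := inv_eq_of_mul_eq_one_left (by rw [← pow_two]; exact h _ b.2)
      have hab' : (a.1 * b.1)⁻¹ = a.1 * b.1 :=
        inv_eq_of_mul_eq_one_left (by rw [← pow_two]; exact h _ (C.mul_mem a.2 b.2))
      show a.1 * b.1 = b.1 * a.1
      rw [← hab', mul_inv_rev, ha, hb])⟩⟩
    have := hminus C inf_le_left hab h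
    omega
  let δ : Hb →* Hb :=
    MonoidHom.mk' (fun u => ⟨f T * u.1 * (f T)⁻¹ * u.1⁻¹, mul_mem (hHbn T _ u.2) (inv_mem u.2)⟩)
      fun a b => by
        apply Subtype.ext
        have hab := hHbab _ (mul_mem (hHbn T _ b.2) (inv_mem b.2)) _ (inv_mem a.2)
        calc f T * (a.1 * b.1) * (f T)⁻¹ * (a.1 * b.1)⁻¹
            = f T * a.1 * (f T)⁻¹ * ((f T * b.1 * (f T)⁻¹ * b.1⁻¹) * a.1⁻¹) := by group
          _ = f T * a.1 * (f T)⁻¹ * (a.1⁻¹ * (f T * b.1 * (f T)⁻¹ * b.1⁻¹)) := by rw [hab.eq]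
          _ = _ := by simp only [Subgroup.coe_mul]; group
  have hker : δ.ker.map Hb.subtype = U := by
    ext u
    constructor
    · rintro ⟨v, hv, rfl⟩
      have h1 : f T * v.1 * (f T)⁻¹ * v.1⁻¹ = 1 := congrArg Subtype.val (MonoidHom.mem_ker.mp hv)
      exact ⟨v.2, mem_centralizer_singleton_iff.mpr (mul_inv_eq_iff_eq_mul.mp (mul_inv_eq_one.mp h1)).symm⟩
    · rintro ⟨h1, h2⟩
      refine ⟨⟨u, h1⟩, MonoidHom.mem_ker.mpr (Subtype.ext ?_), rfl⟩
      show f T * u * (f T)⁻¹ * u⁻¹ = 1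
      rw [← mem_centralizer_singleton_iff.mp h2, mul_inv_cancel_right, mul_inv_cancel]
  have hTT : f T * f T = 1 := by rw [← map_mul, hT, map_one]
  have hrange : δ.range.map Hb.subtype = U := by
    refine eq_of_le_of_card_ge ?_ ?_
    · rintro _ ⟨_, ⟨u, rfl⟩, rfl⟩
      refine ⟨(δ u).2, mem_centralizer_singleton_iff.mpr ?_⟩
      show f T * u.1 * (f T)⁻¹ * u.1⁻¹ * f T = f T * (f T * u.1 * (f T)⁻¹ * u.1⁻¹)
      have hinv2 : ∀ y ∈ Hb, y⁻¹ = y := by
        rintro _ ⟨x, hx, rfl⟩
        exact inv_eq_of_mul_eq_one_left (by rw [← map_mul, hfker]; exact hsq' x hx)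
      have e := (hHbab _ (hHbn T _ u.2) _ u.2).eq
      have hTi : (f T)⁻¹ = f T := inv_eq_of_mul_eq_one_left hTT
      rw [hinv2 _ u.2]
      calc f T * u.1 * (f T)⁻¹ * u.1 * f T = f T * (u.1 * (f T * u.1 * (f T)⁻¹)) := by rw [hTi]; group
        _ = _ := by rw [← e]
    · have h1 := δ.ker.card_mul_index
      rw [index_ker, ← card_map_of_injective (K := δ.ker) Hb.subtype_injective, hker, hHbc, hU4'] at h1
      rw [card_map_of_injective Hb.subtype_injective, hU4']
      omega
  have hfw : f w ∈ δ.range.map Hb.subtype := by rw [hrange, ← hUC]; exact ⟨w, hw, rfl⟩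
  obtain ⟨_, ⟨⟨_, u, hu, rfl⟩, rfl⟩, hu'⟩ := hfw
  have hew : (T * u * T⁻¹ * u⁻¹) * w⁻¹ ∈ Z0 := by
    rw [← hfker, map_mul, map_inv, mul_inv_eq_one, ← hu']
    simp [δ]
  set e := (T * u * T⁻¹ * u⁻¹) * w⁻¹ with he
  have h1 : T * u * T⁻¹ = e * w * u := by rw [he]; group
  have hTw : T * w * T⁻¹ = w := by rw [← mem_centralizer_singleton_iff.mp hw.2, mul_inv_cancel_right]
  have hTe : T * e * T⁻¹ = e := by rw [hZ0z e hew T, mul_inv_cancel_right]
  have hTi : T⁻¹ = T := inv_eq_of_mul_eq_one_left hT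
  have h2 : u = e * e * (w * w) * u := by
    calc u = T * (T * u * T⁻¹) * T⁻¹ := by
          rw [show T * (T * u * T⁻¹) * T⁻¹ = (T * T) * u * (T * T)⁻¹ by group, hT]; simp
      _ = (T * e * T⁻¹) * (T * w * T⁻¹) * (T * u * T⁻¹) := by
          conv_lhs => rw [h1]
          group
      _ = e * w * (e * w * u) := by rw [hTe, hTw, h1]
      _ = e * (w * e) * w * u := by group
      _ = e * (e * w) * w * u := by rw [hZ0z e hew w]
      _ = _ := by group
  have he2 : e * e = 1 := by
    have h8 : (⟨e, hew⟩ : Z0) ^ Nat.card Z0 = 1 := pow_card_eq_one'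
    rw [hZ0c, pow_two] at h8
    exact congrArg Subtype.val h8
  rw [he2, one_mul, right_eq_mul] at h2
  exact hw2 (by rw [pow_two]; exact h2)

end Cfsg.Agent.Techniques.MinusRadical
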